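import Mathlib
import Cfsg.Prelude.Def_CaseTheorems

/-!
# ODD half, D8, row `K = Fi₂₃` (helper907): the facts on `K`

`Sheet K A S a`: everything the kill of `K = Fi₂₃` uses about `K`. `A = 2¹¹` with `N_K(A) = A.M₂₃`, `a 0, …, a 22` the
23 transpositions of `A`, `S ≥ A` a Sylow 2-subgroup. `Has K`: such `A`, `S`, `a` exist.

To be proved for `Spor.Fi23` (`Has` is invariant under isomorphism: `Has.of_equiv` in `Sheet.lean`).
-/

set_option autoImplicit false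

namespace Cfsg.Agent.OddHalf.D8.Fi23

open Subgroup

/-- the facts on `Fi₂₃` -/
structure Sheet (K : Type*) [Group K] (A : Subgroup K) (S : Sylow 2 K) (a : Fin 23 → K) : Prop where
  /-- (A1) `A` is elementary abelian of order `2¹¹` -/
  sq : ∀ x ∈ A, x * x = 1
  cardA : Nat.card A = 2 ^ 11
  self : ∀ x : K, (∀ y ∈ A, x * y = y * x) → x ∈ A
  mem : ∀ i, a i ∈ A
  shape : ∀ x ∈ A, x = 1 ∨ (∃ i, x = a i) ∨ (∃ i j, x = a i * a j) ∨ ∃ i j k, x = a i * a j * a k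
  /-- (A2) `N_K(A)` permutes the `a i`, 3-transitively, and every element fixing 8 of them is in `A` -/
  perm : ∀ n ∈ normalizer (A : Set K), ∀ i, ∃ j, n * a i * n⁻¹ = a j
  three : ∀ i j k i' j' k' : Fin 23, i ≠ j → i ≠ k → j ≠ k → i' ≠ j' → i' ≠ k' → j' ≠ k' →
    ∃ n ∈ normalizer (A : Set K), n * a i * n⁻¹ = a i' ∧ n * a j * n⁻¹ = a j' ∧ n * a k * n⁻¹ = a k'
  fix : ∀ n ∈ normalizer (A : Set K), 8 ≤ {i | n * a i = a i * n}.ncard → n ∈ A
  cardN : Nat.card (normalizer (A : Set K)) = 2 ^ 11 * 10200960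
  /-- (A3) `A` is the only elementary abelian subgroup of order `≥ 2¹¹` of `S` -/
  AS : A ≤ (S : Subgroup K)
  cardS : Nat.card (S : Subgroup K) = 2 ^ 18
  uniq : ∀ B : Subgroup K, B ≤ (S : Subgroup K) → (∀ x ∈ B, x * x = 1) → 2 ^ 11 ≤ Nat.card B → B = A
  /-- three classes of involutions, each in the derived group of its centralizer -/
  inv : ∀ x : K, x * x = 1 → x ≠ 1 → IsConj x (a 0) ∨ IsConj x (a 0 * a 1) ∨ IsConj x (a 0 * a 1 * a 2)
  der2 : a 0 * a 1 ∈ ⁅centralizer ({a 0 * a 1} : Set K), centralizer ({a 0 * a 1} : Set K)⁆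
  der3 : a 0 * a 1 * a 2 ∈
    ⁅centralizer ({a 0 * a 1 * a 2} : Set K), centralizer ({a 0 * a 1 * a 2} : Set K)⁆
  /-- (A4) `C_K(a₀) = 2.Fi₂₂` is quasisimple with centre `⟨a₀⟩`; with `C_K(a₁)` it generates `K` -/
  qs : Cfsg.IsQuasisimple (centralizer ({a 0} : Set K))
  cen : ∀ x : K, (∀ y : K, y * a 0 = a 0 * y → x * y = y * x) → x = 1 ∨ x = a 0
  thirteen : 13 ∣ Nat.card (centralizer ({a 0} : Set K))
  gen : centralizer ({a 0} : Set K) ⊔ centralizer ({a 1} : Set K) = ⊤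
  /-- (A5) orders of the other two centralizers -/
  c2 : ¬ 13 ∣ Nat.card (centralizer ({a 0 * a 1} : Set K))
  c3 : ¬ 13 ∣ Nat.card (centralizer ({a 0 * a 1 * a 2} : Set K))

/-- `K` has the facts of `Fi₂₃` -/
def Has (K : Type*) [Group K] : Prop := ∃ (A : Subgroup K) (S : Sylow 2 K) (a : Fin 23 → K), Sheet K A S a

end Cfsg.Agent.OddHalf.D8.Fi23
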