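import Mathlib

/-!
# The 2048 products of at most three of the 23 elements (helper907)

`Code A a`: `A` elementary abelian of order `2¹¹`, every element is a product of at most three `a i`. As
`1 + 23 + 253 + 1771 = 2¹¹`, all these products are different.
-/

set_option autoImplicit false
set_option linter.style.haveILetI false
set_option linter.unusedVariables false

namespace Cfsg.Agent.OddHalf.D8.Fi23

open Subgroup

/-- the hypotheses -/
structure Code {G : Type*} [Group G] (A : Subgroup G) (a : Fin 23 → G) : Prop where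
  sq : ∀ x ∈ A, x * x = 1
  cardA : Nat.card A = 2 ^ 11
  mem : ∀ i, a i ∈ A
  shape : ∀ x ∈ A, x = 1 ∨ (∃ i, x = a i) ∨ (∃ i j, x = a i * a j) ∨ ∃ i j k, x = a i * a j * a k

namespace Code

variable {G : Type*} [Group G] {A : Subgroup G} {a : Fin 23 → G}

theorem inv_eq (C : Code A a) {x : G} (hx : x ∈ A) : x⁻¹ = x := inv_eq_of_mul_eq_one_left (C.sq x hx)

theorem comm (C : Code A a) {x y : G} (hx : x ∈ A) (hy : y ∈ A) : x * y = y * x := by
  have h := C.inv_eq (A.mul_mem hx hy)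
  rw [mul_inv_rev, C.inv_eq hx, C.inv_eq hy] at h
  exact h.symm

/-- the commutative group -/
noncomputable abbrev cg (C : Code A a) : CommGroup A :=
  { (inferInstance : Group A) with mul_comm := fun x y => Subtype.ext (C.comm x.2 y.2) }

/-- product over a set of indices -/
noncomputable def pr (C : Code A a) (s : Finset (Fin 23)) : G :=
  ((@Finset.prod _ _ C.cg.toCommMonoid s (fun i => (⟨a i, C.mem i⟩ : A)) : A) : G)

theorem pr_mem (C : Code A a) (s : Finset (Fin 23)) : C.pr s ∈ A := Subtype.property _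

theorem pr_empty (C : Code A a) : C.pr ∅ = 1 := by
  letI := C.cg
  show ((∏ i ∈ (∅ : Finset (Fin 23)), (⟨a i, C.mem i⟩ : A) : A) : G) = 1
  rw [Finset.prod_empty]; rfl

theorem pr_insert (C : Code A a) {i : Fin 23} {s : Finset (Fin 23)} (hi : i ∉ s) :
    C.pr (insert i s) = a i * C.pr s := by
  letI := C.cg
  show ((∏ i ∈ insert i s, (⟨a i, C.mem i⟩ : A) : A) : G) = _
  rw [Finset.prod_insert hi]; rfl

theorem pr_singleton (C : Code A a) (i : Fin 23) : C.pr {i} = a i := by
  have h := C.pr_insert (i := i) (s := ∅) (by simp)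
  rw [C.pr_empty, mul_one] at h
  rw [← h]; congr 1

theorem pr_pair (C : Code A a) {i j : Fin 23} (h : i ≠ j) : C.pr {i, j} = a i * a j := by
  rw [C.pr_insert (by simpa using h), C.pr_singleton]

theorem pr_triple (C : Code A a) {i j k : Fin 23} (h1 : i ≠ j) (h2 : i ≠ k) (h3 : j ≠ k) :
    C.pr {i, j, k} = a i * a j * a k := by
  rw [C.pr_insert (by simp [h1, h2]), C.pr_pair h3, mul_assoc]

theorem card_small : Nat.card {s : Finset (Fin 23) // s.card ≤ 3} = 2048 := by
  classical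
  rw [Nat.card_eq_fintype_card, Fintype.card_subtype]
  have h : (Finset.univ.filter (fun s : Finset (Fin 23) => s.card ≤ 3)) =
      (Finset.range 4).biUnion (fun k => Finset.powersetCard k Finset.univ) := by
    ext s
    simp only [Finset.mem_filter, Finset.mem_univ, true_and, Finset.mem_biUnion, Finset.mem_range,
      Finset.mem_powersetCard, Finset.subset_univ]
    constructor
    · intro hs; exact ⟨s.card, by omega, rfl⟩
    · rintro ⟨k, hk, rfl⟩; omega
  rw [h, Finset.card_biUnion]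
  · simp only [Finset.card_powersetCard, Finset.card_univ, Fintype.card_fin]
    decide
  · intro i _ j _ hij
    rw [Function.onFun, Finset.disjoint_left]
    intro s h1 h2
    rw [Finset.mem_powersetCard] at h1 h2
    exact hij (h1.2.symm.trans h2.2)

theorem surj (C : Code A a) {x : G} (hx : x ∈ A) : ∃ s : Finset (Fin 23), s.card ≤ 3 ∧ C.pr s = x := by
  have one : ∃ s : Finset (Fin 23), s.card ≤ 3 ∧ C.pr s = 1 := ⟨∅, by simp, C.pr_empty⟩
  have single : ∀ i, ∃ s : Finset (Fin 23), s.card ≤ 3 ∧ C.pr s = a i :=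
    fun i => ⟨{i}, by simp, C.pr_singleton i⟩
  have hsq : ∀ i, a i * a i = 1 := fun i => C.sq _ (C.mem i)
  rcases C.shape x hx with h | ⟨i, h⟩ | ⟨i, j, h⟩ | ⟨i, j, k, h⟩
  · rw [h]; exact one
  · rw [h]; exact single i
  · by_cases hij : i = j
    · rw [h, hij, hsq]; exact one
    · exact ⟨{i, j}, by rw [Finset.card_pair hij]; decide, by rw [h, C.pr_pair hij]⟩
  · by_cases hij : i = j
    · rw [h, hij, hsq, one_mul]; exact single k
    by_cases hik : i = k
    · rw [h, hik, C.comm (C.mem k) (C.mem j), mul_assoc, hsq, mul_one]; exact single j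
    by_cases hjk : j = k
    · rw [h, hjk, mul_assoc, hsq, mul_one]; exact single i
    refine ⟨{i, j, k}, ?_, by rw [h, C.pr_triple hij hik hjk]⟩
    rw [Finset.card_insert_of_notMem (by simp [hij, hik]), Finset.card_pair hjk]

theorem inj (C : Code A a) {s s' : Finset (Fin 23)} (hs : s.card ≤ 3) (hs' : s'.card ≤ 3)
    (h : C.pr s = C.pr s') : s = s' := by
  let F : {s : Finset (Fin 23) // s.card ≤ 3} → A := fun s => ⟨C.pr s.1, C.pr_mem s.1⟩
  have hF : Function.Surjective F := by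
    rintro ⟨x, hx⟩
    obtain ⟨s, h1, h2⟩ := C.surj hx
    exact ⟨⟨s, h1⟩, Subtype.ext h2⟩
  have hb : Function.Bijective F := by
    apply hF.bijective_of_nat_card_le
    rw [card_small, C.cardA]; norm_num
  have := hb.1 (a₁ := ⟨s, hs⟩) (a₂ := ⟨s', hs'⟩) (Subtype.ext h)
  exact congrArg Subtype.val this

theorem a_ne_one (C : Code A a) (i : Fin 23) : a i ≠ 1 := by
  intro h
  have := C.inj (s := {i}) (s' := ∅) (by simp) (by simp) (by rw [C.pr_singleton, C.pr_empty, h])
  simp at this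

theorem a_inj (C : Code A a) {i j : Fin 23} (h : a i = a j) : i = j := by
  have := C.inj (s := {i}) (s' := {j}) (by simp) (by simp) (by rw [C.pr_singleton, C.pr_singleton, h])
  simpa using this

theorem pair_ne_one (C : Code A a) {i j : Fin 23} (hij : i ≠ j) : a i * a j ≠ 1 := by
  intro h
  apply hij
  apply C.a_inj
  rw [mul_eq_one_iff_eq_inv, C.inv_eq (C.mem j)] at h
  exact h

theorem card_pair_le {i j : Fin 23} : ({i, j} : Finset (Fin 23)).card ≤ 3 :=
  (Finset.card_le_two).trans (by norm_num)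

theorem card_triple_le {i j k : Fin 23} : ({i, j, k} : Finset (Fin 23)).card ≤ 3 := Finset.card_le_three

theorem pair_ne_a (C : Code A a) {i j k : Fin 23} (hij : i ≠ j) : a i * a j ≠ a k := by
  intro h
  have h1 := C.inj (s := {i, j}) (s' := {k}) card_pair_le (by simp)
    (by rw [C.pr_pair hij, C.pr_singleton, h])
  have h2 := congrArg Finset.card h1
  rw [Finset.card_pair hij, Finset.card_singleton] at h2
  omega

theorem pair_eq (C : Code A a) {i j k l : Fin 23} (hij : i ≠ j) (hkl : k ≠ l)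
    (h : a i * a j = a k * a l) : (i = k ∧ j = l) ∨ (i = l ∧ j = k) := by
  have h1 := C.inj (s := {i, j}) (s' := {k, l}) card_pair_le card_pair_le
    (by rw [C.pr_pair hij, C.pr_pair hkl, h])
  have hi : i ∈ ({k, l} : Finset (Fin 23)) := by rw [← h1]; simp
  have hj : j ∈ ({k, l} : Finset (Fin 23)) := by rw [← h1]; simp
  simp only [Finset.mem_insert, Finset.mem_singleton] at hi hj
  rcases hi with rfl | rfl <;> rcases hj with rfl | rfl
  · exact absurd rfl hij
  · exact Or.inl ⟨rfl, rfl⟩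
  · exact Or.inr ⟨rfl, rfl⟩
  · exact absurd rfl hij

theorem triple_ne_one (C : Code A a) {i j k : Fin 23} (h1 : i ≠ j) (h2 : i ≠ k) (h3 : j ≠ k) :
    a i * a j * a k ≠ 1 := by
  intro h
  rw [mul_eq_one_iff_eq_inv, C.inv_eq (C.mem k)] at h
  exact C.pair_ne_a h1 h

theorem card_triple {i j k : Fin 23} (h1 : i ≠ j) (h2 : i ≠ k) (h3 : j ≠ k) :
    ({i, j, k} : Finset (Fin 23)).card = 3 := by
  rw [Finset.card_insert_of_notMem (by simp [h1, h2]), Finset.card_pair h3]

theorem triple_ne_a (C : Code A a) {i j k l : Fin 23} (h1 : i ≠ j) (h2 : i ≠ k) (h3 : j ≠ k) :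
    a i * a j * a k ≠ a l := by
  intro h
  have e := C.inj (s := {i, j, k}) (s' := {l}) card_triple_le (by simp)
    (by rw [C.pr_triple h1 h2 h3, C.pr_singleton, h])
  have h4 := congrArg Finset.card e
  rw [card_triple h1 h2 h3, Finset.card_singleton] at h4
  omega

theorem triple_ne_pair (C : Code A a) {i j k l m : Fin 23} (h1 : i ≠ j) (h2 : i ≠ k) (h3 : j ≠ k)
    (h4 : l ≠ m) : a i * a j * a k ≠ a l * a m := by
  intro h
  have e := C.inj (s := {i, j, k}) (s' := {l, m}) card_triple_le card_pair_le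
    (by rw [C.pr_triple h1 h2 h3, C.pr_pair h4, h])
  have h5 := congrArg Finset.card e
  rw [card_triple h1 h2 h3, Finset.card_pair h4] at h5
  omega

/-- the elements of weight `k` -/
def P (C : Code A a) (k : ℕ) : Set G := {x | ∃ s : Finset (Fin 23), s.card = k ∧ x = C.pr s}

theorem ncard_P (C : Code A a) {k : ℕ} (hk : k ≤ 3) : (C.P k).ncard = Nat.choose 23 k := by
  classical
  have h : C.P k = (fun s => C.pr s) '' (↑(Finset.powersetCard k (Finset.univ : Finset (Fin 23))) :
      Set (Finset (Fin 23))) := by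
    ext x
    constructor
    · rintro ⟨s, h1, h2⟩
      exact ⟨s, by simp [h1], h2.symm⟩
    · rintro ⟨s, h1, h2⟩
      exact ⟨s, (Finset.mem_powersetCard.1 (Finset.mem_coe.1 h1)).2, h2.symm⟩
  rw [h, Set.ncard_image_of_injOn, Set.ncard_coe_finset, Finset.card_powersetCard, Finset.card_univ,
    Fintype.card_fin]
  intro s hs s' hs' e
  have h1 := (Finset.mem_powersetCard.1 (Finset.mem_coe.1 hs)).2
  have h2 := (Finset.mem_powersetCard.1 (Finset.mem_coe.1 hs')).2
  exact C.inj (by omega) (by omega) e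

theorem disj_P (C : Code A a) {k l : ℕ} (hk : k ≤ 3) (hl : l ≤ 3) (hkl : k ≠ l) :
    Disjoint (C.P k) (C.P l) := by
  rw [Set.disjoint_left]
  rintro x ⟨s, h1, h2⟩ ⟨s', h3, h4⟩
  have := C.inj (s := s) (s' := s') (by omega) (by omega) (by rw [← h2, ← h4])
  subst this
  omega

theorem mem_P_of_mem (C : Code A a) {x : G} (hx : x ∈ A) :
    x ∈ C.P 0 ∨ x ∈ C.P 1 ∨ x ∈ C.P 2 ∨ x ∈ C.P 3 := by
  obtain ⟨s, h1, h2⟩ := C.surj hx
  have : s.card = 0 ∨ s.card = 1 ∨ s.card = 2 ∨ s.card = 3 := by omega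
  rcases this with h | h | h | h
  · exact Or.inl ⟨s, h, h2.symm⟩
  · exact Or.inr (Or.inl ⟨s, h, h2.symm⟩)
  · exact Or.inr (Or.inr (Or.inl ⟨s, h, h2.symm⟩))
  · exact Or.inr (Or.inr (Or.inr ⟨s, h, h2.symm⟩))

theorem mem_P_zero (C : Code A a) {x : G} : x ∈ C.P 0 ↔ x = 1 := by
  constructor
  · rintro ⟨s, h1, rfl⟩
    rw [Finset.card_eq_zero.1 h1, C.pr_empty]
  · rintro rfl
    exact ⟨∅, rfl, C.pr_empty.symm⟩

theorem mem_P_one (C : Code A a) {x : G} : x ∈ C.P 1 ↔ ∃ i, x = a i := by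
  constructor
  · rintro ⟨s, h1, rfl⟩
    obtain ⟨i, rfl⟩ := Finset.card_eq_one.1 h1
    exact ⟨i, C.pr_singleton i⟩
  · rintro ⟨i, rfl⟩
    exact ⟨{i}, by simp, (C.pr_singleton i).symm⟩

theorem mem_P_two (C : Code A a) {x : G} : x ∈ C.P 2 ↔ ∃ i j, i ≠ j ∧ x = a i * a j := by
  constructor
  · rintro ⟨s, h1, rfl⟩
    obtain ⟨i, j, hij, rfl⟩ := Finset.card_eq_two.1 h1
    exact ⟨i, j, hij, C.pr_pair hij⟩
  · rintro ⟨i, j, hij, rfl⟩
    exact ⟨{i, j}, Finset.card_pair hij, (C.pr_pair hij).symm⟩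

theorem mem_P_three (C : Code A a) {x : G} :
    x ∈ C.P 3 ↔ ∃ i j k, i ≠ j ∧ i ≠ k ∧ j ≠ k ∧ x = a i * a j * a k := by
  constructor
  · rintro ⟨s, h0, rfl⟩
    obtain ⟨i, j, k, h1, h2, h3, rfl⟩ := Finset.card_eq_three.1 h0
    exact ⟨i, j, k, h1, h2, h3, C.pr_triple h1 h2 h3⟩
  · rintro ⟨i, j, k, h1, h2, h3, rfl⟩
    exact ⟨{i, j, k}, card_triple h1 h2 h3, (C.pr_triple h1 h2 h3).symm⟩

end Code

end Cfsg.Agent.OddHalf.D8.Fi23
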