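import Cfsg.Agent.OddHalf.D8.Fi23.Facts
import Cfsg.Agent.OddHalf.D8.Fi23.Code
import Cfsg.Agent.SignalizersComponents.Components

/-!
# The facts on `K = Fi₂₃` for a subgroup `K` of `G` (helper907)

`Loc K A S a`: the facts of `Sheet`, for subgroups `A ≤ S ≤ K` of a group `G` and for all indices. `Loc.of_sheet`:
`Sheet ↥K A S a` implies `Loc`.
-/

set_option autoImplicit false

namespace Cfsg.Agent.OddHalf.D8.Fi23

open Subgroup Cfsg

/-- the facts inside `G` -/
structure Loc {G : Type*} [Group G] (K A S : Subgroup G) (a : Fin 23 → G) : Prop extends Code A a where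
  AS : A ≤ S
  SK : S ≤ K
  pS : IsPGroup 2 S
  sylow : ∀ P : Subgroup G, P ≤ K → IsPGroup 2 P → ∃ k ∈ K, ∀ x ∈ P, k * x * k⁻¹ ∈ S
  self : ∀ x ∈ K, (∀ y ∈ A, x * y = y * x) → x ∈ A
  perm : ∀ n ∈ K, n ∈ normalizer (A : Set G) → ∀ i, ∃ j, n * a i * n⁻¹ = a j
  three : ∀ i j k i' j' k' : Fin 23, i ≠ j → i ≠ k → j ≠ k → i' ≠ j' → i' ≠ k' → j' ≠ k' →
    ∃ n ∈ K, n ∈ normalizer (A : Set G) ∧ n * a i * n⁻¹ = a i' ∧ n * a j * n⁻¹ = a j' ∧
      n * a k * n⁻¹ = a k'
  fix : ∀ n ∈ K, n ∈ normalizer (A : Set G) → 8 ≤ {i | n * a i = a i * n}.ncard → n ∈ A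
  cardN : Nat.card ↥(K ⊓ normalizer (A : Set G)) = 2 ^ 11 * 10200960
  cardS : Nat.card S = 2 ^ 18
  uniq : ∀ B : Subgroup G, B ≤ S → (∀ x ∈ B, x * x = 1) → 2 ^ 11 ≤ Nat.card B → B = A
  inv : ∀ x ∈ K, x * x = 1 → x ≠ 1 → ∃ k ∈ K, k * x * k⁻¹ ∈ A
  der : ∀ x ∈ K, x * x = 1 → x ≠ 1 → x ∈ ⁅K ⊓ centralizer ({x} : Set G), K ⊓ centralizer ({x} : Set G)⁆
  qs : ∀ i, IsQuasisimple ↥(K ⊓ centralizer ({a i} : Set G))
  cen : ∀ i, ∀ x ∈ K, (∀ y ∈ K, y * a i = a i * y → x * y = y * x) → x = 1 ∨ x = a i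
  thirteen : ∀ i, 13 ∣ Nat.card ↥(K ⊓ centralizer ({a i} : Set G))
  gen : ∀ i j, i ≠ j → K ≤ (K ⊓ centralizer ({a i} : Set G)) ⊔ (K ⊓ centralizer ({a j} : Set G))
  c2 : ∀ i j, i ≠ j → ¬ 13 ∣ Nat.card ↥(K ⊓ centralizer ({a i * a j} : Set G))
  c3 : ∀ i j k, i ≠ j → i ≠ k → j ≠ k → ¬ 13 ∣ Nat.card ↥(K ⊓ centralizer ({a i * a j * a k} : Set G))

section Index

theorem exists_two (i : Fin 23) : ∃ j k, i ≠ j ∧ i ≠ k ∧ j ≠ k := by
  revert i; decide

theorem exists_third (i j : Fin 23) : ∃ k, i ≠ k ∧ j ≠ k := by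
  revert i j; decide

end Index

namespace Sheet

variable {K : Type*} [Group K] {A : Subgroup K} {S : Sylow 2 K} {a : Fin 23 → K}

theorem code (h : Sheet K A S a) : Code A a := ⟨h.sq, h.cardA, h.mem, h.shape⟩

theorem two (h : Sheet K A S a) {i j i' j' : Fin 23} (h1 : i ≠ j) (h2 : i' ≠ j') :
    ∃ n ∈ normalizer (A : Set K), n * a i * n⁻¹ = a i' ∧ n * a j * n⁻¹ = a j' := by
  obtain ⟨k, h3, h4⟩ := exists_third i j
  obtain ⟨k', h5, h6⟩ := exists_third i' j'
  obtain ⟨n, hn, e1, e2, -⟩ := h.three i j k i' j' k' h1 h3 h4 h2 h5 h6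
  exact ⟨n, hn, e1, e2⟩

theorem one (h : Sheet K A S a) (i i' : Fin 23) : ∃ n ∈ normalizer (A : Set K), n * a i * n⁻¹ = a i' := by
  obtain ⟨j, -, h1, -⟩ := exists_two i
  obtain ⟨j', -, h2, -⟩ := exists_two i'
  obtain ⟨n, hn, e1, -⟩ := h.two h1 h2
  exact ⟨n, hn, e1⟩

/-- conjugation of centralizers -/
theorem map_centralizer (n x : K) : (centralizer ({x} : Set K)).map (MulAut.conj n).toMonoidHom =
    centralizer ({n * x * n⁻¹} : Set K) := by
  ext y
  rw [mem_map, mem_centralizer_singleton_iff]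
  constructor
  · rintro ⟨z, hz, rfl⟩
    rw [mem_centralizer_singleton_iff] at hz
    show n * z * n⁻¹ * (n * x * n⁻¹) = n * x * n⁻¹ * (n * z * n⁻¹)
    calc n * z * n⁻¹ * (n * x * n⁻¹) = n * (z * x) * n⁻¹ := by group
      _ = n * (x * z) * n⁻¹ := by rw [hz]
      _ = n * x * n⁻¹ * (n * z * n⁻¹) := by group
  · intro hy
    refine ⟨n⁻¹ * y * n, ?_, ?_⟩
    · rw [mem_centralizer_singleton_iff]
      calc n⁻¹ * y * n * x = n⁻¹ * (y * (n * x * n⁻¹)) * n := by group
        _ = n⁻¹ * (n * x * n⁻¹ * y) * n := by rw [hy]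
        _ = x * (n⁻¹ * y * n) := by group
    · show n * (n⁻¹ * y * n) * n⁻¹ = y
      group

theorem card_centralizer (n x : K) : Nat.card (centralizer ({n * x * n⁻¹} : Set K)) =
    Nat.card (centralizer ({x} : Set K)) := by
  rw [← map_centralizer]
  exact (Nat.card_congr ((centralizer ({x} : Set K)).equivMapOfInjective _
    (MulAut.conj n).injective).toEquiv).symm

theorem mem_der (n x : K) (hx : x ∈ ⁅centralizer ({x} : Set K), centralizer ({x} : Set K)⁆) :
    n * x * n⁻¹ ∈ ⁅centralizer ({n * x * n⁻¹} : Set K), centralizer ({n * x * n⁻¹} : Set K)⁆ := by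
  rw [← map_centralizer, ← Subgroup.map_commutator]
  exact ⟨x, hx, rfl⟩

theorem qs' (h : Sheet K A S a) (i : Fin 23) : IsQuasisimple (centralizer ({a i} : Set K)) := by
  obtain ⟨n, -, hn⟩ := h.one 0 i
  rw [← hn, ← map_centralizer]
  exact Cfsg.Agent.SignalizersComponents.Components.isQuasisimple_of_mulEquiv
    ((centralizer ({a 0} : Set K)).equivMapOfInjective _ (MulAut.conj n).injective) h.qs

theorem perf (h : Sheet K A S a) (i : Fin 23) :
    ⁅centralizer ({a i} : Set K), centralizer ({a i} : Set K)⁆ = centralizer ({a i} : Set K) := by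
  have := (h.qs' i).1
  exact Subgroup.commutator_eq_self

theorem der (h : Sheet K A S a) {x : K} (hx : x * x = 1) (hx1 : x ≠ 1) :
    x ∈ ⁅centralizer ({x} : Set K), centralizer ({x} : Set K)⁆ := by
  have key : ∀ y : K, IsConj x y → y ∈ ⁅centralizer ({y} : Set K), centralizer ({y} : Set K)⁆ →
      x ∈ ⁅centralizer ({x} : Set K), centralizer ({x} : Set K)⁆ := by
    intro y hy hd
    obtain ⟨n, hn⟩ := isConj_iff.1 hy.symm
    rw [← hn]
    exact mem_der n y hd
  rcases h.inv x hx hx1 with h1 | h1 | h1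
  · refine key _ h1 ?_
    rw [h.perf 0]
    exact mem_centralizer_singleton_iff.2 rfl
  · exact key _ h1 h.der2
  · exact key _ h1 h.der3

theorem cen' (h : Sheet K A S a) (i : Fin 23) {x : K} (hx : ∀ y : K, y * a i = a i * y → x * y = y * x) :
    x = 1 ∨ x = a i := by
  obtain ⟨n, -, hn⟩ := h.one i 0
  have h1 : ∀ y : K, y * a 0 = a 0 * y → (n * x * n⁻¹) * y = y * (n * x * n⁻¹) := by
    intro y hy
    have h2 : (n⁻¹ * y * n) * a i = a i * (n⁻¹ * y * n) := by
      calc (n⁻¹ * y * n) * a i = n⁻¹ * (y * (n * a i * n⁻¹)) * n := by group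
        _ = n⁻¹ * (y * a 0) * n := by rw [hn]
        _ = n⁻¹ * (a 0 * y) * n := by rw [hy]
        _ = n⁻¹ * ((n * a i * n⁻¹) * y) * n := by rw [hn]
        _ = a i * (n⁻¹ * y * n) := by group
    have h3 := hx _ h2
    calc (n * x * n⁻¹) * y = n * (x * (n⁻¹ * y * n)) * n⁻¹ := by group
      _ = n * ((n⁻¹ * y * n) * x) * n⁻¹ := by rw [h3]
      _ = y * (n * x * n⁻¹) := by group
  rcases h.cen _ h1 with h2 | h2
  · left
    rw [mul_inv_eq_one] at h2
    exact mul_eq_left.1 h2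
  · right
    rw [← hn] at h2
    exact mul_left_cancel (mul_right_cancel h2)

theorem thirteen' (h : Sheet K A S a) (i : Fin 23) : 13 ∣ Nat.card (centralizer ({a i} : Set K)) := by
  obtain ⟨n, -, hn⟩ := h.one 0 i
  rw [← hn, card_centralizer]
  exact h.thirteen

theorem gen' (h : Sheet K A S a) {i j : Fin 23} (hij : i ≠ j) :
    centralizer ({a i} : Set K) ⊔ centralizer ({a j} : Set K) = ⊤ := by
  obtain ⟨n, -, h1, h2⟩ := h.two (i := 0) (j := 1) (by decide) hij
  rw [← h1, ← h2, ← map_centralizer, ← map_centralizer, ← Subgroup.map_sup, h.gen]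
  exact Subgroup.map_top_of_surjective _ (MulAut.conj n).surjective

theorem c2' (h : Sheet K A S a) {i j : Fin 23} (hij : i ≠ j) :
    ¬ 13 ∣ Nat.card (centralizer ({a i * a j} : Set K)) := by
  obtain ⟨n, -, h1, h2⟩ := h.two (i := 0) (j := 1) (by decide) hij
  have e : a i * a j = n * (a 0 * a 1) * n⁻¹ := by rw [← h1, ← h2]; group
  rw [e, card_centralizer]
  exact h.c2

theorem c3' (h : Sheet K A S a) {i j k : Fin 23} (hij : i ≠ j) (hik : i ≠ k) (hjk : j ≠ k) :
    ¬ 13 ∣ Nat.card (centralizer ({a i * a j * a k} : Set K)) := by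
  obtain ⟨n, -, h1, h2, h3⟩ := h.three 0 1 2 i j k (by decide) (by decide) (by decide) hij hik hjk
  have e : a i * a j * a k = n * (a 0 * a 1 * a 2) * n⁻¹ := by rw [← h1, ← h2, ← h3]; group
  rw [e, card_centralizer]
  exact h.c3

end Sheet

section Transport

variable {G : Type*} [Group G] {K : Subgroup G}

theorem map_cen (x : K) : (centralizer ({x} : Set K)).map K.subtype = K ⊓ centralizer ({(x : G)} : Set G) := by
  ext y
  rw [mem_map, mem_inf, mem_centralizer_singleton_iff]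
  constructor
  · rintro ⟨z, hz, rfl⟩
    exact ⟨z.2, congrArg Subtype.val (mem_centralizer_singleton_iff.1 hz)⟩
  · rintro ⟨h1, h2⟩
    exact ⟨⟨y, h1⟩, mem_centralizer_singleton_iff.2 (Subtype.ext h2), rfl⟩

theorem card_map_subtype (H : Subgroup K) : Nat.card (H.map K.subtype) = Nat.card H :=
  (Nat.card_congr (H.equivMapOfInjective _ K.subtype_injective).toEquiv).symm

theorem mem_norm {A : Subgroup K} (n : K) :
    (n : G) ∈ normalizer ((A.map K.subtype : Subgroup G) : Set G) ↔ n ∈ normalizer (A : Set K) := by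
  have hm : ∀ x : K, (x : G) ∈ A.map K.subtype ↔ x ∈ A := by
    intro x
    constructor
    · rintro ⟨y, hy, hxy⟩
      have : y = x := Subtype.ext hxy
      rwa [← this]
    · intro hx; exact ⟨x, hx, rfl⟩
  rw [mem_normalizer_iff, mem_normalizer_iff]
  constructor
  · intro h x
    rw [← hm x, ← hm]
    exact h x
  · intro h x
    constructor
    · rintro ⟨y, hy, rfl⟩
      exact (hm _).2 ((h y).1 hy)
    · intro hx
      have hxK : x ∈ K := by
        obtain ⟨y, hy, hxy⟩ := hx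
        have e : x = (n : G)⁻¹ * (y : G) * n := by
          have : (y : G) = n * x * (n : G)⁻¹ := hxy
          rw [this]; group
        rw [e]
        exact K.mul_mem (K.mul_mem (K.inv_mem n.2) y.2) n.2
      have h1 : n * ⟨x, hxK⟩ * n⁻¹ ∈ A := (hm _).1 hx
      exact (hm ⟨x, hxK⟩).2 ((h _).2 h1)

theorem Loc.of_sheet [Finite G] {A : Subgroup K} {S : Sylow 2 K} {a : Fin 23 → K} (h : Sheet K A S a) :
    Loc K (A.map K.subtype) ((S : Subgroup K).map K.subtype) (fun i => (a i : G)) where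
  sq := by
    rintro _ ⟨x, hx, rfl⟩
    exact congrArg Subtype.val (h.sq x hx)
  cardA := by rw [card_map_subtype, h.cardA]
  mem := fun i => ⟨a i, h.mem i, rfl⟩
  shape := by
    rintro _ ⟨x, hx, rfl⟩
    rcases h.shape x hx with h1 | ⟨i, h1⟩ | ⟨i, j, h1⟩ | ⟨i, j, k, h1⟩
    · exact Or.inl (congrArg Subtype.val h1)
    · exact Or.inr (Or.inl ⟨i, congrArg Subtype.val h1⟩)
    · exact Or.inr (Or.inr (Or.inl ⟨i, j, congrArg Subtype.val h1⟩))
    · exact Or.inr (Or.inr (Or.inr ⟨i, j, k, congrArg Subtype.val h1⟩))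
  AS := map_mono h.AS
  SK := map_subtype_le _
  pS := S.isPGroup'.map _
  sylow := by
    intro P hP hpP
    obtain ⟨Q, hQ⟩ := (hpP.comap_of_injective K.subtype K.subtype_injective).exists_le_sylow
    obtain ⟨k, hk⟩ := MulAction.exists_smul_eq K Q S
    refine ⟨k, k.2, fun x hx => ?_⟩
    have h1 : (⟨x, hP hx⟩ : K) ∈ (Q : Subgroup K) := hQ hx
    have h2 : MulAut.conj k (⟨x, hP hx⟩ : K) ∈ (S : Subgroup K) := by
      rw [← hk]
      exact Subgroup.smul_mem_pointwise_smul _ (MulAut.conj k) (Q : Subgroup K) h1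
    exact ⟨_, h2, rfl⟩
  self := by
    intro x hx hc
    refine ⟨⟨x, hx⟩, h.self _ (fun y hy => Subtype.ext (hc y ⟨y, hy, rfl⟩)), rfl⟩
  perm := by
    intro n hn hN i
    obtain ⟨j, hj⟩ := h.perm ⟨n, hn⟩ ((mem_norm ⟨n, hn⟩).1 hN) i
    exact ⟨j, congrArg Subtype.val hj⟩
  three := by
    intro i j k i' j' k' h1 h2 h3 h4 h5 h6
    obtain ⟨n, hn, e1, e2, e3⟩ := h.three i j k i' j' k' h1 h2 h3 h4 h5 h6
    exact ⟨n, n.2, (mem_norm n).2 hn, congrArg Subtype.val e1, congrArg Subtype.val e2,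
      congrArg Subtype.val e3⟩
  fix := by
    intro n hn hN h8
    have h1 : {i | n * (a i : G) = (a i : G) * n} = {i | (⟨n, hn⟩ : K) * a i = a i * ⟨n, hn⟩} := by
      ext i
      constructor
      · intro hi; exact Subtype.ext hi
      · intro hi; exact congrArg Subtype.val hi
    rw [h1] at h8
    exact ⟨⟨n, hn⟩, h.fix _ ((mem_norm ⟨n, hn⟩).1 hN) h8, rfl⟩
  cardN := by
    rw [← h.cardN, ← card_map_subtype (K := K)]
    congr 1
    have : K ⊓ normalizer ((A.map K.subtype : Subgroup G) : Set G) =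
        (normalizer (A : Set K)).map K.subtype := by
      ext x
      rw [mem_inf, mem_map]
      constructor
      · rintro ⟨h1, h2⟩
        exact ⟨⟨x, h1⟩, (mem_norm ⟨x, h1⟩).1 h2, rfl⟩
      · rintro ⟨y, hy, rfl⟩
        exact ⟨y.2, (mem_norm y).2 hy⟩
    rw [this]
  cardS := by rw [card_map_subtype, h.cardS]
  uniq := by
    intro B hB hsq hc
    have hBK : B ≤ K := hB.trans (map_subtype_le _)
    have e : (B.subgroupOf K).map K.subtype = B := by
      rw [subgroupOf_map_subtype, inf_eq_left.2 hBK]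
    have h1 : B.subgroupOf K = A := by
      apply h.uniq
      · intro x hx
        obtain ⟨y, hy, hxy⟩ := hB (show (x : G) ∈ B from hx)
        have : y = x := Subtype.ext hxy
        rwa [← this]
      · intro x hx
        exact Subtype.ext (hsq x hx)
      · rw [← card_map_subtype, e]; exact hc
    rw [← e, h1]
  inv := by
    intro x hx hsq hx1
    have hA : ∀ y : K, IsConj (⟨x, hx⟩ : K) y → y ∈ A → ∃ k ∈ K, k * x * k⁻¹ ∈ A.map K.subtype := by
      intro y hy hyA
      obtain ⟨k, hk⟩ := isConj_iff.1 hy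
      refine ⟨k, k.2, y, hyA, ?_⟩
      rw [← hk]; rfl
    rcases h.inv ⟨x, hx⟩ (Subtype.ext hsq) (fun e => hx1 (congrArg Subtype.val e)) with h1 | h1 | h1
    · exact hA _ h1 (h.mem 0)
    · exact hA _ h1 (A.mul_mem (h.mem 0) (h.mem 1))
    · exact hA _ h1 (A.mul_mem (A.mul_mem (h.mem 0) (h.mem 1)) (h.mem 2))
  der := by
    intro x hx hsq hx1
    have h1 := h.der (x := ⟨x, hx⟩) (Subtype.ext hsq) (fun e => hx1 (congrArg Subtype.val e))
    rw [← map_cen ⟨x, hx⟩, ← Subgroup.map_commutator]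
    exact ⟨_, h1, rfl⟩
  qs := by
    intro i
    rw [← map_cen (a i)]
    exact Cfsg.Agent.SignalizersComponents.Components.isQuasisimple_of_mulEquiv
      ((centralizer ({a i} : Set K)).equivMapOfInjective _ K.subtype_injective) (h.qs' i)
  cen := by
    intro i x hx hc
    rcases h.cen' i (x := ⟨x, hx⟩) (fun y hy => Subtype.ext (hc y y.2 (congrArg Subtype.val hy))) with h1 | h1
    · exact Or.inl (congrArg Subtype.val h1)
    · exact Or.inr (congrArg Subtype.val h1)
  thirteen := by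
    intro i
    rw [← map_cen (a i), card_map_subtype]
    exact h.thirteen' i
  gen := by
    intro i j hij
    rw [← map_cen (a i), ← map_cen (a j), ← Subgroup.map_sup, h.gen' hij, ← MonoidHom.range_eq_map,
      Subgroup.range_subtype]
  c2 := by
    intro i j hij
    have h1 := h.c2' hij
    rwa [← card_map_subtype, map_cen (a i * a j)] at h1
  c3 := by
    intro i j k h1 h2 h3
    have h4 := h.c3' h1 h2 h3
    rwa [← card_map_subtype, map_cen (a i * a j * a k)] at h4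

end Transport

end Cfsg.Agent.OddHalf.D8.Fi23
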