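import Cfsg.Agent.OddHalf.Orders.KnownFi23
import Cfsg.Agent.OddHalf.Orders.Quo
import Cfsg.Agent.OddHalf.D8.Fi22.OrdEven
import Cfsg.Agent.OddHalf.D8.Fi23.Loc

/-!
# ODD half, D8, row `K = Fi₂₃` (helper907): the pump-up of `2.Fi₂₂` by orders
-/

set_option autoImplicit false

namespace Cfsg.Agent.OddHalf.D8.Fi23

open scoped commutatorElement
open Subgroup Cfsg Cfsg.Agent.OddHalf.Iface Cfsg.Agent.OddHalf.D9.Cut

universe u

/-- the orders of the sporadic groups with even multiplier: only `Fi₂₂` -/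
def SporOrd : Prop := ∀ (X : Type u) [Group X], (Spor.IsoM12 X ∨ Spor.IsoJ2 X ∨
  Spor.IsoHS X ∨ Spor.IsoSuz X ∨ Spor.IsoRu X ∨ Spor.IsoFi22 X ∨ Spor.IsoCo1 X ∨ Spor.IsoB X ∨ Spor.IsoM22 X) →
    64561751654400 ∣ Nat.card X → Nat.card X ≤ 2044735236646502400 → Nat.card X = 64561751654400

theorem exc2_fi23 (O : SporOrd.{u}) {X : Type u} [Group X] (h : Exc2 X) (h0 : 64561751654400 ∣ Nat.card X)
    (hp : 0 < Nat.card X) (hN : Nat.card X ≤ 2044735236646502400) : Nat.card X = 64561751654400 := by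
  have hlt : ∀ {c : ℕ}, Nat.card X = c → c < 64561751654400 → False := by
    intro c h1 h2
    have := Nat.le_of_dvd hp h0
    omega
  rcases h with h | h | h | h | h | h | h | h | h | h | h | h | h | h
  · exact (hlt (Fi22.OrdEven.card_u62 h) (by norm_num)).elim
  · exact (hlt (Fi22.OrdEven.card_sp62 h) (by norm_num)).elim
  · exact (hlt (Fi22.OrdEven.card_o82 h) (by norm_num)).elim
  · exact (hlt (Fi22.OrdEven.card_g24 h) (by norm_num)).elim
  · rw [Fi22.OrdEven.card_f42 h] at h0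
    exact absurd h0 (by norm_num)
  · obtain ⟨F, i1, i2, hF, he⟩ := h
    exact (Orders.e26_fi23 ⟨F, i1, i2, 2, Nat.prime_two.isPrimePow, by rw [hF]; norm_num, he⟩ hN).elim
  · exact O X (by tauto) h0 hN
  · exact O X (by tauto) h0 hN
  · exact O X (by tauto) h0 hN
  · exact O X (by tauto) h0 hN
  · exact O X (by tauto) h0 hN
  · exact O X (by tauto) h0 hN
  · exact O X (by tauto) h0 hN
  · exact O X (by tauto) h0 hN

theorem exc4_fi23 (O : SporOrd.{u}) {X : Type u} [Group X] (h : Exc4 X) (h0 : 64561751654400 ∣ Nat.card X)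
    (hp : 0 < Nat.card X) (hN : Nat.card X ≤ 2044735236646502400) : Nat.card X = 64561751654400 := by
  rcases h with h | h
  · have := Nat.le_of_dvd hp h0
    rw [Fi22.OrdEven.card_l34 h] at this
    omega
  · exact O X (by tauto) h0 hN

/-- **the pump-up of `2.Fi₂₂`** -/
theorem pump (M : Mult.{u}) (O : SporOrd.{u}) {G : Type u} [Group G] (C : Ctx G) {K : Subgroup G} (S : Std G K)
    (hK : Nat.card K = 4089470473293004800) {a : G} {D J : Subgroup G} (ha : orderOf a = 2) (hD : CompOf a D)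
    (hJD : J < D) (haJ : a ∈ J) (hJp : ⁅J, J⁆ = J)
    (hJz : ∀ x ∈ J, (∀ y ∈ J, x * y = y * x) → x = 1 ∨ x = a) (hJc : Nat.card J = 129123503308800) : False := by
  obtain ⟨Y, _, hY, hcen, hk, hna, h0, hN, hne⟩ := Orders.Quo.exists_cover C S (n := 64561751654400)
    (N := 2044735236646502400) (by rw [hK]; norm_num) ha hD hJD.le hJD.ne haJ hJp hJz (by rw [hJc])
  have := hY.1
  have hp : 0 < Nat.card (Y ⧸ center Y) := Nat.card_pos
  have hs := Orders.spor_of_fi23 hk hna h0 hN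
  exact hcen (M.spor Y hY hs (fun h => hne (exc2_fi23 O h h0 hp hN)) fun h => hne (exc4_fi23 O h h0 hp hN))

end Cfsg.Agent.OddHalf.D8.Fi23
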