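import Cfsg.Agent.MTwelveType.SylowModel
import Cfsg.Agent.SporadicA.MathieuRecog
import Cfsg.Agent.S1694
import Cfsg.Agent.S1619
import Cfsg.Agent.S1627
import Cfsg.Agent.S0399
import Cfsg.Agent.R01.Fi22Facts
import Cfsg.Agent.KFacts.HS.Base
import Cfsg.Agent.BM.KHAll
import Cfsg.Agent.OddHalf.D8.Fi23.Pump

/-!
# ODD half, D8, row `K = Fi₂₃` (helper907): the orders of the sporadic groups with even multiplier
-/

set_option autoImplicit false

namespace Cfsg.Agent.OddHalf.D8.Fi23

open Cfsg

universe u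

theorem sporOrd : SporOrd.{u} := by
  intro X _ h h0 hN
  have hlt : ∀ {c : ℕ}, Nat.card X = c → ¬ 64561751654400 ∣ c → False := by
    intro c h1 h2
    exact h2 (h1 ▸ h0)
  rcases h with h | h | h | h | h | h | h | h | h
  · obtain ⟨e⟩ := h
    exact (hlt ((Nat.card_congr e.toEquiv).trans MTwelveType.SylowModel.card_M12) (by norm_num)).elim
  · obtain ⟨e⟩ := h
    exact (hlt ((Nat.card_congr e.toEquiv).trans S1619.result.2.2.2) (by norm_num)).elim
  · exact (hlt (KFacts.HS.card h) (by norm_num)).elim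
  · obtain ⟨e⟩ := h
    exact (hlt ((Nat.card_congr e.toEquiv).trans S1694.result.2) (by norm_num)).elim
  · obtain ⟨e⟩ := h
    exact (hlt ((Nat.card_congr e.toEquiv).trans S1627.result.2.1) (by norm_num)).elim
  · obtain ⟨e⟩ := h
    exact (Nat.card_congr e.toEquiv).trans R01.Fi22Facts.card
  · obtain ⟨e⟩ := h
    exfalso
    rw [Nat.card_congr e.toEquiv, S0399.result.2] at hN
    exact absurd hN (by norm_num)
  · obtain ⟨e⟩ := h
    exfalso
    rw [Nat.card_congr e.toEquiv, BM.KHAll.card_B] at hN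
    exact absurd hN (by norm_num)
  · obtain ⟨e⟩ := h
    exact (hlt ((Nat.card_congr e.toEquiv).trans SporadicA.MathieuRecog.card_M22) (by norm_num)).elim

end Cfsg.Agent.OddHalf.D8.Fi23
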