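import Cfsg.Agent.OddHalf.D8.Fi23.RowOf
import Cfsg.Agent.OddHalf.D8.Fi23.OrdSpor
import Cfsg.Agent.KFacts.FiTTh.Has

/-!
# ODD half, D8: the row of `Fi₂₃` (helper907; facts on `Fi₂₃`: helper8, helper286, helper840)
-/

set_option autoImplicit false

namespace Cfsg.Agent.OddHalf.D8.Fi23

open Subgroup Cfsg

universe u

theorem kdata : KData Spor.Fi23 where
  card := Cfsg.Agent.Fischer.Fi23Simple.card_Fi23
  inn := Cfsg.Agent.KFacts.FiTTh.Has.inn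
  sheet := by
    obtain ⟨S, h⟩ := Cfsg.Agent.KFacts.FiTTh.Has.sheet
    refine ⟨_, S, _, h, ?_⟩
    show Nat.card ↥(centralizer ({Cfsg.Agent.KFacts.FiTTh.BasFi.e
      (some (Cfsg.Agent.KFacts.FiTTh.Has.s 0))} : Set Spor.Fi23)) = _
    rw [Cfsg.Agent.KFacts.FiTTh.Has.s0, Cfsg.Agent.KFacts.FiTTh.BasFi.e_z,
      ← Cfsg.Agent.KFacts.FiTTh.Cent.K_eq, Cfsg.Agent.KFacts.FiTTh.Cent.card_K]

/-- **the row `K = Fi₂₃`** from the multiplier facts -/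
theorem row (M : D9.Cut.Mult.{u}) : Rows.Row.{u} (fun K _ => Spor.IsoFi23 K) :=
  row_of M sporOrd kdata

end Cfsg.Agent.OddHalf.D8.Fi23
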