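import Mathlib

/-!
# A group `W` with an involution `t`, `C_W(t) = {1, t}` (helper907)
-/

set_option autoImplicit false

namespace Cfsg.Agent.OddHalf.D8.Fi23

open Subgroup

/-- `t` is an involution of `W` with `C_W(t) = ⟨t⟩` -/
structure CTwo {G : Type*} [Group G] (t : G) (W : Subgroup G) : Prop where
  tt : t * t = 1
  t1 : t ≠ 1
  tW : t ∈ W
  cen : ∀ w ∈ W, w * t = t * w → w = 1 ∨ w = t

namespace CTwo

variable {G : Type*} [Group G] {t : G} {W : Subgroup G}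

/-- a 2-subgroup of `W` containing `t` is `⟨t⟩` -/
theorem of_isPGroup [Finite G] (C : CTwo t W) {P : Subgroup W} (hP : IsPGroup 2 P)
    (ht : (⟨t, C.tW⟩ : W) ∈ P) {x : W} (hx : x ∈ P) : x = 1 ∨ x = ⟨t, C.tW⟩ := by
  have : Fact (Nat.Prime 2) := ⟨Nat.prime_two⟩
  have hnt : Nontrivial P := ⟨⟨⟨⟨t, C.tW⟩, ht⟩, 1, fun h => C.t1 (by
    have := congrArg (fun x : P => ((x : W) : G)) h
    exact this)⟩⟩
  have hcn : Nontrivial (center P) := hP.center_nontrivial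
  obtain ⟨⟨c, hc⟩, hc1⟩ := exists_ne (1 : center P)
  have h1 : (c : W) = 1 ∨ (c : W) = ⟨t, C.tW⟩ := by
    have h2 := mem_center_iff.1 hc ⟨⟨t, C.tW⟩, ht⟩
    have h3 : t * ((c : W) : G) = ((c : W) : G) * t :=
      congrArg (fun x : P => ((x : W) : G)) h2
    rcases C.cen _ (c : W).2 h3.symm with h | h
    · exact Or.inl (Subtype.ext h)
    · exact Or.inr (Subtype.ext h)
  rcases h1 with h1 | h1
  · exfalso
    apply hc1
    apply Subtype.ext
    apply Subtype.ext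
    exact h1
  · have h2 := mem_center_iff.1 hc ⟨x, hx⟩
    have h3 : (x : G) * ((c : W) : G) = ((c : W) : G) * x :=
      congrArg (fun x : P => ((x : W) : G)) h2
    rw [h1] at h3
    rcases C.cen _ x.2 h3 with h | h
    · exact Or.inl (Subtype.ext h)
    · exact Or.inr (Subtype.ext h)

/-- a Sylow 2-subgroup of `W` is `⟨t⟩` -/
theorem exists_sylow [Finite G] (C : CTwo t W) :
    ∃ P : Sylow 2 W, (⟨t, C.tW⟩ : W) ∈ P ∧ ∀ x ∈ P, x = 1 ∨ x = ⟨t, C.tW⟩ := by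
  have : Fact (Nat.Prime 2) := ⟨Nat.prime_two⟩
  have hp : IsPGroup 2 (zpowers (⟨t, C.tW⟩ : W)) := by
    rintro ⟨x, hx⟩
    obtain ⟨i, rfl⟩ := mem_zpowers_iff.1 hx
    refine ⟨1, Subtype.ext ?_⟩
    show ((⟨t, C.tW⟩ : W) ^ i) ^ (2 ^ 1) = 1
    have h2 : (⟨t, C.tW⟩ : W) ^ (2 : ℤ) = 1 := by
      rw [show (2 : ℤ) = 1 + 1 by norm_num, zpow_add, zpow_one]
      exact Subtype.ext C.tt
    rw [pow_one, pow_two, ← zpow_add, ← two_mul, zpow_mul, h2, one_zpow]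
  obtain ⟨P, hP⟩ := hp.exists_le_sylow
  have ht : (⟨t, C.tW⟩ : W) ∈ P := hP (mem_zpowers _)
  exact ⟨P, ht, fun x hx => C.of_isPGroup P.isPGroup' ht hx⟩

theorem card_sylow [Finite G] (C : CTwo t W) (P : Sylow 2 W) (ht : (⟨t, C.tW⟩ : W) ∈ P)
    (hP : ∀ x ∈ P, x = 1 ∨ x = ⟨t, C.tW⟩) : Nat.card (P : Subgroup W) = 2 := by
  have h1 : ((P : Subgroup W) : Set W) = {1, ⟨t, C.tW⟩} := by
    ext x
    constructor
    · intro hx; exact hP x hx
    · rintro (rfl | rfl)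
      · exact one_mem (P : Subgroup W)
      · exact ht
  have h2 : Nat.card (P : Subgroup W) = ((P : Subgroup W) : Set W).ncard := rfl
  rw [h2, h1, Set.ncard_pair]
  intro h
  exact C.t1 (congrArg Subtype.val h).symm

theorem not_four [Finite G] (C : CTwo t W) : ¬ 4 ∣ Nat.card W := by
  have : Fact (Nat.Prime 2) := ⟨Nat.prime_two⟩
  obtain ⟨P, ht, hP⟩ := C.exists_sylow
  intro h
  have h1 : 2 ^ 2 ∣ Nat.card W := h
  have h2 := P.pow_dvd_card_of_pow_dvd_card h1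
  rw [C.card_sylow P ht hP] at h2
  norm_num at h2

/-- conjugates of `t` in `W` are conjugate in `W` -/
theorem conj [Finite G] (C : CTwo t W) {r : G} (hr : r * t * r⁻¹ ∈ W) :
    ∃ w ∈ W, r * t * r⁻¹ = w * t * w⁻¹ := by
  have : Fact (Nat.Prime 2) := ⟨Nat.prime_two⟩
  obtain ⟨P, ht, hP⟩ := C.exists_sylow
  have hs : (⟨r * t * r⁻¹, hr⟩ : W) ^ 2 = 1 := by
    apply Subtype.ext
    show (r * t * r⁻¹) ^ 2 = 1
    rw [pow_two]
    calc r * t * r⁻¹ * (r * t * r⁻¹) = r * (t * t) * r⁻¹ := by group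
      _ = 1 := by rw [C.tt]; group
  have hp : IsPGroup 2 (zpowers (⟨r * t * r⁻¹, hr⟩ : W)) := by
    rintro ⟨x, hx⟩
    obtain ⟨i, rfl⟩ := mem_zpowers_iff.1 hx
    refine ⟨1, Subtype.ext ?_⟩
    show ((⟨r * t * r⁻¹, hr⟩ : W) ^ i) ^ (2 ^ 1) = 1
    rw [pow_one, ← zpow_natCast, ← zpow_mul, mul_comm, zpow_mul, zpow_natCast, hs, one_zpow]
  obtain ⟨Q, hQ⟩ := hp.exists_le_sylow
  obtain ⟨g, hg⟩ := MulAction.exists_smul_eq W Q P
  have h1 : (⟨r * t * r⁻¹, hr⟩ : W) ∈ Q := hQ (mem_zpowers _)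
  have h2 : g * ⟨r * t * r⁻¹, hr⟩ * g⁻¹ ∈ P := by
    rw [← hg]
    exact Subgroup.smul_mem_pointwise_smul _ (MulAut.conj g) _ h1
  rcases hP _ h2 with h | h
  · exfalso
    rw [mul_inv_eq_one] at h
    have h3 : (⟨r * t * r⁻¹, hr⟩ : W) = 1 := mul_eq_left.1 h
    have h4 : r * t * r⁻¹ = 1 := congrArg Subtype.val h3
    rw [mul_inv_eq_one] at h4
    exact C.t1 (mul_eq_left.1 h4)
  · refine ⟨(g : G)⁻¹, W.inv_mem g.2, ?_⟩
    have h3 : (g : G) * (r * t * r⁻¹) * (g : G)⁻¹ = t := congrArg Subtype.val h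
    conv_rhs => rw [← h3]
    group

/-- the normal 2-complement of `W` -/
theorem exists_compl [Finite G] (C : CTwo t W) : ∃ N : Subgroup G, N ≤ W ∧ Odd (Nat.card N) ∧
    (∀ w ∈ W, Odd (orderOf w) → w ∈ N) ∧ ∀ w ∈ W, w ∈ N ∨ t * w ∈ N := by
  have : Fact (Nat.Prime 2) := ⟨Nat.prime_two⟩
  obtain ⟨P, ht, hP⟩ := C.exists_sylow
  have hcen : normalizer ((P : Subgroup W) : Set W) ≤ centralizer ((P : Subgroup W) : Set W) := by
    intro n hn
    rw [mem_centralizer_iff]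
    intro x hx
    rcases hP x hx with rfl | rfl
    · rw [one_mul, mul_one]
    · have h1 := (mem_normalizer_iff.1 hn _).1 ht
      rcases hP _ h1 with h | h
      · exfalso
        rw [mul_inv_eq_one] at h
        have h3 : (⟨t, C.tW⟩ : W) = 1 := mul_eq_left.1 h
        exact C.t1 (congrArg Subtype.val h3)
      · exact (mul_inv_eq_iff_eq_mul.1 h).symm
  let f := MonoidHom.transferSylow P hcen
  have hker : ¬ 2 ∣ Nat.card f.ker := MonoidHom.not_dvd_card_ker_transferSylow P hcen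
  have hfP : ∀ w, ((f w : (P : Subgroup W)) : W) = 1 ∨ ((f w : (P : Subgroup W)) : W) = ⟨t, C.tW⟩ :=
    fun w => hP _ (f w).2
  have hft : f ⟨t, C.tW⟩ ≠ 1 := by
    intro h
    apply hker
    have h1 : (⟨t, C.tW⟩ : W) ∈ f.ker := h
    have h2 : orderOf (⟨⟨t, C.tW⟩, h1⟩ : f.ker) = 2 := by
      apply orderOf_eq_prime
      · apply Subtype.ext
        apply Subtype.ext
        show t ^ 2 = 1
        rw [pow_two, C.tt]
      · intro h3
        exact C.t1 (congrArg (fun x : f.ker => ((x : W) : G)) h3)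
    have h3 := orderOf_dvd_natCard (⟨⟨t, C.tW⟩, h1⟩ : f.ker)
    rw [h2] at h3
    exact h3
  refine ⟨f.ker.map W.subtype, ?_, ?_, ?_, ?_⟩
  · rintro _ ⟨x, -, rfl⟩
    exact x.2
  · have h1 : Nat.card (f.ker.map W.subtype) = Nat.card f.ker :=
      (Nat.card_congr (f.ker.equivMapOfInjective W.subtype W.subtype_injective).toEquiv).symm
    rw [h1, Nat.odd_iff]
    omega
  · intro w hw ho
    refine ⟨⟨w, hw⟩, ?_, rfl⟩
    show f ⟨w, hw⟩ = 1
    have h1 : orderOf (f ⟨w, hw⟩) ∣ orderOf w := by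
      have := orderOf_map_dvd f ⟨w, hw⟩
      rwa [← Subgroup.orderOf_coe (⟨w, hw⟩ : W)] at this
    have h2 : orderOf (f ⟨w, hw⟩) ∣ 2 := by
      apply orderOf_dvd_of_pow_eq_one
      apply Subtype.ext
      show ((f ⟨w, hw⟩ : (P : Subgroup W)) : W) ^ 2 = 1
      rcases hfP ⟨w, hw⟩ with h | h
      · rw [h, one_pow]
      · rw [h]; exact Subtype.ext (by show t ^ 2 = 1; rw [pow_two, C.tt])
    rcases (Nat.dvd_prime Nat.prime_two).1 h2 with h | h
    · exact orderOf_eq_one_iff.1 h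
    · exfalso
      rw [h] at h1
      exact (Nat.not_even_iff_odd.2 ho) (even_iff_two_dvd.2 h1)
  · intro w hw
    rcases hfP ⟨w, hw⟩ with h | h
    · left
      exact ⟨⟨w, hw⟩, Subtype.ext h, rfl⟩
    · right
      refine ⟨⟨t, C.tW⟩ * ⟨w, hw⟩, ?_, rfl⟩
      show f (⟨t, C.tW⟩ * ⟨w, hw⟩) = 1
      have h2 : ((f ⟨t, C.tW⟩ : (P : Subgroup W)) : W) = ⟨t, C.tW⟩ := by
        rcases hfP ⟨t, C.tW⟩ with h3 | h3
        · exact absurd (Subtype.ext h3) hft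
        · exact h3
      rw [map_mul]
      apply Subtype.ext
      show ((f ⟨t, C.tW⟩ : (P : Subgroup W)) : W) * ((f ⟨w, hw⟩ : (P : Subgroup W)) : W) = 1
      rw [h, h2]
      exact Subtype.ext C.tt

end CTwo

end Cfsg.Agent.OddHalf.D8.Fi23
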