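import Mathlib

/-!
# `H ⊔ ⟨t⟩` for an involution `t` centralizing `H` (helper907)
-/

set_option autoImplicit false

namespace Cfsg.Agent.OddHalf.D8.Fi23

open Subgroup

variable {G : Type*} [Group G]

/-- `H × ⟨t⟩` -/
def dbl (t : G) (H : Subgroup G) : Subgroup G := H ⊔ zpowers t

theorem le_dbl (t : G) (H : Subgroup G) : H ≤ dbl t H := le_sup_left

theorem t_mem_dbl (t : G) (H : Subgroup G) : t ∈ dbl t H :=
  (le_sup_right : zpowers t ≤ _) (mem_zpowers t)

theorem mem_dbl {t : G} {H : Subgroup G} (tt : t * t = 1) (hc : ∀ h ∈ H, h * t = t * h) {x : G} :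
    x ∈ dbl t H ↔ x ∈ H ∨ t * x ∈ H := by
  constructor
  · let M : Subgroup G :=
      { carrier := {x | x ∈ H ∨ t * x ∈ H}
        one_mem' := Or.inl H.one_mem
        mul_mem' := by
          rintro x y (hx | hx) (hy | hy)
          · exact Or.inl (H.mul_mem hx hy)
          · right
            have : t * (x * y) = x * (t * y) := by rw [← mul_assoc, ← hc x hx, mul_assoc]
            rw [this]; exact H.mul_mem hx hy
          · right
            rw [← mul_assoc]; exact H.mul_mem hx hy
          · left
            have h1 : x * y = (t * x) * (t * y) := by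
              have h2 : t * x * t = t * (t * x) := hc _ hx
              calc x * y = (t * t) * x * y := by rw [tt, one_mul]
                _ = t * (t * x) * y := by group
                _ = t * x * t * y := by rw [h2]
                _ = (t * x) * (t * y) := by group
            rw [h1]; exact H.mul_mem hx hy
        inv_mem' := by
          rintro x (hx | hx)
          · exact Or.inl (H.inv_mem hx)
          · right
            have ht : t⁻¹ = t := inv_eq_of_mul_eq_one_left tt
            have h1 : (t * x)⁻¹ ∈ H := H.inv_mem hx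
            have h2 : (t * x)⁻¹ = t * x⁻¹ := by
              have h3 := hc _ h1
              rw [mul_inv_rev, ht] at h3 ⊢
              calc x⁻¹ * t = x⁻¹ * t * (t * t) := by rw [tt, mul_one]
                _ = (x⁻¹ * t * t) * t := by group
                _ = (t * (x⁻¹ * t)) * t := by rw [h3]
                _ = t * x⁻¹ * (t * t) := by group
                _ = t * x⁻¹ := by rw [tt, mul_one]
            rw [← h2]; exact h1 }
    have h1 : dbl t H ≤ M := by
      refine sup_le (fun x hx => Or.inl hx) ?_
      rw [zpowers_le]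
      right
      show t * t ∈ H
      rw [tt]; exact H.one_mem
    exact fun hx => h1 hx
  · rintro (h | h)
    · exact le_dbl t H h
    · have h1 : x = t⁻¹ * (t * x) := by group
      rw [h1]
      exact (dbl t H).mul_mem ((dbl t H).inv_mem (t_mem_dbl t H)) (le_dbl t H h)

theorem dbl_comm {t : G} {H : Subgroup G} (tt : t * t = 1) (hc : ∀ h ∈ H, h * t = t * h) {x : G}
    (hx : x ∈ dbl t H) : x * t = t * x := by
  rcases (mem_dbl tt hc).1 hx with h | h
  · exact hc x h
  · have h1 := hc _ h
    have h2 : t * (x * t) = t * (t * x) := by rw [← mul_assoc]; exact h1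
    exact mul_left_cancel h2

theorem card_dbl [Finite G] {t : G} {H : Subgroup G} (tt : t * t = 1) (hc : ∀ h ∈ H, h * t = t * h)
    (ht : t ∉ H) : Nat.card (dbl t H) = 2 * Nat.card H := by
  classical
  have h1 : (dbl t H : Set G) = (H : Set G) ∪ (fun x => t * x) '' (H : Set G) := by
    ext x
    rw [SetLike.mem_coe, mem_dbl tt hc, Set.mem_union, Set.mem_image]
    refine or_congr Iff.rfl ⟨fun h => ⟨t * x, h, ?_⟩, ?_⟩
    · rw [← mul_assoc, tt, one_mul]
    · rintro ⟨y, hy, rfl⟩
      rw [← mul_assoc, tt, one_mul]; exact hy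
  have h2 : Disjoint (H : Set G) ((fun x => t * x) '' (H : Set G)) := by
    rw [Set.disjoint_left]
    rintro x hx ⟨y, hy, rfl⟩
    apply ht
    have h3 : t = t * y * y⁻¹ := by group
    rw [h3]
    exact H.mul_mem hx (H.inv_mem hy)
  have e1 : Nat.card (dbl t H) = (dbl t H : Set G).ncard := rfl
  have e2 : Nat.card H = (H : Set G).ncard := rfl
  rw [e1, e2, h1, Set.ncard_union_eq h2 (Set.toFinite _) (Set.toFinite _),
    Set.ncard_image_of_injective _ (mul_right_injective t)]
  ring

theorem dbl_mono {t : G} {H L : Subgroup G} (h : H ≤ L) : dbl t H ≤ dbl t L := sup_le_sup_right h _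

end Cfsg.Agent.OddHalf.D8.Fi23
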