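import Mathlib

/-!
# Gluing homomorphisms of point stabilizers (helper907)

`N` acts on `Ω`; `lam i` is multiplicative on the stabilizer of `i`, the family is equivariant and `lam i n = lam j n`
if `n` fixes `i` and `j`. If the stabilizers of points are 2-transitive on the other points and any four points miss
another point, then there is one homomorphism `N →* A` extending all `lam i`.
-/

set_option autoImplicit false

namespace Cfsg.Agent.OddHalf.D8.Fi23.Ext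

open MulAction

/-- the hypotheses -/
structure Fam (N Ω A : Type*) [Group N] [MulAction N Ω] [CommGroup A] (lam : Ω → N → A) : Prop where
  mul : ∀ (i : Ω) (m n : N), m • i = i → n • i = i → lam i (m * n) = lam i m * lam i n
  eqv : ∀ (g : N) (i : Ω) (n : N), n • i = i → lam (g • i) (g * n * g⁻¹) = lam i n
  coh : ∀ (i j : Ω) (n : N), n • i = i → n • j = j → lam i n = lam j n
  tr1 : ∀ k i j : Ω, i ≠ k → j ≠ k → ∃ m : N, m • k = k ∧ m • i = j
  tr2 : ∀ k i i' j j' : Ω, i ≠ k → i' ≠ k → j ≠ k → j' ≠ k → i ≠ i' → j ≠ j' →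
    ∃ m : N, m • k = k ∧ m • i = j ∧ m • i' = j'
  big : ∀ i i' j j' : Ω, ∃ k : Ω, k ≠ i ∧ k ≠ i' ∧ k ≠ j ∧ k ≠ j'

namespace Fam

variable {N Ω A : Type*} [Group N] [MulAction N Ω] [CommGroup A] {lam : Ω → N → A}

theorem one (F : Fam N Ω A lam) (i : Ω) : lam i 1 = 1 := by
  have h := F.mul i 1 1 (one_smul _ _) (one_smul _ _)
  rw [mul_one] at h
  exact mul_eq_left.1 h.symm

theorem inv_smul_eq {m : N} {i j : Ω} (h : m • i = j) : m⁻¹ • j = i := by
  rw [← h, inv_smul_smul]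

/-- the value through `(i, k, m)` -/
def V (lam : Ω → N → A) (n : N) (i k : Ω) (m : N) : A := lam k m * lam i (m⁻¹ * n)

/-- admissible triples -/
def Adm (n : N) (i k : Ω) (m : N) : Prop := k ≠ i ∧ k ≠ n • i ∧ m • k = k ∧ m • i = n • i

theorem fix_of_adm {n : N} {i k : Ω} {m : N} (h : Adm n i k m) : (m⁻¹ * n) • i = i := by
  rw [mul_smul, ← h.2.2.2, inv_smul_smul]

theorem indep_m (F : Fam N Ω A lam) {n : N} {i k : Ω} {m m' : N} (h : Adm n i k m) (h' : Adm n i k m') :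
    V lam n i k m = V lam n i k m' := by
  have hk : (m⁻¹ * m') • k = k := by rw [mul_smul, h'.2.2.1, inv_smul_eq h.2.2.1]
  have hi : (m⁻¹ * m') • i = i := by rw [mul_smul, h'.2.2.2, ← h.2.2.2, inv_smul_smul]
  have e1 : m' = m * (m⁻¹ * m') := by group
  have e2 : m⁻¹ * n = (m⁻¹ * m') * (m'⁻¹ * n) := by group
  have h1 : lam k m' = lam k m * lam k (m⁻¹ * m') := by
    conv_lhs => rw [e1]
    exact F.mul k _ _ h.2.2.1 hk
  have h2 : lam i (m⁻¹ * n) = lam i (m⁻¹ * m') * lam i (m'⁻¹ * n) := by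
    rw [e2]; exact F.mul i _ _ hi (fix_of_adm h')
  unfold V
  rw [h1, h2, F.coh k i _ hk hi, mul_assoc]

theorem indep_k (F : Fam N Ω A lam) {n : N} {i k k' : Ω} {m m' : N} (h : Adm n i k m)
    (h' : Adm n i k' m') : V lam n i k m = V lam n i k' m' := by
  by_cases hkk : k = k'
  · subst hkk; exact F.indep_m h h'
  obtain ⟨c, hc1, hc2, hc3⟩ := F.tr2 k k' i k' (n • i) (Ne.symm hkk) h.1.symm (Ne.symm hkk)
    (Ne.symm h.2.1) h'.1 h'.2.1
  have a1 : Adm n i k c := ⟨h.1, h.2.1, hc1, hc3⟩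
  have a2 : Adm n i k' c := ⟨h'.1, h'.2.1, hc2, hc3⟩
  rw [F.indep_m h a1, F.indep_m h' a2]
  unfold V
  rw [F.coh k k' c hc1 hc2]

theorem exists_adm (F : Fam N Ω A lam) (n : N) (i : Ω) : ∃ k m, Adm n i k m := by
  obtain ⟨k, h1, h2, -, -⟩ := F.big i (n • i) i i
  obtain ⟨m, h3, h4⟩ := F.tr1 k i (n • i) h1.symm h2.symm
  exact ⟨k, m, h1, h2, h3, h4⟩

theorem indep (F : Fam N Ω A lam) {n : N} {i i' k k' : Ω} {m m' : N} (h : Adm n i k m)
    (h' : Adm n i' k' m') : V lam n i k m = V lam n i' k' m' := by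
  by_cases hii : i = i'
  · subst hii; exact F.indep_k h h'
  obtain ⟨c, h1, h2, h3, h4⟩ := F.big i i' (n • i) (n • i')
  have hne : n • i ≠ n • i' := fun e => hii (smul_left_cancel n e)
  obtain ⟨x, hx1, hx2, hx3⟩ := F.tr2 c i i' (n • i) (n • i') h1.symm h2.symm h3.symm h4.symm hii hne
  have a1 : Adm n i c x := ⟨h1, h3, hx1, hx2⟩
  have a2 : Adm n i' c x := ⟨h2, h4, hx1, hx3⟩
  rw [F.indep_k h a1, F.indep_k h' a2]
  unfold V
  rw [F.coh i i' _ (fix_of_adm a1) (fix_of_adm a2)]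

/-- the extension, pointwise -/
theorem exists_fun (F : Fam N Ω A lam) [Nonempty Ω] :
    ∃ f : N → A, ∀ n i k m, Adm n i k m → f n = V lam n i k m := by
  obtain ⟨i0⟩ := ‹Nonempty Ω›
  choose k m h using fun n => F.exists_adm n i0
  exact ⟨fun n => V lam n i0 (k n) (m n), fun n i k' m' h' => F.indep (h n) h'⟩

/-- **the extension** -/
theorem exists_hom (F : Fam N Ω A lam) [Nonempty Ω] :
    ∃ f : N →* A, ∀ (i : Ω) (n : N), n • i = i → f n = lam i n := by
  obtain ⟨f, hf⟩ := F.exists_fun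
  have hfix : ∀ (i : Ω) (n : N), n • i = i → f n = lam i n := by
    intro i n hn
    obtain ⟨k, h1, -, -, -⟩ := F.big i i i i
    have a : Adm n i k (1 : N) := ⟨h1, by rw [hn]; exact h1, one_smul _ _, by rw [one_smul, hn]⟩
    rw [hf n i k 1 a]
    unfold V
    rw [F.one, one_mul, inv_one, one_mul]
  have hmul : ∀ n n' : N, f (n * n') = f n * f n' := by
    intro n n'
    obtain ⟨i⟩ := ‹Nonempty Ω›
    obtain ⟨k, h1, h2, h3, -⟩ := F.big i (n' • i) (n • n' • i) i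
    obtain ⟨m', hm1, hm2⟩ := F.tr1 k i (n' • i) h1.symm h2.symm
    obtain ⟨m, hm3, hm4⟩ := F.tr1 k (n' • i) (n • n' • i) h2.symm h3.symm
    have a1 : Adm n' i k m' := ⟨h1, h2, hm1, hm2⟩
    have a2 : Adm n (n' • i) k m := ⟨h2, h3, hm3, hm4⟩
    have a3 : Adm (n * n') i k (m * m') := by
      refine ⟨h1, ?_, ?_, ?_⟩
      · rw [mul_smul]; exact h3
      · rw [mul_smul, hm1, hm3]
      · rw [mul_smul, hm2, hm4, mul_smul]
    rw [hf _ _ _ _ a1, hf _ _ _ _ a2, hf _ _ _ _ a3]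
    unfold V
    have e : (m * m')⁻¹ * (n * n') = (m'⁻¹ * (m⁻¹ * n) * m'⁻¹⁻¹) * (m'⁻¹ * n') := by group
    have hx : (m⁻¹ * n) • (n' • i) = n' • i := fix_of_adm a2
    have hfix1 : (m'⁻¹ * (m⁻¹ * n) * m'⁻¹⁻¹) • i = i := by
      rw [mul_smul, mul_smul, inv_inv, hm2, hx, inv_smul_eq hm2]
    rw [e, F.mul i _ _ hfix1 (fix_of_adm a1), F.mul k _ _ hm3 hm1]
    have h5 := F.eqv m'⁻¹ (n' • i) (m⁻¹ * n) hx
    rw [inv_smul_eq hm2] at h5
    rw [h5]
    exact mul_mul_mul_comm _ _ _ _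
  refine ⟨{ toFun := f, map_one' := ?_, map_mul' := hmul }, hfix⟩
  have h := hmul 1 1
  rw [mul_one] at h
  exact mul_eq_left.1 h.symm

end Fam

end Cfsg.Agent.OddHalf.D8.Fi23.Ext
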