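import Cfsg.Agent.OddHalf.D8.Fi23.Loc
import Cfsg.Agent.OddHalf.D8.Fi23.Dbl

/-!
# The frame `C_G(t) = ⟨t⟩ × K`, `K = Fi₂₃` (helper907)

`T = ⟨t⟩ × S`, `A* = ⟨t⟩ × A`: `t` is not conjugate to an element of `K`; `T` is a maximal 2-subgroup of `C(t)` and
`A*` the only elementary abelian subgroup of order `2¹²` of `T`.
-/

set_option autoImplicit false

namespace Cfsg.Agent.OddHalf.D8.Fi23

open Subgroup Cfsg
open scoped commutatorElement

/-- the frame -/
structure Fr {G : Type*} [Group G] (t : G) (K A S : Subgroup G) (a : Fin 23 → G) : Prop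
    extends Loc K A S a where
  tt : t * t = 1
  tK : t ∉ K
  com : ∀ k ∈ K, k * t = t * k
  cent : ∀ g, g * t = t * g → g ∈ K ∨ t * g ∈ K

section Loc

namespace Loc

variable {G : Type*} [Group G] {K A S : Subgroup G} {a : Fin 23 → G}

theorem AK (L : Loc K A S a) : A ≤ K := L.AS.trans L.SK

theorem aK (L : Loc K A S a) (i : Fin 23) : a i ∈ K := L.AK (L.mem i)

theorem J_perf (L : Loc K A S a) (i : Fin 23) :
    ⁅K ⊓ centralizer ({a i} : Set G), K ⊓ centralizer ({a i} : Set G)⁆ =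
      K ⊓ centralizer ({a i} : Set G) := by
  have := (L.qs i).1
  exact Subgroup.commutator_eq_self

theorem K_perf (L : Loc K A S a) : ⁅K, K⁆ = K := by
  apply le_antisymm (Subgroup.commutator_le_self K)
  refine (L.gen 0 1 (by decide)).trans (sup_le ?_ ?_)
  · rw [← L.J_perf 0]; exact commutator_mono inf_le_left inf_le_left
  · rw [← L.J_perf 1]; exact commutator_mono inf_le_left inf_le_left

theorem AJ (L : Loc K A S a) (i : Fin 23) : A ≤ K ⊓ centralizer ({a i} : Set G) := fun x hx =>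
  ⟨L.AK hx, mem_centralizer_singleton_iff.2 (L.comm hx (L.mem i))⟩

theorem two (L : Loc K A S a) {i j i' j' : Fin 23} (h1 : i ≠ j) (h2 : i' ≠ j') :
    ∃ n ∈ K, n ∈ normalizer (A : Set G) ∧ n * a i * n⁻¹ = a i' ∧ n * a j * n⁻¹ = a j' := by
  obtain ⟨k, h3, h4⟩ := exists_third i j
  obtain ⟨k', h5, h6⟩ := exists_third i' j'
  obtain ⟨n, hn, hn', e1, e2, -⟩ := L.three i j k i' j' k' h1 h3 h4 h2 h5 h6
  exact ⟨n, hn, hn', e1, e2⟩

theorem one (L : Loc K A S a) (i i' : Fin 23) :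
    ∃ n ∈ K, n ∈ normalizer (A : Set G) ∧ n * a i * n⁻¹ = a i' := by
  obtain ⟨j, -, h1, -⟩ := exists_two i
  obtain ⟨j', -, h2, -⟩ := exists_two i'
  obtain ⟨n, hn, hn', e1, -⟩ := L.two h1 h2
  exact ⟨n, hn, hn', e1⟩

/-- `C_K(K) = 1` -/
theorem center_K (L : Loc K A S a) {x : G} (hx : x ∈ K) (hc : ∀ y ∈ K, x * y = y * x) : x = 1 := by
  rcases L.cen 0 x hx (fun y hy _ => hc y hy) with h | h
  · exact h
  rcases L.cen 1 x hx (fun y hy _ => hc y hy) with h' | h'
  · exact h'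
  exact absurd (L.a_inj (h.symm.trans h')) (by decide)

end Loc

end Loc

namespace Fr

variable {G : Type*} [Group G] {t : G} {K A S : Subgroup G} {a : Fin 23 → G}

theorem t1 (F : Fr t K A S a) : t ≠ 1 := fun h => F.tK (h ▸ K.one_mem)

theorem t_inv (F : Fr t K A S a) : t⁻¹ = t := inv_eq_of_mul_eq_one_left F.tt

theorem comS (F : Fr t K A S a) : ∀ s ∈ S, s * t = t * s := fun s hs => F.com s (F.SK hs)

theorem comA (F : Fr t K A S a) : ∀ s ∈ A, s * t = t * s := fun s hs => F.com s (F.AK hs)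

theorem tS (F : Fr t K A S a) : t ∉ S := fun h => F.tK (F.SK h)

theorem tA (F : Fr t K A S a) : t ∉ A := fun h => F.tK (F.AK h)

theorem mem_cent (F : Fr t K A S a) {g : G} : g * t = t * g ↔ g ∈ dbl t K :=
  ⟨fun h => (mem_dbl F.tt F.com).2 (F.cent g h), fun h => dbl_comm F.tt F.com h⟩

theorem centralizer_eq (F : Fr t K A S a) : centralizer ({t} : Set G) = dbl t K := by
  ext g
  rw [mem_centralizer_singleton_iff]
  exact F.mem_cent

/-- commutators of `C(t)` lie in `K` -/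
theorem der_le (F : Fr t K A S a) : ⁅centralizer ({t} : Set G), centralizer ({t} : Set G)⁆ ≤ K := by
  rw [Subgroup.commutator_le]
  intro g hg h hh
  rw [F.centralizer_eq, mem_dbl F.tt F.com] at hg hh
  have key : ∀ x ∈ K, ∀ y ∈ K, ⁅x, y⁆ ∈ K := fun x hx y hy => by
    rw [commutatorElement_def]
    exact K.mul_mem (K.mul_mem (K.mul_mem hx hy) (K.inv_mem hx)) (K.inv_mem hy)
  have e1 : ∀ x ∈ K, ∀ z : G, z * t = t * z → ⁅t * x, z⁆ = ⁅x, z⁆ := by
    intro x hx z hz
    have h1 := F.com x hx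
    have hz' : z⁻¹ * t = t * z⁻¹ := by
      calc z⁻¹ * t = z⁻¹ * (t * z) * z⁻¹ := by group
        _ = z⁻¹ * (z * t) * z⁻¹ := by rw [hz]
        _ = t * z⁻¹ := by group
    have hx' : x⁻¹ * t = t * x⁻¹ := F.com _ (K.inv_mem hx)
    rw [commutatorElement_def, commutatorElement_def, mul_inv_rev, F.t_inv]
    calc t * x * z * (x⁻¹ * t) * z⁻¹ = t * x * z * x⁻¹ * (t * z⁻¹) := by group
      _ = t * x * z * x⁻¹ * (z⁻¹ * t) := by rw [hz']
      _ = t * (x * z * x⁻¹ * z⁻¹) * t := by group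
      _ = t * (t * (x * z * x⁻¹ * z⁻¹)) := by
          rw [mul_assoc]
          congr 1
          calc x * z * x⁻¹ * z⁻¹ * t = x * z * x⁻¹ * (z⁻¹ * t) := by group
            _ = x * z * (x⁻¹ * t) * z⁻¹ := by rw [hz']; group
            _ = x * (z * t) * x⁻¹ * z⁻¹ := by rw [hx']; group
            _ = (x * t) * z * x⁻¹ * z⁻¹ := by rw [hz]; group
            _ = t * (x * z * x⁻¹ * z⁻¹) := by rw [h1]; group
      _ = x * z * x⁻¹ * z⁻¹ := by rw [← mul_assoc, F.tt, one_mul]
  have e2 : ∀ x ∈ K, ∀ z : G, z * t = t * z → ⁅z, t * x⁆ = ⁅z, x⁆ := by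
    intro x hx z hz
    have h1 := e1 x hx z hz
    have h2 : ⁅z, t * x⁆ = ⁅t * x, z⁆⁻¹ := (commutatorElement_inv _ _).symm
    rw [h2, h1, commutatorElement_inv]
  have ht : ∀ x ∈ K, (t * x) * t = t * (t * x) := by
    intro x hx
    rw [mul_assoc, F.com x hx]
  have et : ∀ x : G, t * (t * x) = x := fun x => by rw [← mul_assoc, F.tt, one_mul]
  rcases hg with hg | hg <;> rcases hh with hh | hh
  · exact key g hg h hh
  · have := e2 (t * h) hh g (F.com g hg)
    rw [et] at this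
    rw [this]; exact key _ hg _ hh
  · have := e1 (t * g) hg h (F.com h hh)
    rw [et] at this
    rw [this]; exact key _ hg _ hh
  · have hh2 : h * t = t * h := by
      have := ht _ hh
      rw [et] at this; exact this
    have h3 := e1 (t * g) hg h hh2
    rw [et] at h3
    have h4 := e2 (t * h) hh (t * g) (F.com _ hg)
    rw [et] at h4
    rw [h3, h4]
    exact key _ hg _ hh

theorem der_eq (F : Fr t K A S a) : ⁅centralizer ({t} : Set G), centralizer ({t} : Set G)⁆ = K := by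
  apply le_antisymm F.der_le
  conv_lhs => rw [← F.K_perf]
  have : K ≤ centralizer ({t} : Set G) := fun k hk => mem_centralizer_singleton_iff.2 (F.com k hk)
  exact commutator_mono this this

/-- conjugation of centralizers -/
theorem map_cent (n x : G) : (centralizer ({x} : Set G)).map (MulAut.conj n).toMonoidHom =
    centralizer ({n * x * n⁻¹} : Set G) := Sheet.map_centralizer n x

theorem mem_der_conj {n x y : G} (hy : y ∈ ⁅centralizer ({x} : Set G), centralizer ({x} : Set G)⁆) :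
    n * y * n⁻¹ ∈ ⁅centralizer ({n * x * n⁻¹} : Set G), centralizer ({n * x * n⁻¹} : Set G)⁆ := by
  rw [← map_cent, ← Subgroup.map_commutator]
  exact ⟨y, hy, rfl⟩

/-- `t` is not conjugate to an element of `K` -/
theorem not_conj (F : Fr t K A S a) {x : G} (hx : x ∈ K) (g : G) : g * t * g⁻¹ ≠ x := by
  intro h
  have hsq : x * x = 1 := by
    rw [← h]
    calc g * t * g⁻¹ * (g * t * g⁻¹) = g * (t * t) * g⁻¹ := by group
      _ = 1 := by rw [F.tt]; group
  have hx1 : x ≠ 1 := by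
    intro h1
    rw [h1, mul_inv_eq_one] at h
    exact F.t1 (mul_eq_left.1 h)
  have h1 := F.der x hx hsq hx1
  have h2 : x ∈ ⁅centralizer ({x} : Set G), centralizer ({x} : Set G)⁆ :=
    commutator_mono inf_le_right inf_le_right h1
  have h3 := mem_der_conj (n := g⁻¹) h2
  have e : g⁻¹ * x * g⁻¹⁻¹ = t := by rw [← h]; group
  rw [e] at h3
  exact F.tK (F.der_le h3)

/-! ### `T` and `A*` -/

theorem mem_T (F : Fr t K A S a) {x : G} : x ∈ dbl t S ↔ x ∈ S ∨ t * x ∈ S := mem_dbl F.tt F.comS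

theorem mem_AA (F : Fr t K A S a) {x : G} : x ∈ dbl t A ↔ x ∈ A ∨ t * x ∈ A := mem_dbl F.tt F.comA

theorem et (F : Fr t K A S a) (x : G) : t * (t * x) = x := by rw [← mul_assoc, F.tt, one_mul]

theorem pT (F : Fr t K A S a) : IsPGroup 2 (dbl t S) := by
  have h1 : IsPGroup 2 (zpowers t) := by
    rintro ⟨x, hx⟩
    obtain ⟨i, rfl⟩ := mem_zpowers_iff.1 hx
    refine ⟨1, Subtype.ext ?_⟩
    show (t ^ i) ^ (2 ^ 1) = 1
    have h2 : t ^ (2 : ℤ) = 1 := by
      rw [show (2 : ℤ) = 1 + 1 by norm_num, zpow_add, zpow_one, F.tt]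
    rw [pow_one, pow_two, ← zpow_add, ← two_mul, zpow_mul, h2, one_zpow]
  apply F.pS.to_sup_of_normal_left' h1
  rw [zpowers_le, mem_normalizer_iff]
  intro x
  constructor
  · intro hx
    have : t * x * t⁻¹ = x := by rw [← F.comS x hx, mul_assoc, mul_inv_cancel, mul_one]
    rw [this]; exact hx
  · intro hx
    have h2 := F.comS _ hx
    have : x = t * x * t⁻¹ := by
      have h3 : t * x = t * (t * x * t⁻¹) := by rw [← h2]; group
      exact mul_left_cancel h3
    rw [this]; exact hx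

theorem cardT [Finite G] (F : Fr t K A S a) : Nat.card (dbl t S) = 2 ^ 19 := by
  rw [card_dbl F.tt F.comS F.tS, F.cardS]; norm_num

theorem cardAA [Finite G] (F : Fr t K A S a) : Nat.card (dbl t A) = 2 ^ 12 := by
  rw [card_dbl F.tt F.comA F.tA, F.cardA]; norm_num

theorem AA_sq (F : Fr t K A S a) {x : G} (hx : x ∈ dbl t A) : x * x = 1 := by
  have h1 := dbl_comm F.tt F.comA hx
  rcases F.mem_AA.1 hx with h | h
  · exact F.sq x h
  · calc x * x = (t * t) * (x * x) := by rw [F.tt, one_mul]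
      _ = t * (t * x) * x := by group
      _ = t * (x * t) * x := by rw [h1]
      _ = (t * x) * (t * x) := by group
      _ = 1 := F.sq _ h

theorem AA_inv (F : Fr t K A S a) {x : G} (hx : x ∈ dbl t A) : x⁻¹ = x :=
  inv_eq_of_mul_eq_one_left (F.AA_sq hx)

theorem AA_comm (F : Fr t K A S a) {x y : G} (hx : x ∈ dbl t A) (hy : y ∈ dbl t A) : x * y = y * x := by
  have h := F.AA_inv ((dbl t A).mul_mem hx hy)
  rw [mul_inv_rev, F.AA_inv hx, F.AA_inv hy] at h
  exact h.symm

theorem AA_self (F : Fr t K A S a) {g : G} (hg : ∀ x ∈ dbl t A, g * x = x * g) : g ∈ dbl t A := by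
  have hgt := hg t (t_mem_dbl t A)
  rw [F.mem_AA]
  rcases F.cent g hgt with h | h
  · exact Or.inl (F.self g h fun y hy => hg y (le_dbl t A hy))
  · right
    apply F.self _ h
    intro y hy
    rw [mul_assoc, hg y (le_dbl t A hy), ← mul_assoc, ← F.comA y hy, mul_assoc]

/-- projection of a subgroup of `⟨t⟩ × K` to `K` -/
def proj (t : G) (B : Subgroup G) : Subgroup G := dbl t B

/-- the projection to `K` -/
theorem exists_proj [Finite G] (F : Fr t K A S a) {B : Subgroup G} (hB : ∀ x ∈ B, x * t = t * x) :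
    ∃ B' : Subgroup G, B' ≤ K ∧ (∀ x, x ∈ B' ↔ x ∈ K ∧ (x ∈ B ∨ t * x ∈ B)) ∧ B ≤ dbl t B' ∧
      Nat.card B ≤ 2 * Nat.card B' ∧ (IsPGroup 2 B → IsPGroup 2 B') := by
  have hB' : ∀ x, x ∈ dbl t B ↔ x ∈ B ∨ t * x ∈ B := fun x => mem_dbl F.tt hB
  have hm : ∀ x, x ∈ K ⊓ dbl t B ↔ x ∈ K ∧ (x ∈ B ∨ t * x ∈ B) := fun x => by
    rw [mem_inf, hB']
  have hcK : ∀ k ∈ K ⊓ dbl t B, k * t = t * k := fun k hk => F.com k hk.1
  have hle : B ≤ dbl t (K ⊓ dbl t B) := by
    intro x hx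
    rw [mem_dbl F.tt hcK]
    rcases F.cent x (hB x hx) with h | h
    · exact Or.inl ⟨h, le_dbl t B hx⟩
    · right
      refine ⟨h, (hB' _).2 (Or.inr ?_)⟩
      rw [F.et]; exact hx
  refine ⟨K ⊓ dbl t B, inf_le_left, hm, hle, ?_, ?_⟩
  · rw [← card_dbl F.tt hcK (fun h => F.tK h.1)]
    exact Nat.card_le_card_of_injective _ (inclusion_injective hle)
  · intro hp
    rintro ⟨x, hxK, hx⟩
    have key : ∀ y ∈ B, ∃ k : ℕ, y ^ 2 ^ k = 1 := by
      intro y hy
      obtain ⟨k, hk⟩ := hp ⟨y, hy⟩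
      exact ⟨k, congrArg Subtype.val hk⟩
    rcases (hB' x).1 hx with h | h
    · obtain ⟨k, hk⟩ := key x h
      exact ⟨k, Subtype.ext hk⟩
    · obtain ⟨k, hk⟩ := key _ h
      have hc : Commute t x := (F.com x hxK).symm
      refine ⟨k + 1, Subtype.ext ?_⟩
      show x ^ 2 ^ (k + 1) = 1
      rw [hc.mul_pow] at hk
      have h2 : (t ^ 2 ^ k) ^ 2 = 1 := by
        rw [← pow_mul, mul_comm, pow_mul, pow_two, F.tt, one_pow]
      calc x ^ 2 ^ (k + 1) = (t ^ 2 ^ k) ^ 2 * (x ^ 2 ^ k) ^ 2 := by rw [h2, one_mul, pow_succ, pow_mul]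
        _ = (t ^ 2 ^ k * x ^ 2 ^ k) ^ 2 := by
            rw [Commute.mul_pow (hc.pow_pow _ _)]
        _ = 1 := by rw [hk, one_pow]

/-- every 2-subgroup of `C(t)` is conjugate in `K` to a subgroup of `T` -/
theorem sylT [Finite G] (F : Fr t K A S a) {P : Subgroup G} (hp : IsPGroup 2 P)
    (hP : ∀ x ∈ P, x * t = t * x) : ∃ k ∈ K, ∀ x ∈ P, k * x * k⁻¹ ∈ dbl t S := by
  obtain ⟨P', hPK, hm, hle, -, hp'⟩ := F.exists_proj hP
  obtain ⟨k, hk, hkS⟩ := F.sylow P' hPK (hp' hp)
  refine ⟨k, hk, fun x hx => ?_⟩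
  rw [F.mem_T]
  rcases (mem_dbl F.tt (fun y hy => F.com y (hPK hy))).1 (hle hx) with h | h
  · exact Or.inl (hkS x h)
  · right
    have h1 := hkS _ h
    have h2 : t * (k * x * k⁻¹) = k * (t * x) * k⁻¹ := by
      calc t * (k * x * k⁻¹) = (t * k) * x * k⁻¹ := by group
        _ = (k * t) * x * k⁻¹ := by rw [F.com k hk]
        _ = k * (t * x) * k⁻¹ := by group
    rw [h2]; exact h1

theorem card_le [Finite G] (F : Fr t K A S a) {P : Subgroup G} (hp : IsPGroup 2 P)
    (hP : ∀ x ∈ P, x * t = t * x) : Nat.card P ≤ Nat.card (dbl t S) := by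
  obtain ⟨k, -, hk⟩ := F.sylT hp hP
  have h1 : P.map (MulAut.conj k).toMonoidHom ≤ dbl t S := by
    rintro _ ⟨x, hx, rfl⟩
    exact hk x hx
  rw [Nat.card_congr (P.equivMapOfInjective (MulAut.conj k).toMonoidHom (MulAut.conj k).injective).toEquiv]
  exact Nat.card_le_card_of_injective _ (inclusion_injective h1)

theorem maxT [Finite G] (F : Fr t K A S a) {P : Subgroup G} (hp : IsPGroup 2 P)
    (hP : ∀ x ∈ P, x * t = t * x) (h : dbl t S ≤ P) : P = dbl t S :=
  (Subgroup.eq_of_le_of_card_ge h (F.card_le hp hP)).symm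

/-- `A*` is the only elementary abelian subgroup of order `2¹²` of `T` -/
theorem uniqT [Finite G] (F : Fr t K A S a) {B : Subgroup G} (hB : B ≤ dbl t S)
    (hsq : ∀ x ∈ B, x * x = 1) (hc : 2 ^ 12 ≤ Nat.card B) : B = dbl t A := by
  have hBt : ∀ x ∈ B, x * t = t * x := fun x hx => dbl_comm F.tt F.comS (hB hx)
  obtain ⟨B', hBK, hm, hle, hcard, -⟩ := F.exists_proj hBt
  have hBS : B' ≤ S := by
    intro x hx
    obtain ⟨hxK, h | h⟩ := (hm x).1 hx
    · rcases F.mem_T.1 (hB h) with h1 | h1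
      · exact h1
      · exfalso
        apply F.tK
        have : t = t * x * x⁻¹ := by group
        rw [this]
        exact K.mul_mem (F.SK h1) (K.inv_mem hxK)
    · rcases F.mem_T.1 (hB h) with h1 | h1
      · exfalso
        apply F.tK
        have : t = t * x * x⁻¹ := by group
        rw [this]
        exact K.mul_mem (F.SK h1) (K.inv_mem hxK)
      · rw [F.et] at h1; exact h1
  have hsq' : ∀ x ∈ B', x * x = 1 := by
    intro x hx
    obtain ⟨hxK, h | h⟩ := (hm x).1 hx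
    · exact hsq x h
    · have h1 := hsq _ h
      have h2 := F.com x hxK
      calc x * x = (t * t) * (x * x) := by rw [F.tt, one_mul]
        _ = t * (t * x) * x := by group
        _ = t * (x * t) * x := by rw [h2]
        _ = (t * x) * (t * x) := by group
        _ = 1 := h1
  have h1 : B' = A := F.uniq B' hBS hsq' (by
    have : 2 ^ 12 = 2 * 2 ^ 11 := by norm_num
    omega)
  rw [h1] at hle
  exact Subgroup.eq_of_le_of_card_ge hle (by rw [F.cardAA]; exact hc)

/-- `N_G(T) ≤ N_G(A*)` -/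
theorem norm_le [Finite G] (F : Fr t K A S a) {y : G} (hy : y ∈ normalizer ((dbl t S : Subgroup G) : Set G)) :
    y ∈ normalizer ((dbl t A : Subgroup G) : Set G) := by
  have h1 : (dbl t A).map (MulAut.conj y).toMonoidHom = dbl t A := by
    apply F.uniqT
    · rintro _ ⟨x, hx, rfl⟩
      exact (mem_normalizer_iff.1 hy x).1 (dbl_mono F.AS hx)
    · rintro _ ⟨x, hx, rfl⟩
      show y * x * y⁻¹ * (y * x * y⁻¹) = 1
      calc y * x * y⁻¹ * (y * x * y⁻¹) = y * (x * x) * y⁻¹ := by group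
        _ = 1 := by rw [F.AA_sq hx]; group
    · rw [← F.cardAA]
      exact (Nat.card_congr ((dbl t A).equivMapOfInjective _ (MulAut.conj y).injective).toEquiv).le
  rw [mem_normalizer_iff]
  intro x
  constructor
  · intro hx
    rw [← h1]
    exact ⟨x, hx, rfl⟩
  · intro hx
    rw [← h1] at hx
    obtain ⟨z, hz, hzx⟩ := hx
    have : z = x := mul_left_cancel (mul_right_cancel (hzx : y * z * y⁻¹ = y * x * y⁻¹))
    rwa [← this]

end Fr

end Cfsg.Agent.OddHalf.D8.Fi23
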