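import Cfsg.Agent.OddHalf.D8.Fi23.Points
import Cfsg.Agent.OddHalf.D8.Fi23.Ext

/-!
# A homomorphism `N_G(A*) → {±1}` with value `-1` at `t` (helper907)

On `C(θ) = ⟨θ⟩ × K_θ` (`θ` a conjugate of `t`) there is the homomorphism with kernel `K_θ = C(θ)'`. They agree on
intersections, so they glue to `N = N_G(A*)`, which acts on the 24 conjugates of `t` in `A*`.
-/

set_option autoImplicit false
set_option linter.style.haveILetI false

namespace Cfsg.Agent.OddHalf.D8.Fi23

open Subgroup Cfsg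

section Sg

variable {G : Type*} [Group G]

open Classical in
/-- the sign on `C(θ)` -/
noncomputable def sg (θ n : G) : ℤˣ :=
  if n ∈ ⁅centralizer ({θ} : Set G), centralizer ({θ} : Set G)⁆ then 1 else -1

theorem sg_conj (θ n g : G) : sg (g * θ * g⁻¹) (g * n * g⁻¹) = sg θ n := by
  unfold sg
  have h : g * n * g⁻¹ ∈ ⁅centralizer ({g * θ * g⁻¹} : Set G), centralizer ({g * θ * g⁻¹} : Set G)⁆ ↔
      n ∈ ⁅centralizer ({θ} : Set G), centralizer ({θ} : Set G)⁆ := by
    constructor
    · intro h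
      have h1 := Fr.mem_der_conj (n := g⁻¹) h
      have e1 : g⁻¹ * (g * n * g⁻¹) * g⁻¹⁻¹ = n := by group
      have e2 : g⁻¹ * (g * θ * g⁻¹) * g⁻¹⁻¹ = θ := by group
      rw [e1, e2] at h1
      exact h1
    · intro h; exact Fr.mem_der_conj h
  by_cases hc : n ∈ ⁅centralizer ({θ} : Set G), centralizer ({θ} : Set G)⁆
  · rw [if_pos hc, if_pos (h.2 hc)]
  · rw [if_neg hc, if_neg (fun h' => hc (h.1 h'))]

end Sg

namespace Fr

variable {G : Type*} [Group G] {t : G} {K A S : Subgroup G} {a : Fin 23 → G}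

theorem sg_t (F : Fr t K A S a) (n : G) [Decidable (n ∈ K)] : sg t n = if n ∈ K then 1 else -1 := by
  unfold sg
  rw [F.der_eq]
  congr

theorem sg_mul (F : Fr t K A S a) {θ m n : G} (hθ : ∃ g : G, g * t * g⁻¹ = θ) (hm : m * θ = θ * m)
    (hn : n * θ = θ * n) : sg θ (m * n) = sg θ m * sg θ n := by
  classical
  -- reduce to `θ = t`
  have key : ∀ x y : G, x * t = t * x → y * t = t * y → sg t (x * y) = sg t x * sg t y := by
    intro x y hx hy
    rw [F.sg_t, F.sg_t, F.sg_t]
    rcases F.cent x hx with h | h <;> rcases F.cent y hy with h' | h'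
    · rw [if_pos h, if_pos h', if_pos (K.mul_mem h h'), one_mul]
    · have h1 : y ∉ K := fun hh => F.tK (by
        have : t = t * y * y⁻¹ := by group
        rw [this]; exact K.mul_mem h' (K.inv_mem hh))
      have h2 : x * y ∉ K := fun hh => h1 (by
        have : y = x⁻¹ * (x * y) := by group
        rw [this]; exact K.mul_mem (K.inv_mem h) hh)
      rw [if_pos h, if_neg h1, if_neg h2, one_mul]
    · have h1 : x ∉ K := fun hh => F.tK (by
        have : t = t * x * x⁻¹ := by group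
        rw [this]; exact K.mul_mem h (K.inv_mem hh))
      have h2 : x * y ∉ K := fun hh => h1 (by
        have : x = (x * y) * y⁻¹ := by group
        rw [this]; exact K.mul_mem hh (K.inv_mem h'))
      rw [if_neg h1, if_pos h', if_neg h2, mul_one]
    · have h1 : x ∉ K := fun hh => F.tK (by
        have : t = t * x * x⁻¹ := by group
        rw [this]; exact K.mul_mem h (K.inv_mem hh))
      have h1' : y ∉ K := fun hh => F.tK (by
        have : t = t * y * y⁻¹ := by group
        rw [this]; exact K.mul_mem h' (K.inv_mem hh))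
      have h2 : x * y ∈ K := by
        have e : x * y = (t * x) * (t * y) := by
          calc x * y = (t * t) * x * y := by rw [F.tt, one_mul]
            _ = t * (t * x) * y := by group
            _ = t * (x * t) * y := by rw [hx]
            _ = (t * x) * (t * y) := by group
        rw [e]; exact K.mul_mem h h'
      rw [if_neg h1, if_neg h1', if_pos h2]; decide
  obtain ⟨g, rfl⟩ := hθ
  have hc : ∀ x : G, x * (g * t * g⁻¹) = g * t * g⁻¹ * x → (g⁻¹ * x * g) * t = t * (g⁻¹ * x * g) := by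
    intro x hx
    calc (g⁻¹ * x * g) * t = g⁻¹ * (x * (g * t * g⁻¹)) * g := by group
      _ = g⁻¹ * (g * t * g⁻¹ * x) * g := by rw [hx]
      _ = t * (g⁻¹ * x * g) := by group
  have e : ∀ x : G, sg (g * t * g⁻¹) x = sg t (g⁻¹ * x * g) := by
    intro x
    have := sg_conj t (g⁻¹ * x * g) g
    rw [← this]
    congr 1
    group
  rw [e, e, e, ← key _ _ (hc m hm) (hc n hn)]
  congr 1
  group

/-- agreement on `C(t) ∩ C(t a_i)` -/
theorem sg_coh_t (F : Fr t K A S a) {i : Fin 23} (hi : ∃ g : G, g * t * g⁻¹ = t * a i) {n : G}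
    (hn : n * t = t * n) (hn' : n * (t * a i) = t * a i * n) : sg t n = sg (t * a i) n := by
  classical
  have hna : n * a i = a i * n := by
    have h1 : t * (n * a i) = t * (a i * n) := by
      calc t * (n * a i) = (t * n) * a i := by group
        _ = (n * t) * a i := by rw [hn]
        _ = n * (t * a i) := by group
        _ = t * a i * n := hn'
        _ = t * (a i * n) := by group
    exact mul_left_cancel h1
  set J := K ⊓ centralizer ({a i} : Set G) with hJ
  set C := centralizer ({t * a i} : Set G) with hC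
  have hJC : J ≤ C := by
    rintro x ⟨h1, h2'⟩
    have h2 : x * a i = a i * x := mem_centralizer_singleton_iff.1 h2'
    rw [hC, mem_centralizer_singleton_iff]
    calc x * (t * a i) = (x * t) * a i := by group
      _ = (t * x) * a i := by rw [F.com x h1]
      _ = t * (x * a i) := by group
      _ = t * a i * x := by rw [h2]; group
  have hJD : J ≤ ⁅C, C⁆ := by
    conv_lhs => rw [hJ, ← F.J_perf i]
    exact commutator_mono hJC hJC
  have haJ : a i ∈ J := ⟨F.aK i, mem_centralizer_singleton_iff.2 rfl⟩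
  rcases F.cent n hn with h | h
  · have h1 : n ∈ J := ⟨h, mem_centralizer_singleton_iff.2 hna⟩
    rw [F.sg_t, if_pos h]
    unfold sg
    rw [if_pos (hJD h1)]
  · have h1 : t * n ∈ J := by
      refine ⟨h, mem_centralizer_singleton_iff.2 ?_⟩
      calc t * n * a i = t * (n * a i) := by group
        _ = (t * a i) * n := by rw [hna]; group
        _ = (a i * t) * n := by rw [F.com _ (F.aK i)]
        _ = a i * (t * n) := by group
    have h2 : n ∉ K := fun hh => F.tK (by
      have : t = t * n * n⁻¹ := by group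
      rw [this]; exact K.mul_mem h (K.inv_mem hh))
    rw [F.sg_t, if_neg h2]
    unfold sg
    rw [if_neg]
    intro h3
    -- `t ∈ C'`, so `t a_i ∈ C'`
    have h4 : t ∈ ⁅C, C⁆ := by
      have : t = (t * n) * n⁻¹ := by group
      rw [this]
      exact (⁅C, C⁆ : Subgroup G).mul_mem (hJD h1) ((⁅C, C⁆ : Subgroup G).inv_mem h3)
    have h5 : t * a i ∈ ⁅C, C⁆ := (⁅C, C⁆ : Subgroup G).mul_mem h4 (hJD haJ)
    obtain ⟨g, hg⟩ := hi
    have h6 := mem_der_conj (n := g⁻¹) h5
    have e : g⁻¹ * (t * a i) * g⁻¹⁻¹ = t := by rw [← hg]; group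
    rw [e] at h6
    exact F.tK (F.der_le h6)

/-- the action of `N` on the points -/
@[reducible] def pact (F : Fr t K A S a) : MulAction F.NN (orb F.NN t) where
  smul n θ := ⟨(n : G) * θ * (n : G)⁻¹, orb_conj θ.2 n.2⟩
  one_smul θ := by
    apply Subtype.ext
    show ((1 : F.NN) : G) * θ * ((1 : F.NN) : G)⁻¹ = θ
    simp
  mul_smul m n θ := by
    apply Subtype.ext
    show ((m * n : F.NN) : G) * θ * ((m * n : F.NN) : G)⁻¹ = (m : G) * ((n : G) * θ * (n : G)⁻¹) * (m : G)⁻¹
    rw [Subgroup.coe_mul]; group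

theorem glue [Finite G] (F : Fr t K A S a) (hp : ∀ x, x ∈ orb F.NN t ↔ x = t ∨ ∃ i, x = t * a i)
    (h24 : (orb F.NN t).ncard = 24) :
    ∃ f : F.NN →* ℤˣ, f ⟨t, F.t_mem_NN⟩ = -1 := by
  classical
  letI := F.pact
  have hsm : ∀ (n : F.NN) (θ : orb F.NN t), ((n • θ : orb F.NN t) : G) = (n : G) * θ * (n : G)⁻¹ :=
    fun _ _ => rfl
  have hfixc : ∀ (n : F.NN) (θ : orb F.NN t), n • θ = θ → (n : G) * θ = θ * n := by
    intro n θ h
    have h1 := congrArg Subtype.val h
    rw [hsm] at h1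
    exact mul_inv_eq_iff_eq_mul.1 h1
  have hfixc' : ∀ (n : F.NN) (θ : orb F.NN t), (n : G) * θ = θ * n → n • θ = θ := by
    intro n θ h
    apply Subtype.ext
    rw [hsm]
    exact mul_inv_eq_iff_eq_mul.2 h
  have hcj : ∀ θ : orb F.NN t, ∃ g : G, g * t * g⁻¹ = θ := by
    rintro ⟨_, n, -, rfl⟩
    exact ⟨n, rfl⟩
  set t0 : orb F.NN t := ⟨t, self_mem_orb _ _⟩ with ht0
  have htr : ∀ θ : orb F.NN t, ∃ n : F.NN, n • t0 = θ := by
    rintro ⟨_, n, hn, rfl⟩
    exact ⟨⟨n, hn⟩, rfl⟩
  have hne : ∀ θ : orb F.NN t, θ ≠ t0 → ∃ i, (θ : G) = t * a i := by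
    intro θ h
    rcases (hp θ).1 θ.2 with h1 | h1
    · exact absurd (Subtype.ext h1) h
    · exact h1
  -- moving points with `N_K(A)`
  have hmv : ∀ (i j i' j' : orb F.NN t), i ≠ t0 → j ≠ t0 → i' ≠ t0 → j' ≠ t0 → i ≠ i' → j ≠ j' →
      ∃ m : F.NN, m • t0 = t0 ∧ m • i = j ∧ m • i' = j' := by
    intro i j i' j' h1 h2 h3 h4 h5 h6
    obtain ⟨p, hp1⟩ := hne i h1
    obtain ⟨q, hq1⟩ := hne j h2
    obtain ⟨p', hp2⟩ := hne i' h3
    obtain ⟨q', hq2⟩ := hne j' h4
    have hpp : p ≠ p' := fun e => h5 (Subtype.ext (by rw [hp1, hp2, e]))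
    have hqq : q ≠ q' := fun e => h6 (Subtype.ext (by rw [hq1, hq2, e]))
    obtain ⟨n, hn, hN, e1, e2⟩ := F.two hpp hqq
    have hc : n * t * n⁻¹ = t := by rw [F.com n hn, mul_inv_cancel_right]
    have hm : ∀ r s : Fin 23, n * a r * n⁻¹ = a s → n * (t * a r) * n⁻¹ = t * a s := by
      intro r s e
      calc n * (t * a r) * n⁻¹ = (n * t) * a r * n⁻¹ := by group
        _ = (t * n) * a r * n⁻¹ := by rw [F.com n hn]
        _ = t * (n * a r * n⁻¹) := by group
        _ = t * a s := by rw [e]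
    refine ⟨⟨n, (F.mem_NN_of_K hn).2 hN⟩, Subtype.ext hc, Subtype.ext ?_, Subtype.ext ?_⟩
    · rw [hsm, hp1, hq1]; exact hm _ _ e1
    · rw [hsm, hp2, hq2]; exact hm _ _ e2
  have hbig : ∀ i i' j j' : orb F.NN t, ∃ k : orb F.NN t, k ≠ i ∧ k ≠ i' ∧ k ≠ j ∧ k ≠ j' := by
    intro i i' j j'
    by_contra hcon
    push Not at hcon
    have h1 : orb F.NN t ⊆ {(i : G), (i' : G), (j : G), (j' : G)} := by
      intro x hx
      have h2 := hcon ⟨x, hx⟩
      by_cases e1 : (⟨x, hx⟩ : orb F.NN t) = i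
      · left; exact congrArg Subtype.val e1
      by_cases e2 : (⟨x, hx⟩ : orb F.NN t) = i'
      · right; left; exact congrArg Subtype.val e2
      by_cases e3 : (⟨x, hx⟩ : orb F.NN t) = j
      · right; right; left; exact congrArg Subtype.val e3
      · right; right; right; exact congrArg Subtype.val (h2 e1 e2 e3)
    have h3 := Set.ncard_le_ncard h1 (Set.toFinite _)
    have h4 : ({(i : G), (i' : G), (j : G), (j' : G)} : Set G).ncard ≤ 4 := by
      refine (Set.ncard_insert_le _ _).trans ?_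
      have h5 : ({(i' : G), (j : G), (j' : G)} : Set G).ncard ≤ 3 := by
        refine (Set.ncard_insert_le _ _).trans ?_
        have := pair_le (j : G) (j' : G)
        omega
      omega
    omega
  have Fm : Ext.Fam F.NN (orb F.NN t) ℤˣ (fun θ n => sg (θ : G) (n : G)) := by
    refine ⟨?_, ?_, ?_, ?_, ?_, hbig⟩
    · intro i m n hm hn
      exact F.sg_mul (hcj i) (hfixc m i hm) (hfixc n i hn)
    · intro g i n _
      exact sg_conj _ _ _
    · intro i j n hi hj
      obtain ⟨c, hc⟩ := htr i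
      by_cases hij : i = j
      · rw [hij]
      have hi' : (c⁻¹ * n * c) • t0 = t0 := by
        rw [mul_smul, mul_smul, hc, hi, ← hc, inv_smul_smul]
      have hj' : (c⁻¹ * n * c) • (c⁻¹ • j) = c⁻¹ • j := by
        rw [mul_smul, mul_smul, smul_inv_smul, hj]
      have hjt : c⁻¹ • j ≠ t0 := by
        intro e
        apply hij
        rw [← hc, ← e, smul_inv_smul]
      obtain ⟨q, hq⟩ := hne _ hjt
      have h1 := hfixc _ _ hi'
      have h2 := hfixc _ _ hj'
      rw [hq] at h2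
      have hcq : ∃ g : G, g * t * g⁻¹ = t * a q := by
        obtain ⟨g, hg⟩ := hcj (c⁻¹ • j)
        exact ⟨g, by rw [hg, hq]⟩
      have h3 := F.sg_coh_t hcq h1 h2
      have e1 : sg (i : G) (n : G) = sg t ((c⁻¹ * n * c : F.NN) : G) := by
        rw [← hc, hsm, ← sg_conj t _ (c : G)]
        congr 1
        simp only [Subgroup.coe_mul, Subgroup.coe_inv]
        group
      have e2 : sg (j : G) (n : G) = sg (t * a q) ((c⁻¹ * n * c : F.NN) : G) := by
        rw [← hq, ← sg_conj _ ((c⁻¹ * n * c : F.NN) : G) (c : G), hsm]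
        congr 1
        · simp only [Subgroup.coe_inv]; group
        · simp only [Subgroup.coe_mul, Subgroup.coe_inv]
          group
      show sg (i : G) (n : G) = sg (j : G) (n : G)
      rw [e1, e2]
      exact h3
    · intro k i j hi hj
      obtain ⟨c, hc⟩ := htr k
      obtain ⟨k', -, -, -, -⟩ := hbig k i j j
      have hi' : c⁻¹ • i ≠ t0 := fun e => hi (by rw [← hc, ← e, smul_inv_smul])
      have hj' : c⁻¹ • j ≠ t0 := fun e => hj (by rw [← hc, ← e, smul_inv_smul])
      obtain ⟨x, hx1, hx2, -, -⟩ := hbig t0 (c⁻¹ • i) t0 t0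
      obtain ⟨y, hy1, hy2, -, -⟩ := hbig t0 (c⁻¹ • j) t0 t0
      obtain ⟨m, h1, h2, -⟩ := hmv (c⁻¹ • i) (c⁻¹ • j) x y hi' hj' hx1 hy1 hx2.symm hy2.symm
      refine ⟨c * m * c⁻¹, ?_, ?_⟩
      · rw [mul_smul, mul_smul, ← hc, inv_smul_smul, h1]
      · rw [mul_smul, mul_smul, h2, smul_inv_smul]
    · intro k i i' j j' hi hi' hj hj' hii hjj
      obtain ⟨c, hc⟩ := htr k
      have g1 : c⁻¹ • i ≠ t0 := fun e => hi (by rw [← hc, ← e, smul_inv_smul])
      have g2 : c⁻¹ • i' ≠ t0 := fun e => hi' (by rw [← hc, ← e, smul_inv_smul])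
      have g3 : c⁻¹ • j ≠ t0 := fun e => hj (by rw [← hc, ← e, smul_inv_smul])
      have g4 : c⁻¹ • j' ≠ t0 := fun e => hj' (by rw [← hc, ← e, smul_inv_smul])
      obtain ⟨m, h1, h2, h3⟩ := hmv _ _ _ _ g1 g3 g2 g4 (fun e => hii (smul_left_cancel _ e))
        (fun e => hjj (smul_left_cancel _ e))
      refine ⟨c * m * c⁻¹, ?_, ?_, ?_⟩
      · rw [mul_smul, mul_smul, ← hc, inv_smul_smul, h1]
      · rw [mul_smul, mul_smul, h2, smul_inv_smul]
      · rw [mul_smul, mul_smul, h3, smul_inv_smul]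
  haveI : Nonempty (orb F.NN t) := ⟨t0⟩
  obtain ⟨f, hf⟩ := Fm.exists_hom
  refine ⟨f, ?_⟩
  have h1 : (⟨t, F.t_mem_NN⟩ : F.NN) • t0 = t0 := hfixc' _ _ rfl
  rw [hf t0 _ h1]
  show sg t t = -1
  rw [F.sg_t, if_neg F.tK]

end Fr

end Cfsg.Agent.OddHalf.D8.Fi23
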