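import Cfsg.Agent.OddHalf.D8.Fi23.Glue
import Cfsg.Agent.OddHalf.D9.TransferGen

/-!
# `T ≤ N^g` only for `g ∈ N`; the transfer from `N` (helper907)
-/

set_option autoImplicit false

namespace Cfsg.Agent.OddHalf.D8.Fi23

open Subgroup Cfsg

namespace Fr

variable {G : Type*} [Group G] {t : G} {K A S : Subgroup G} {a : Fin 23 → G}

/-- a product of two of the 24 points determines them -/
theorem pair_uniq (F : Fr t K A S a) (hp : ∀ x, x ∈ orb F.NN t ↔ x = t ∨ ∃ i, x = t * a i)
    {θ θ' η η' : G} (h1 : θ ∈ orb F.NN t) (h2 : θ' ∈ orb F.NN t) (h3 : η ∈ orb F.NN t)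
    (h4 : η' ∈ orb F.NN t) (hne : θ ≠ θ') (hne' : η ≠ η') (h : θ * θ' = η * η') : η = θ ∨ η = θ' := by
  have e1 : ∀ i, t * (t * a i) = a i := fun i => F.et _
  have e2 : ∀ i, t * a i * t = a i := fun i => by
    rw [mul_assoc, F.com _ (F.aK i)]; exact F.et _
  have e3 : ∀ i j, t * a i * (t * a j) = a i * a j := fun i j => by
    calc t * a i * (t * a j) = (t * a i * t) * a j := by group
      _ = a i * a j := by rw [e2]
  rcases (hp θ).1 h1 with rfl | ⟨i, rfl⟩ <;> rcases (hp θ').1 h2 with r2 | ⟨j, r2⟩ <;>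
    rcases (hp η).1 h3 with r3 | ⟨k, r3⟩ <;> rcases (hp η').1 h4 with r4 | ⟨l, r4⟩ <;>
    subst r2 r3 r4
  · exact absurd rfl hne
  · exact absurd rfl hne
  · exact absurd rfl hne
  · exact absurd rfl hne
  · exact absurd rfl hne'
  · exact Or.inl rfl
  · rw [e1, e2] at h
    right; rw [F.a_inj h]
  · rw [e1, e3] at h
    have hkl : k ≠ l := fun e => hne' (by rw [e])
    exact absurd h.symm (F.pair_ne_a hkl)
  · exact absurd rfl hne'
  · rw [e1, e2] at h
    exact Or.inr rfl
  · rw [e2, e2] at h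
    left; rw [F.a_inj h]
  · rw [e2, e3] at h
    have hkl : k ≠ l := fun e => hne' (by rw [e])
    exact absurd h.symm (F.pair_ne_a hkl)
  · exact absurd rfl hne'
  · rw [e1, e3] at h
    have hij : i ≠ j := fun e => hne (by rw [e])
    exact absurd h (F.pair_ne_a hij)
  · rw [e2, e3] at h
    have hij : i ≠ j := fun e => hne (by rw [e])
    exact absurd h (F.pair_ne_a hij)
  · rw [e3, e3] at h
    have hij : i ≠ j := fun e => hne (by rw [e])
    have hkl : k ≠ l := fun e => hne' (by rw [e])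
    rcases F.pair_eq hij hkl h with ⟨r1, -⟩ | ⟨-, r1⟩
    · left; rw [r1]
    · right; rw [r1]

/-- the points fixed by `s` -/
def Fx (F : Fr t K A S a) (s : G) : Set G := {θ | θ ∈ orb F.NN t ∧ s * θ = θ * s}

theorem fx_le [Finite G] (F : Fr t K A S a) (hp : ∀ x, x ∈ orb F.NN t ↔ x = t ∨ ∃ i, x = t * a i)
    {s : G} (hs : s ∈ F.NN) (hsA : s ∉ dbl t A) : (F.Fx s).ncard ≤ 8 := by
  by_cases he : F.Fx s = ∅
  · rw [he, Set.ncard_empty]; norm_num
  obtain ⟨θ, hθ, hsθ⟩ := Set.nonempty_iff_ne_empty.2 he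
  obtain ⟨n, hn, rfl⟩ := hθ
  set s1 := n⁻¹ * s * n with hs1
  have hs1N : s1 ∈ F.NN := F.NN.mul_mem (F.NN.mul_mem (F.NN.inv_mem hn) hs) hn
  have hs1A : s1 ∉ dbl t A := by
    intro h
    apply hsA
    have := (F.mem_NN.1 hn s1).1 h
    have e : n * s1 * n⁻¹ = s := by rw [hs1]; group
    rwa [e] at this
  have hs1t : s1 * t = t * s1 := by
    calc s1 * t = n⁻¹ * (s * (n * t * n⁻¹)) * n := by rw [hs1]; group
      _ = n⁻¹ * (n * t * n⁻¹ * s) * n := by rw [hsθ]
      _ = t * s1 := by rw [hs1]; group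
  have hsub : F.Fx s ⊆ (fun x => n * x * n⁻¹) '' F.Fx s1 := by
    rintro θ ⟨h1, h2⟩
    refine ⟨n⁻¹ * θ * n, ⟨?_, ?_⟩, by show n * (n⁻¹ * θ * n) * n⁻¹ = θ; group⟩
    · have := orb_conj h1 (F.NN.inv_mem hn)
      rwa [inv_inv] at this
    · calc s1 * (n⁻¹ * θ * n) = n⁻¹ * (s * θ) * n := by rw [hs1]; group
        _ = n⁻¹ * (θ * s) * n := by rw [h2]
        _ = n⁻¹ * θ * n * s1 := by rw [hs1]; group
  have h1 : (F.Fx s).ncard ≤ (F.Fx s1).ncard :=
    (Set.ncard_le_ncard hsub (Set.toFinite _)).trans (Set.ncard_image_le (Set.toFinite _))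
  refine h1.trans ?_
  -- `s1 = x` or `t x`
  have hmem : s1 ∈ dbl t (K ⊓ normalizer (A : Set G)) := by
    rw [← F.NN_cent]
    exact ⟨hs1N, mem_centralizer_singleton_iff.2 hs1t⟩
  have hc : ∀ x ∈ K ⊓ normalizer (A : Set G), x * t = t * x := fun x hx => F.com x hx.1
  obtain ⟨x, hxK, hxN, hx⟩ : ∃ x, x ∈ K ∧ x ∈ normalizer (A : Set G) ∧ (s1 = x ∨ s1 = t * x) := by
    rcases (mem_dbl F.tt hc).1 hmem with h | h
    · exact ⟨s1, h.1, h.2, Or.inl rfl⟩
    · exact ⟨t * s1, h.1, h.2, Or.inr (F.et _).symm⟩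
  have hxA : x ∉ A := by
    intro h
    apply hs1A
    rcases hx with h' | h'
    · rw [h']; exact le_dbl t A h
    · rw [h']; exact (dbl t A).mul_mem (t_mem_dbl t A) (le_dbl t A h)
  set I : Set (Fin 23) := {i | x * a i = a i * x} with hI
  have hI7 : I.ncard ≤ 7 := by
    by_contra h
    have h' : 8 ≤ I.ncard := by omega
    exact hxA (F.fix x hxK hxN h')
  have hsub2 : F.Fx s1 ⊆ insert t ((fun i => t * a i) '' I) := by
    rintro θ ⟨h2, h3⟩
    rcases (hp θ).1 h2 with h4 | ⟨i, rfl⟩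
    · left; exact h4
    · right
      refine ⟨i, ?_, rfl⟩
      show x * a i = a i * x
      have h5 : s1 * a i = a i * s1 := by
        have : t * (s1 * a i) = t * (a i * s1) := by
          calc t * (s1 * a i) = (t * s1) * a i := by group
            _ = (s1 * t) * a i := by rw [hs1t]
            _ = s1 * (t * a i) := by group
            _ = t * a i * s1 := h3
            _ = t * (a i * s1) := by group
        exact mul_left_cancel this
      rcases hx with h' | h'
      · rwa [h'] at h5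
      · rw [h'] at h5
        have : t * (x * a i) = t * (a i * x) := by
          calc t * (x * a i) = t * x * a i := by group
            _ = a i * (t * x) := h5
            _ = (a i * t) * x := by group
            _ = (t * a i) * x := by rw [F.com _ (F.aK i)]
            _ = t * (a i * x) := by group
        exact mul_left_cancel this
  calc (F.Fx s1).ncard ≤ (insert t ((fun i => t * a i) '' I)).ncard :=
        Set.ncard_le_ncard hsub2 (Set.toFinite _)
    _ ≤ ((fun i => t * a i) '' I).ncard + 1 := Set.ncard_insert_le _ _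
    _ ≤ I.ncard + 1 := Nat.add_le_add_right (Set.ncard_image_le (Set.toFinite _)) 1
    _ ≤ 8 := by omega

theorem card_NN [Finite G] (F : Fr t K A S a) (h24 : (orb F.NN t).ncard = 24) :
    Nat.card F.NN = 24 * (2 ^ 12 * 10200960) := by
  rw [← orb_card F.NN t, h24, F.card_NN_cent]

/-- an involution of `N` outside `A*` centralizes at most `2⁸` elements of `A*` -/
theorem cent_le [Finite G] (F : Fr t K A S a) (hp : ∀ x, x ∈ orb F.NN t ↔ x = t ∨ ∃ i, x = t * a i)
    (h24 : (orb F.NN t).ncard = 24) {s : G} (hs : s ∈ F.NN) (hsA : s ∉ dbl t A) (hss : s * s = 1) :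
    Nat.card ↥(dbl t A ⊓ centralizer ({s} : Set G)) < 2 ^ 9 := by
  by_contra hcon
  push Not at hcon
  have hsi : s⁻¹ = s := inv_eq_of_mul_eq_one_left hss
  have hsx : ∀ x ∈ dbl t A, s * x * s⁻¹ ∈ dbl t A := fun x hx => (F.mem_NN.1 hs x).1 hx
  let ψ : dbl t A →* G :=
    { toFun := fun x => x * (s * x * s⁻¹)
      map_one' := by simp
      map_mul' := by
        intro x y
        have h1 : (y : G) * (s * x * s⁻¹) = s * x * s⁻¹ * y := F.AA_comm y.2 (hsx x x.2)
        show (x : G) * y * (s * (x * y) * s⁻¹) = x * (s * x * s⁻¹) * (y * (s * y * s⁻¹))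
        calc (x : G) * y * (s * (x * y) * s⁻¹) = x * (y * (s * x * s⁻¹)) * (s * y * s⁻¹) := by group
          _ = x * (s * x * s⁻¹ * y) * (s * y * s⁻¹) := by rw [h1]
          _ = x * (s * x * s⁻¹) * (y * (s * y * s⁻¹)) := by group }
  have hψ : ∀ x : dbl t A, ψ x = x * (s * x * s⁻¹) := fun _ => rfl
  have hker : Nat.card ψ.ker = Nat.card ↥(dbl t A ⊓ centralizer ({s} : Set G)) := by
    refine Nat.card_congr
      { toFun := fun y => ⟨y, y.1.2, ?_⟩
        invFun := fun y => ⟨⟨y, y.2.1⟩, ?_⟩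
        left_inv := fun y => rfl
        right_inv := fun y => rfl }
    · have h1 : ((y : dbl t A) : G) * (s * ((y : dbl t A) : G) * s⁻¹) = 1 := y.2
      have h2 : s * ((y : dbl t A) : G) * s⁻¹ = ((y : dbl t A) : G) := by
        have h3 := eq_inv_of_mul_eq_one_right h1
        rw [h3]; exact F.AA_inv y.1.2
      exact mem_centralizer_singleton_iff.2 (mul_inv_eq_iff_eq_mul.1 h2).symm
    · rw [MonoidHom.mem_ker, hψ]
      have h1 : (y : G) * s = s * y := mem_centralizer_singleton_iff.1 y.2.2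
      show (y : G) * (s * y * s⁻¹) = 1
      rw [← h1, mul_inv_cancel_right]
      exact F.AA_sq y.2.1
  have hrange : Nat.card ψ.range ≤ 8 := by
    have h1 := ψ.ker.card_mul_index
    rw [Subgroup.index_ker, hker, F.cardAA] at h1
    by_contra h2
    push Not at h2
    have : 2 ^ 9 * 9 ≤ 2 ^ 12 := by
      calc 2 ^ 9 * 9 ≤ Nat.card ↥(dbl t A ⊓ centralizer ({s} : Set G)) * Nat.card ψ.range :=
            Nat.mul_le_mul hcon h2
        _ = 2 ^ 12 := h1
    norm_num at this
  -- the moved points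
  set M : Set G := orb F.NN t \ F.Fx s with hM
  have hM16 : 16 ≤ M.ncard := by
    have h1 := F.fx_le hp hs hsA
    have h2 : F.Fx s ⊆ orb F.NN t := fun x hx => hx.1
    have h3 := Set.ncard_sdiff_add_ncard_of_subset h2 (Set.toFinite _)
    rw [← hM] at h3
    omega
  have hMA : ∀ θ ∈ M, θ ∈ dbl t A := fun θ h => (F.orb_sub h.1).1
  have hMne : ∀ θ ∈ M, s * θ * s⁻¹ ≠ θ := by
    intro θ h e
    exact h.2 ⟨h.1, mul_inv_eq_iff_eq_mul.1 e⟩
  have hMo : ∀ θ ∈ M, s * θ * s⁻¹ ∈ orb F.NN t := fun θ h => orb_conj h.1 hs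
  -- the map to the range
  let φ : G → G := fun θ => θ * (s * θ * s⁻¹)
  have hφr : φ '' M ⊆ (ψ.range : Set G) \ {1} := by
    rintro _ ⟨θ, h, rfl⟩
    refine ⟨⟨⟨θ, hMA θ h⟩, rfl⟩, ?_⟩
    intro h1
    have h1 : θ * (s * θ * s⁻¹) = 1 := h1
    apply hMne θ h
    rw [eq_inv_of_mul_eq_one_right h1]
    exact F.AA_inv (hMA θ h)
  have hφ7 : (φ '' M).ncard ≤ 7 := by
    refine (Set.ncard_le_ncard hφr (Set.toFinite _)).trans ?_
    rw [Set.ncard_sdiff_singleton_of_mem ψ.range.one_mem]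
    have : (ψ.range : Set G).ncard ≤ 8 := hrange
    omega
  have hfib : ∀ y ∈ φ '' M, {θ ∈ M | φ θ = y}.ncard ≤ 2 := by
    rintro _ ⟨θ, h, rfl⟩
    have : {η ∈ M | φ η = φ θ} ⊆ {θ, s * θ * s⁻¹} := by
      rintro η ⟨h1, h2⟩
      have := F.pair_uniq hp h.1 (hMo θ h) h1.1 (hMo η h1) (hMne θ h).symm (hMne η h1).symm h2.symm
      exact this
    exact (Set.ncard_le_ncard this (Set.toFinite _)).trans (pair_le _ _)
  have hM14 : M.ncard ≤ 14 := by
    classical
    have hfin : M.Finite := Set.toFinite _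
    have h1 := Finset.card_le_mul_card_image (f := φ) (s := hfin.toFinset) 2 (by
      intro y hy
      have h2 : y ∈ φ '' M := by
        rw [Finset.mem_image] at hy
        obtain ⟨θ, h3, h4⟩ := hy
        exact ⟨θ, hfin.mem_toFinset.1 h3, h4⟩
      have h5 := hfib y h2
      rw [← Set.ncard_coe_finset]
      refine le_trans (le_of_eq ?_) h5
      congr 1
      ext θ
      simp)
    rw [← Set.ncard_coe_finset, ← Set.ncard_coe_finset, Set.Finite.coe_toFinset, Finset.coe_image,
      Set.Finite.coe_toFinset] at h1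
    omega
  omega

/-- **`T ≤ N^g` implies `g ∈ N`** -/
theorem mem_NN_of_le [Finite G] (F : Fr t K A S a)
    (hp : ∀ x, x ∈ orb F.NN t ↔ x = t ∨ ∃ i, x = t * a i) (h24 : (orb F.NN t).ncard = 24) {g : G}
    (hg : ∀ x ∈ dbl t S, g⁻¹ * x * g ∈ F.NN) : g ∈ F.NN := by
  set T' : Subgroup G := (dbl t S).map (MulAut.conj g⁻¹).toMonoidHom with hT'
  have hT'N : T' ≤ F.NN := by
    rintro _ ⟨x, hx, rfl⟩
    have : (MulAut.conj g⁻¹).toMonoidHom x = g⁻¹ * x * g := by
      show g⁻¹ * x * g⁻¹⁻¹ = _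
      group
    rw [this]; exact hg x hx
  have hmT' : ∀ x, x ∈ T' ↔ g * x * g⁻¹ ∈ dbl t S := by
    intro x
    constructor
    · rintro ⟨y, hy, rfl⟩
      have : g * ((MulAut.conj g⁻¹).toMonoidHom y) * g⁻¹ = y := by
        show g * (g⁻¹ * y * g⁻¹⁻¹) * g⁻¹ = y
        group
      rw [this]; exact hy
    · intro h
      refine ⟨_, h, ?_⟩
      show g⁻¹ * (g * x * g⁻¹) * g⁻¹⁻¹ = x
      group
  have hpT' : IsPGroup 2 T' := F.pT.map _
  set s := g⁻¹ * t * g with hs
  have hsT' : s ∈ T' := by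
    rw [hmT']
    have : g * s * g⁻¹ = t := by rw [hs]; group
    rw [this]; exact t_mem_dbl t S
  have hss : s * s = 1 := by
    calc s * s = g⁻¹ * (t * t) * g := by rw [hs]; group
      _ = 1 := by rw [F.tt]; group
  have hcT' : ∀ x ∈ T', x * s = s * x := by
    intro x hx
    have h1 := dbl_comm F.tt F.comS ((hmT' x).1 hx)
    calc x * s = g⁻¹ * (g * x * g⁻¹ * t) * g := by rw [hs]; group
      _ = g⁻¹ * (t * (g * x * g⁻¹)) * g := by rw [h1]
      _ = s * x := by rw [hs]; group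
  by_cases hsA : s ∈ dbl t A
  · -- `A* ≤ T'`
    have hpA : IsPGroup 2 (dbl t A) := by
      rintro ⟨x, hx⟩
      exact ⟨1, Subtype.ext (by show x ^ 2 ^ 1 = 1; rw [pow_one, pow_two]; exact F.AA_sq hx)⟩
    have h1 : IsPGroup 2 ((T' ⊔ dbl t A : Subgroup G)) := hpT'.to_sup_of_normal_right' hpA hT'N
    have h2 : T' ⊔ dbl t A ≤ centralizer ({s} : Set G) := by
      refine sup_le (fun x hx => mem_centralizer_singleton_iff.2 (hcT' x hx)) (fun x hx => ?_)
      exact mem_centralizer_singleton_iff.2 (F.AA_comm hx hsA)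
    set P : Subgroup G := (T' ⊔ dbl t A).map (MulAut.conj g).toMonoidHom with hP
    have hPm : ∀ x, x ∈ T' ⊔ dbl t A → g * x * g⁻¹ ∈ P := fun x hx => ⟨x, hx, rfl⟩
    have h3 : P = dbl t S := by
      apply F.maxT (h1.map _)
      · rintro _ ⟨x, hx, rfl⟩
        have h4 : x * s = s * x := mem_centralizer_singleton_iff.1 (h2 hx)
        show g * x * g⁻¹ * t = t * (g * x * g⁻¹)
        calc g * x * g⁻¹ * t = g * (x * s) * g⁻¹ := by rw [hs]; group
          _ = g * (s * x) * g⁻¹ := by rw [h4]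
          _ = t * (g * x * g⁻¹) := by rw [hs]; group
      · intro x hx
        have h5 : g⁻¹ * x * g ∈ T' := by
          rw [hmT']
          have : g * (g⁻¹ * x * g) * g⁻¹ = x := by group
          rw [this]; exact hx
        have h6 := hPm _ ((le_sup_left : T' ≤ _) h5)
        have : g * (g⁻¹ * x * g) * g⁻¹ = x := by group
        rwa [this] at h6
    have h7 : (dbl t A).map (MulAut.conj g).toMonoidHom = dbl t A := by
      apply F.uniqT
      · rw [← h3]
        exact map_mono le_sup_right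
      · rintro _ ⟨x, hx, rfl⟩
        show g * x * g⁻¹ * (g * x * g⁻¹) = 1
        calc g * x * g⁻¹ * (g * x * g⁻¹) = g * (x * x) * g⁻¹ := by group
          _ = 1 := by rw [F.AA_sq hx]; group
      · rw [← F.cardAA]
        exact (Nat.card_congr ((dbl t A).equivMapOfInjective _ (MulAut.conj g).injective).toEquiv).le
    rw [F.mem_NN]
    intro x
    constructor
    · intro hx
      rw [← h7]
      exact ⟨x, hx, rfl⟩
    · intro hx
      rw [← h7] at hx
      obtain ⟨z, hz, hzx⟩ := hx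
      have : z = x := mul_left_cancel (mul_right_cancel (hzx : g * z * g⁻¹ = g * x * g⁻¹))
      rwa [← this]
  · exfalso
    have hlt := F.cent_le hp h24 (hT'N hsT') hsA hss
    have hN := F.card_NN h24
    -- index of `A*` in `N`
    have hAN : dbl t A ≤ F.NN := le_normalizer
    have hi : (dbl t A).relIndex F.NN = 24 * 10200960 := by
      have h1 := Subgroup.card_mul_index ((dbl t A).subgroupOf F.NN)
      rw [Nat.card_congr (subgroupOfEquivOfLe hAN).toEquiv, F.cardAA, hN] at h1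
      have h2 : (dbl t A).relIndex F.NN = ((dbl t A).subgroupOf F.NN).index := rfl
      rw [h2]
      omega
    have hn : ((dbl t A).subgroupOf F.NN).Normal := by
      rw [normal_subgroupOf_iff_le_normalizer hAN]
      exact le_rfl
    have hd : (dbl t A).relIndex T' ∣ 24 * 10200960 := by
      have h1 := Subgroup.relIndex_dvd_index_of_normal ((dbl t A).subgroupOf F.NN) (T'.subgroupOf F.NN)
      rw [Subgroup.relIndex_subgroupOf hT'N] at h1
      rw [← hi]; exact h1
    have hcT : Nat.card T' = 2 ^ 19 := by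
      rw [← F.cardT]
      exact (Nat.card_congr ((dbl t S).equivMapOfInjective _ (MulAut.conj g⁻¹).injective).toEquiv).symm
    have hm := Subgroup.card_mul_index ((dbl t A).subgroupOf T')
    rw [hcT] at hm
    have hle : Nat.card ((dbl t A).subgroupOf T') ≤ Nat.card ↥(dbl t A ⊓ centralizer ({s} : Set G)) := by
      refine Nat.card_le_card_of_injective
        (fun x : (dbl t A).subgroupOf T' => (⟨((x : T') : G), x.2, mem_centralizer_singleton_iff.2
          (hcT' _ (x : T').2)⟩ : ↥(dbl t A ⊓ centralizer ({s} : Set G)))) ?_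
      intro x y hxy
      have h1 : ((x : T') : G) = ((y : T') : G) := by simpa using congrArg Subtype.val hxy
      exact Subtype.ext (Subtype.ext h1)
    have hidx : ((dbl t A).subgroupOf T').index = (dbl t A).relIndex T' := rfl
    rw [hidx] at hm
    have hdvd : (dbl t A).relIndex T' ∣ 2 ^ 19 := Dvd.intro_left _ hm
    obtain ⟨k, hk, hk2⟩ := (Nat.dvd_prime_pow Nat.prime_two).1 hdvd
    rw [hk2] at hd hm
    have hk10 : k ≤ 10 := by
      by_contra h
      have h1 : 2 ^ 11 ∣ 24 * 10200960 := (pow_dvd_pow 2 (by omega)).trans hd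
      norm_num at h1
    have h9 : 2 ^ 9 ≤ Nat.card ((dbl t A).subgroupOf T') := by
      by_contra h
      push Not at h
      have h1 : Nat.card ((dbl t A).subgroupOf T') * 2 ^ k < 2 ^ 9 * 2 ^ 10 :=
        calc Nat.card ((dbl t A).subgroupOf T') * 2 ^ k < 2 ^ 9 * 2 ^ k :=
              Nat.mul_lt_mul_of_pos_right h (by positivity)
          _ ≤ 2 ^ 9 * 2 ^ 10 := Nat.mul_le_mul_left _ (Nat.pow_le_pow_right (by norm_num) hk10)
      rw [hm] at h1
      norm_num at h1
    omega

/-- **End of the case `J_a ⊴ C_G(a)`** -/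
theorem last [Finite G] (F : Fr t K A S a) (hG : ∀ f : G →* ℤˣ, f t = 1)
    (h3 : ∀ x, x * a 0 = a 0 * x → x * t * x⁻¹ = t ∨ x * t * x⁻¹ = t * a 0)
    (hy : ∃ y ∈ F.NN, y * t * y⁻¹ ≠ t) : False := by
  classical
  obtain ⟨hp, h24⟩ := F.points h3 hy
  obtain ⟨f, hf⟩ := F.glue hp h24
  have : Fintype (G ⧸ F.NN) := Fintype.ofFinite _
  have h1 := OddHalf.D9.TransferGen.transfer_eq_D F.NN f t (by
    intro k hk hk1 g h
    have ho : orderOf t = 2 := orderOf_eq_prime (by rw [pow_two, F.tt]) F.t1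
    rw [ho] at hk
    have hk2 : k = 2 := by
      have : k ≤ 2 := Nat.le_of_dvd (by norm_num) hk
      interval_cases k <;> simp_all
    subst hk2
    have e : (⟨g⁻¹ * t ^ 2 * g, h⟩ : F.NN) = 1 := by
      apply Subtype.ext
      show g⁻¹ * t ^ 2 * g = 1
      rw [pow_two, F.tt]; group
    rw [e, map_one]) (dbl t S) F.pT (t_mem_dbl t S) (fun d hd => dbl_comm F.tt F.comS hd)
  have hset : Finset.univ.filter (fun q : G ⧸ F.NN => ∀ d ∈ dbl t S, d • q = q) =
      {((1 : G) : G ⧸ F.NN)} := by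
    ext q
    rw [Finset.mem_filter, Finset.mem_singleton]
    constructor
    · rintro ⟨-, hq⟩
      obtain ⟨g, rfl⟩ := QuotientGroup.mk_surjective q
      have hg : g ∈ F.NN := F.mem_NN_of_le hp h24 (fun x hx =>
        (OddHalf.D9.TransferGen.smul_mk_eq F.NN x g).1 (hq x hx))
      rw [QuotientGroup.eq]
      exact F.NN.mul_mem (F.NN.inv_mem hg) F.NN.one_mem
    · rintro rfl
      refine ⟨Finset.mem_univ _, fun d hd => ?_⟩
      rw [OddHalf.D9.TransferGen.smul_mk_eq]
      have : (1 : G)⁻¹ * d * 1 = d := by group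
      rw [this]
      -- `T ≤ N`
      rw [F.mem_NN]
      have hnT : d ∈ normalizer ((dbl t S : Subgroup G) : Set G) := le_normalizer hd
      exact fun x => mem_normalizer_iff.1 (F.norm_le hnT) x
  rw [hG, hset, Finset.prod_singleton] at h1
  have ht : (1 : G)⁻¹ * t * 1 ∈ F.NN := by
    have : (1 : G)⁻¹ * t * 1 = t := by group
    rw [this]; exact F.t_mem_NN
  rw [OddHalf.D9.TransferGen.val_mk F.NN f t 1 ht] at h1
  have e : (⟨(1 : G)⁻¹ * t * 1, ht⟩ : F.NN) = ⟨t, F.t_mem_NN⟩ := Subtype.ext (by group)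
  rw [e, hf] at h1
  exact absurd h1 (by decide)

end Fr

end Cfsg.Agent.OddHalf.D8.Fi23
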