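import Cfsg.Agent.OddHalf.D8.Fi23.SwapBase
import Cfsg.Agent.OddHalf.D8.Fi23.CentTwo
import Cfsg.Agent.OddHalf.D8.Fi23.Fr

/-!
# `K = Fi₂₃`: the case in which `C_K(a_i)` is a component of `C(a_i)` (helper907)

Then `C_K(a_0)` is normal in `C(a_0)`, its centralizer is `⟨t, a_0⟩`: `C(a_0)` moves `t` to `t` or `t a_0`.
-/

set_option autoImplicit false

namespace Cfsg.Agent.OddHalf.D8.Fi23

open Subgroup Cfsg Cfsg.Agent.OddHalf.Iface
open Cfsg.Agent.OddHalf

universe u

namespace Fr

variable {G : Type u} [Group G] {t : G} {K A S : Subgroup G} {a : Fin 23 → G}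

/-- `C_G(K) = W` has the Sylow 2-subgroup `⟨t⟩` -/
theorem cTwo (F : Fr t K A S a) : CTwo t (centralizer (K : Set G)) where
  tt := F.tt
  t1 := F.t1
  tW := mem_centralizer_iff.2 fun k hk => F.com k hk
  cen := by
    intro w hw hwt
    have hwK : ∀ k ∈ K, w * k = k * w := fun k hk => (mem_centralizer_iff.1 hw k hk).symm
    rcases F.cent w hwt with h | h
    · exact Or.inl (F.center_K h hwK)
    · right
      have h1 : t * w = 1 := by
        apply F.center_K h
        intro k hk
        calc t * w * k = t * (w * k) := by group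
          _ = (t * k) * w := by rw [hwK k hk]; group
          _ = k * (t * w) := by rw [← F.com k hk]; group
      rw [← F.et w, h1, mul_one]

/-- the elements of `C(J)`, `J = C_K(a_0)`, commuting with `t` -/
theorem cent_J (F : Fr t K A S a) (i : Fin 23) {y : G} (hyt : y * t = t * y)
    (hy : ∀ x ∈ K ⊓ centralizer ({a i} : Set G), y * x = x * y) :
    y = 1 ∨ y = a i ∨ y = t ∨ y = t * a i := by
  rcases F.cent y hyt with h | h
  · rcases F.cen i y h (fun x hx hxa => hy x ⟨hx, mem_centralizer_singleton_iff.2 hxa⟩) with h' | h'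
    · exact Or.inl h'
    · exact Or.inr (Or.inl h')
  · rcases F.cen i (t * y) h (fun x hx hxa => by
      calc t * y * x = t * (y * x) := by group
        _ = (t * x) * y := by rw [hy x ⟨hx, mem_centralizer_singleton_iff.2 hxa⟩]; group
        _ = x * (t * y) := by rw [← F.com x hx]; group) with h' | h'
    · right; right; left
      rw [← F.et y, h', mul_one]
    · right; right; right
      rw [← F.et y, h']

/-- an element centralizing `J_0` moves `t` into `C(K)` -/
theorem move_mem [Finite G] (F : Fr t K A S a)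
    (hC : ∀ i, CompOf (a i) (K ⊓ centralizer ({a i} : Set G))) {r : G}
    (hr : ∀ x ∈ K ⊓ centralizer ({a 0} : Set G), r * x = x * r) :
    r * t * r⁻¹ ∈ centralizer (K : Set G) := by
  have hA0 : ∀ x ∈ A, x ∈ K ⊓ centralizer ({a 0} : Set G) := fun x hx => F.AJ 0 hx
  have hr1 : r * a 1 = a 1 * r := hr _ (hA0 _ (F.mem 1))
  have h2 := compOf_cj' hr1 (hC 1)
  have h3 : cj r (K ⊓ centralizer ({a 1} : Set G)) = K ⊓ centralizer ({a 1} : Set G) := by
    by_contra hne
    have h4 := compOf_comm (hC 1) h2 (fun e => hne e.symm)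
    have h5 : a 0 ∈ cj r (K ⊓ centralizer ({a 1} : Set G)) := by
      rw [mem_cj]
      have h6 := hr _ (hA0 _ (F.mem 0))
      have : r⁻¹ * a 0 * r = a 0 := by rw [mul_assoc, ← h6, inv_mul_cancel_left]
      rw [this]
      exact F.AJ 1 (F.mem 0)
    rcases F.cen 1 (a 0) (F.aK 0) (fun y hy hya =>
      (h4 y ⟨hy, mem_centralizer_singleton_iff.2 hya⟩ _ h5).symm) with h | h
    · exact F.a_ne_one 0 h
    · exact absurd (F.a_inj h) (by decide)
  have h4 : K ⊓ centralizer ({a 1} : Set G) ≤ centralizer ({r * t * r⁻¹} : Set G) := by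
    intro x hx
    rw [← h3, mem_cj] at hx
    have h5 := F.com _ hx.1
    rw [mem_centralizer_singleton_iff]
    calc x * (r * t * r⁻¹) = r * (r⁻¹ * x * r * t) * r⁻¹ := by group
      _ = r * (t * (r⁻¹ * x * r)) * r⁻¹ := by rw [h5]
      _ = r * t * r⁻¹ * x := by group
  have h5 : K ⊓ centralizer ({a 0} : Set G) ≤ centralizer ({r * t * r⁻¹} : Set G) := by
    intro x hx
    have h6 := hr x hx
    have h7 := F.com x hx.1
    have h8 : x * r⁻¹ = r⁻¹ * x := by
      calc x * r⁻¹ = r⁻¹ * (r * x) * r⁻¹ := by group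
        _ = r⁻¹ * (x * r) * r⁻¹ := by rw [h6]
        _ = r⁻¹ * x := by group
    rw [mem_centralizer_singleton_iff]
    calc x * (r * t * r⁻¹) = (x * r) * t * r⁻¹ := by group
      _ = r * (x * t) * r⁻¹ := by rw [← h6]; group
      _ = r * t * (x * r⁻¹) := by rw [h7]; group
      _ = r * t * r⁻¹ * x := by rw [h8]; group
  have h6 : K ≤ centralizer ({r * t * r⁻¹} : Set G) :=
    (F.gen 0 1 (by decide)).trans (sup_le h5 h4)
  exact mem_centralizer_iff.2 fun k hk => mem_centralizer_singleton_iff.1 (h6 hk)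

/-- `C(J_0) = C(K) ∪ C(K) a_0` -/
theorem cent_J_or [Finite G] (F : Fr t K A S a)
    (hC : ∀ i, CompOf (a i) (K ⊓ centralizer ({a i} : Set G))) {y : G}
    (hy : ∀ x ∈ K ⊓ centralizer ({a 0} : Set G), y * x = x * y) :
    y ∈ centralizer (K : Set G) ∨ y * a 0 ∈ centralizer (K : Set G) := by
  have h1 := F.move_mem hC hy
  obtain ⟨w, hw, e⟩ := F.cTwo.conj h1
  have hwK : ∀ k ∈ K, w * k = k * w := fun k hk => (mem_centralizer_iff.1 hw k hk).symm
  have h2 : w⁻¹ * y * t = t * (w⁻¹ * y) := by
    calc w⁻¹ * y * t = w⁻¹ * (y * t * y⁻¹) * y := by group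
      _ = w⁻¹ * (w * t * w⁻¹) * y := by rw [e]
      _ = t * (w⁻¹ * y) := by group
  have h3 : ∀ x ∈ K ⊓ centralizer ({a 0} : Set G), w⁻¹ * y * x = x * (w⁻¹ * y) := by
    intro x hx
    have h4 : w⁻¹ * x = x * w⁻¹ := by
      have := hwK x hx.1
      calc w⁻¹ * x = w⁻¹ * (x * w) * w⁻¹ := by group
        _ = w⁻¹ * (w * x) * w⁻¹ := by rw [this]
        _ = x * w⁻¹ := by group
    calc w⁻¹ * y * x = w⁻¹ * (y * x) := by group
      _ = (w⁻¹ * x) * y := by rw [hy x hx]; group
      _ = x * (w⁻¹ * y) := by rw [h4]; group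
  have htW := F.cTwo.tW
  have hsq := F.sq _ (F.mem 0)
  rcases F.cent_J 0 h2 h3 with h | h | h | h
  · left
    have : y = w := (inv_mul_eq_one.1 h).symm
    rw [this]; exact hw
  · right
    have : y * a 0 = w := by
      have h4 : y = w * a 0 := by rw [← h]; group
      rw [h4, mul_assoc, hsq, mul_one]
    rw [this]; exact hw
  · left
    have : y = w * t := by rw [← h]; group
    rw [this]; exact mul_mem hw htW
  · right
    have : y * a 0 = w * t := by
      have h4 : y = w * (t * a 0) := by rw [← h]; group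
      rw [h4, mul_assoc, mul_assoc, hsq, mul_one]
    rw [this]; exact mul_mem hw htW

theorem a_notMem (F : Fr t K A S a) (i : Fin 23) : a i ∉ centralizer (K : Set G) := by
  intro h
  exact F.a_ne_one i (F.center_K (F.aK i) fun k hk => (mem_centralizer_iff.1 h k hk).symm)

/-- 8 does not divide `|C(J_0)|` -/
theorem not_eight [Finite G] (F : Fr t K A S a)
    (hC : ∀ i, CompOf (a i) (K ⊓ centralizer ({a i} : Set G))) :
    ¬ 8 ∣ Nat.card (centralizer ((K ⊓ centralizer ({a 0} : Set G) : Subgroup G) : Set G)) := by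
  set W := centralizer (K : Set G) with hW
  set Y := centralizer ((K ⊓ centralizer ({a 0} : Set G) : Subgroup G) : Set G) with hY
  have hWY : W ≤ Y := centralizer_le inf_le_left
  have h1 : (Y : Set G) ⊆ (W : Set G) ∪ (fun x => x * a 0) '' (W : Set G) := by
    intro y hy
    have hy' : ∀ x ∈ K ⊓ centralizer ({a 0} : Set G), y * x = x * y := fun x hx =>
      (mem_centralizer_iff.1 hy x hx).symm
    rcases F.cent_J_or hC hy' with h | h
    · exact Or.inl h
    · right
      refine ⟨y * a 0, h, ?_⟩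
      show y * a 0 * a 0 = y
      rw [mul_assoc, F.sq _ (F.mem 0), mul_one]
  have h2 : Nat.card Y ≤ 2 * Nat.card W := by
    have e1 : Nat.card Y = (Y : Set G).ncard := rfl
    have e2 : Nat.card W = (W : Set G).ncard := rfl
    rw [e1, e2]
    calc (Y : Set G).ncard ≤ ((W : Set G) ∪ (fun x => x * a 0) '' (W : Set G)).ncard :=
          Set.ncard_le_ncard h1 (Set.toFinite _)
      _ ≤ (W : Set G).ncard + ((fun x => x * a 0) '' (W : Set G)).ncard := Set.ncard_union_le _ _
      _ ≤ (W : Set G).ncard + (W : Set G).ncard :=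
          Nat.add_le_add_left (Set.ncard_image_le (Set.toFinite _)) _
      _ = 2 * (W : Set G).ncard := by ring
  have h3 : Nat.card W ∣ Nat.card Y := Subgroup.card_dvd_of_le hWY
  have h4 := F.cTwo.not_four
  have h5 : 0 < Nat.card W := Nat.card_pos
  have h6 : 0 < Nat.card Y := Nat.card_pos
  obtain ⟨c, hc⟩ := h3
  intro h8
  have hc2 : c ≤ 2 := by
    by_contra h
    push Not at h
    have : Nat.card W * 3 ≤ Nat.card W * c := Nat.mul_le_mul_left _ h
    rw [← hc] at this
    omega
  rw [hc] at h8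
  apply h4
  show 4 ∣ Nat.card W
  interval_cases c
  · omega
  · omega
  · omega

/-- `J_0` is normal in `C(a_0)` -/
theorem J_normal [Finite G] (F : Fr t K A S a)
    (hC : ∀ i, CompOf (a i) (K ⊓ centralizer ({a i} : Set G))) {x : G} (hx : x * a 0 = a 0 * x) :
    cj x (K ⊓ centralizer ({a 0} : Set G)) = K ⊓ centralizer ({a 0} : Set G) := by
  by_contra hne
  have h1 := compOf_comm (compOf_cj' hx (hC 0)) (hC 0) hne
  apply F.not_eight hC
  have h2 : cj x (K ⊓ centralizer ({a 0} : Set G)) ≤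
      centralizer ((K ⊓ centralizer ({a 0} : Set G) : Subgroup G) : Set G) := fun y hy =>
    mem_centralizer_iff.2 fun z hz => (h1 y hy z hz).symm
  have h3 := Subgroup.card_dvd_of_le h2
  rw [card_cj] at h3
  have h4 := Subgroup.card_dvd_of_le (F.AJ 0)
  rw [F.cardA] at h4
  exact (Dvd.dvd.trans (by norm_num) h4).trans h3

/-- **`t` moves to `t` or `t a_0` in `C(a_0)`** -/
theorem norm_end [Finite G] (F : Fr t K A S a) (bal : centralizerPPrimeCore 2 (a 0) = ⊥)
    (hC : ∀ i, CompOf (a i) (K ⊓ centralizer ({a i} : Set G))) :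
    ∀ x, x * a 0 = a 0 * x → x * t * x⁻¹ = t ∨ x * t * x⁻¹ = t * a 0 := by
  set J := K ⊓ centralizer ({a 0} : Set G) with hJ
  -- conjugation of `C(J)`
  have hYc : ∀ x, x * a 0 = a 0 * x → ∀ y, (∀ j ∈ J, y * j = j * y) →
      ∀ j ∈ J, x * y * x⁻¹ * j = j * (x * y * x⁻¹) := by
    intro x hx y hy j hj
    have h1 : x⁻¹ * j * x ∈ J := by
      rw [← mem_cj, F.J_normal hC hx]; exact hj
    have h2 := hy _ h1
    calc x * y * x⁻¹ * j = x * (y * (x⁻¹ * j * x)) * x⁻¹ := by group
      _ = x * (x⁻¹ * j * x * y) * x⁻¹ := by rw [h2]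
      _ = j * (x * y * x⁻¹) := by group
  obtain ⟨N, hNW, hodd, hN1, hN2⟩ := F.cTwo.exists_compl
  have hWK : ∀ w ∈ centralizer (K : Set G), ∀ k ∈ K, w * k = k * w := fun w hw k hk =>
    (mem_centralizer_iff.1 hw k hk).symm
  -- elements of odd order of `C(J)` lie in `N`
  have hodd' : ∀ y, (∀ j ∈ J, y * j = j * y) → Odd (orderOf y) → y ∈ N := by
    intro y hy ho
    rcases F.cent_J_or hC hy with h | h
    · exact hN1 y h ho
    · exfalso
      have h1 : Commute y (a 0) := hy _ (F.AJ 0 (F.mem 0))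
      obtain ⟨m, hm⟩ := ho
      have h2 : (y * a 0) ^ (2 * m + 1) = a 0 := by
        rw [h1.mul_pow, ← hm, pow_orderOf_eq_one, one_mul, hm, pow_succ, pow_mul, pow_two,
          F.sq _ (F.mem 0), one_pow, one_mul]
      apply F.a_notMem 0
      rw [← h2]
      exact pow_mem h _
  have hNodd : ∀ n ∈ N, Odd (orderOf n) := by
    intro n hn
    have h1 : orderOf (⟨n, hn⟩ : N) ∣ Nat.card N := orderOf_dvd_natCard _
    rw [← Subgroup.orderOf_coe] at h1
    exact Odd.of_dvd_nat hodd h1
  have hNa : N ≤ centralizer ({a 0} : Set G) := fun n hn =>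
    mem_centralizer_singleton_iff.2 (hWK n (hNW hn) _ (F.aK 0))
  have hNbot : N = ⊥ := by
    have hnorm : (N.subgroupOf (centralizer ({a 0} : Set G))).Normal := by
      refine ⟨fun n hn x => ?_⟩
      have hx := mem_centralizer_singleton_iff.1 x.2
      have hnN : (n : G) ∈ N := hn
      show (x : G) * n * (x : G)⁻¹ ∈ N
      apply hodd'
      · exact hYc x hx n fun j hj => hWK n (hNW hnN) j hj.1
      · have h1 : orderOf ((x : G) * n * (x : G)⁻¹) = orderOf (n : G) := by
          have := (MulAut.conj (x : G)).orderOf_eq (n : G)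
          simpa [MulAut.conj_apply] using this
        rw [h1]; exact hNodd _ hnN
    have hcop : (Nat.card (N.subgroupOf (centralizer ({a 0} : Set G)))).Coprime 2 := by
      rw [Nat.card_congr (subgroupOfEquivOfLe hNa).toEquiv, Nat.coprime_two_right]
      exact hodd
    have h1 := Lib.Cores.le_pPrimeCore hnorm hcop
    rw [Soft.core_eq_bot bal, le_bot_iff] at h1
    have h2 := congrArg (Subgroup.map (centralizer ({a 0} : Set G)).subtype) h1
    rwa [subgroupOf_map_subtype, inf_of_le_left hNa, Subgroup.map_bot] at h2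
  have hW : ∀ w ∈ centralizer (K : Set G), w = 1 ∨ w = t := by
    intro w hw
    rcases hN2 w hw with h | h
    · rw [hNbot, mem_bot] at h
      exact Or.inl h
    · rw [hNbot, mem_bot] at h
      right
      rw [← F.et w, h, mul_one]
  intro x hx
  have h1 := hYc x hx t fun j hj => (F.com j hj.1).symm
  have hsq := F.sq _ (F.mem 0)
  rcases F.cent_J_or hC h1 with h | h
  · rcases hW _ h with h' | h'
    · exfalso
      rw [mul_inv_eq_one] at h'
      exact F.t1 (mul_eq_left.1 h')
    · exact Or.inl h'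
  · rcases hW _ h with h' | h'
    · exfalso
      apply F.not_conj (F.aK 0) x
      calc x * t * x⁻¹ = x * t * x⁻¹ * (a 0 * a 0) := by rw [hsq, mul_one]
        _ = (x * t * x⁻¹ * a 0) * a 0 := by group
        _ = a 0 := by rw [h', one_mul]
    · right
      calc x * t * x⁻¹ = x * t * x⁻¹ * (a 0 * a 0) := by rw [hsq, mul_one]
        _ = (x * t * x⁻¹ * a 0) * a 0 := by group
        _ = t * a 0 := by rw [h']

end Fr

end Cfsg.Agent.OddHalf.D8.Fi23
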