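import Cfsg.Agent.OddHalf.D8.Fi23.Swap

/-!
# `K = Fi₂₃`: end of the diagonal case (helper907)
-/

set_option autoImplicit false

namespace Cfsg.Agent.OddHalf.D8.Fi23

open Subgroup Cfsg Cfsg.Agent.OddHalf.Iface
open Cfsg.Agent.OddHalf

universe u

namespace Fr

variable {G : Type u} [Group G] {t : G} {K A S : Subgroup G} {a : Fin 23 → G}

/-- the elements of `S` normalize `A` -/
theorem S_norm [Finite G] (F : Fr t K A S a) {s : G} (hs : s ∈ S) : s ∈ normalizer (A : Set G) := by
  have h1 : cj s A = A := by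
    apply F.uniq
    · rintro _ ⟨x, hx, rfl⟩
      exact S.mul_mem (S.mul_mem hs (F.AS hx)) (S.inv_mem hs)
    · rintro _ ⟨x, hx, rfl⟩
      show s * x * s⁻¹ * (s * x * s⁻¹) = 1
      calc s * x * s⁻¹ * (s * x * s⁻¹) = s * (x * x) * s⁻¹ := by group
        _ = 1 := by rw [F.sq _ hx]; group
    · rw [card_cj, F.cardA]
  rw [mem_normalizer_iff]
  intro x
  constructor
  · intro hx
    have := conj_mem_cj (g := s) hx
    rwa [h1] at this
  · intro hx
    have : s * x * s⁻¹ ∈ cj s A := by rw [h1]; exact hx
    obtain ⟨y, hy, hyx⟩ := this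
    have e : y = x := mul_left_cancel (mul_right_cancel (hyx : s * y * s⁻¹ = s * x * s⁻¹))
    rwa [← e]

/-- the number of the `a i` centralized by `S` is odd -/
theorem odd_fixed [Finite G] (F : Fr t K A S a) :
    Odd {i : Fin 23 | ∀ s ∈ S, s * a i = a i * s}.ncard := by
  classical
  have : Fact (Nat.Prime 2) := ⟨Nat.prime_two⟩
  have hperm : ∀ s ∈ S, ∀ i, ∃ j, s * a i * s⁻¹ = a j := fun s hs i =>
    F.perm s (F.SK hs) (F.S_norm hs) i
  let X : Type u := {x : G // ∃ i, x = a i}
  let act : MulAction S X :=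
    { smul := fun s x => ⟨s * x.1 * (s : G)⁻¹, by
        obtain ⟨i, hi⟩ := x.2
        obtain ⟨j, hj⟩ := hperm s s.2 i
        exact ⟨j, by rw [hi, hj]⟩⟩
      one_smul := fun x => Subtype.ext (by show (1 : G) * x.1 * (1 : G)⁻¹ = x.1; group)
      mul_smul := fun s r x => Subtype.ext (by
        show (s * r : G) * x.1 * (s * r : G)⁻¹ = s * (r * x.1 * (r : G)⁻¹) * (s : G)⁻¹
        group) }
  have hval : ∀ (s : S) (x : X), (s • x).1 = s * x.1 * (s : G)⁻¹ := fun _ _ => rfl
  have h1 := F.pS.card_modEq_card_fixedPoints X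
  have h2 : Nat.card X = 23 := by
    have e : Fin 23 ≃ X := Equiv.ofBijective (fun i => ⟨a i, i, rfl⟩)
      ⟨fun i j h => F.a_inj (congrArg Subtype.val h), fun x => by
        obtain ⟨x, i, rfl⟩ := x
        exact ⟨i, rfl⟩⟩
    rw [← Nat.card_congr e, Nat.card_eq_fintype_card, Fintype.card_fin]
  have h3 : Nat.card (MulAction.fixedPoints S X) = {i : Fin 23 | ∀ s ∈ S, s * a i = a i * s}.ncard := by
    rw [← Nat.card_coe_set_eq]
    symm
    refine Nat.card_congr (Equiv.ofBijective (fun i => ⟨⟨a i.1, i.1, rfl⟩, ?_⟩) ⟨?_, ?_⟩)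
    · intro s
      apply Subtype.ext
      rw [hval]
      exact mul_inv_eq_iff_eq_mul.2 (i.2 s s.2)
    · intro i j h
      have := congrArg (fun x => (x : X).1) (congrArg Subtype.val h)
      exact Subtype.ext (F.a_inj this)
    · rintro ⟨⟨x, i, rfl⟩, hx⟩
      refine ⟨⟨i, fun s hs => ?_⟩, rfl⟩
      have := congrArg Subtype.val (hx ⟨s, hs⟩)
      rw [hval] at this
      exact mul_inv_eq_iff_eq_mul.1 this
  rw [h2, h3] at h1
  rw [Nat.odd_iff, ← h1]

/-- **No diagonal case.** -/
theorem swap [Finite G] (F : Fr t K A S a) (hG : ∀ N : Subgroup G, N.index ≠ 2)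
    (bal : ∀ y : G, orderOf y = 2 → centralizerPPrimeCore 2 y = ⊥) (hD : Diag t K (a 0)) : False := by
  have hDi : ∀ i, Diag t K (a i) := by
    intro i
    obtain ⟨n, hn, -, e⟩ := F.one 0 i
    rw [← e]; exact F.diag_conj hn hD
  have hord : ∀ x : G, x * x = 1 → x ≠ 1 → orderOf x = 2 := fun x h1 h2 =>
    orderOf_eq_prime (by rw [pow_two, h1]) h2
  have ho : orderOf t = 2 := hord t F.tt F.t1
  have h1 := D9.Outer.even_neg hG (sgn (a 0)) t (by
    intro k hk hk1 g h
    rw [ho] at hk
    have hk2 : k = 2 := by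
      have : k ≤ 2 := Nat.le_of_dvd (by norm_num) hk
      interval_cases k <;> simp_all
    subst hk2
    have e : (⟨g⁻¹ * t ^ 2 * g, h⟩ : centralizer ({a 0} : Set G)) = 1 := by
      apply Subtype.ext
      show g⁻¹ * t ^ 2 * g = 1
      rw [pow_two, F.tt]; group
    rw [e, map_one]) (dbl t S) F.pT (t_mem_dbl t S) (fun d hd => dbl_comm F.tt F.comS hd)
  have h2 : D9.Outer.Neg (sgn (a 0)) (dbl t S) t = a '' {i : Fin 23 | ∀ s ∈ S, s * a i = a i * s} := by
    ext w
    constructor
    · rintro ⟨hw, hwT, hL⟩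
      have hwt : w * t = t * w := (hwT t (t_mem_dbl t S)).symm
      have hww : w * w = 1 := by
        obtain ⟨g, hg⟩ := isConj_iff.1 hw
        rw [← hg]
        calc g * a 0 * g⁻¹ * (g * a 0 * g⁻¹) = g * (a 0 * a 0) * g⁻¹ := by group
          _ = 1 := by rw [F.sq _ (F.mem 0)]; group
      have hw1 : w ≠ 1 := by
        rintro rfl
        obtain ⟨g, hg⟩ := isConj_iff.1 hw
        rw [mul_inv_eq_one] at hg
        exact F.a_ne_one 0 (mul_eq_left.1 hg)
      have hwo := hord w hww hw1
      have hone : (∀ N, Big w N → cj t N = N) → False := by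
        intro h
        have h3 := Lam_eq_one hw hwt.symm h
        rw [h3] at hL
        exact absurd hL (by decide)
      -- the part in `K`
      obtain ⟨x, hxK, hx⟩ : ∃ x ∈ K, w = x ∨ w = t * x := by
        rcases F.cent w hwt with h | h
        · exact ⟨w, h, Or.inl rfl⟩
        · exact ⟨t * w, h, Or.inr (F.et w).symm⟩
      have hxS : ∀ s ∈ S, s * x = x * s := by
        intro s hs
        have h3 := hwT s (le_dbl t S hs)
        rcases hx with rfl | rfl
        · exact h3
        · have h4 : t * (s * x) = t * (x * s) := by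
            calc t * (s * x) = (t * s) * x := by group
              _ = (s * t) * x := by rw [F.comS s hs]
              _ = s * (t * x) := by group
              _ = t * x * s := h3
              _ = t * (x * s) := by group
          exact mul_left_cancel h4
      have hxA : x ∈ A := F.self x hxK fun y hy => (hxS y (F.AS hy)).symm
      rcases F.toCode.mem_P_of_mem hxA with h | h | h | h
      · rw [Code.mem_P_zero] at h
        exfalso
        rcases hx with h' | h'
        · exact hw1 (h'.trans h)
        · rw [h, mul_one] at h'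
          obtain ⟨g, hg⟩ := isConj_iff.1 hw
          apply F.not_conj (F.aK 0) g⁻¹
          rw [← h', ← hg]; group
      · obtain ⟨i, rfl⟩ := (Code.mem_P_one _).1 h
        rcases hx with rfl | rfl
        · exact ⟨i, hxS, rfl⟩
        · exact (hone fun N hN => F.noswap_ta i hN.1).elim
      · obtain ⟨i, j, hij, rfl⟩ := (Code.mem_P_two _).1 h
        exact (hone (F.noswap bal hwo hxK hx (F.c2 i j hij))).elim
      · obtain ⟨i, j, k, hij, hik, hjk, rfl⟩ := (Code.mem_P_three _).1 h
        exact (hone (F.noswap bal hwo hxK hx (F.c3 i j k hij hik hjk))).elim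
    · rintro ⟨i, hi, rfl⟩
      have hc : IsConj (a 0) (a i) := by
        obtain ⟨n, -, -, e⟩ := F.one 0 i
        exact isConj_iff.2 ⟨n, e⟩
      refine ⟨hc, ?_, ?_⟩
      · intro d hd
        rcases F.mem_T.1 hd with h | h
        · exact hi d h
        · have h3 := hi _ h
          have h4 := F.com _ (F.aK i)
          have h5 : t * (d * a i) = t * (a i * d) := by
            calc t * (d * a i) = t * d * a i := by group
              _ = a i * (t * d) := h3
              _ = (a i * t) * d := by group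
              _ = (t * a i) * d := by rw [h4]
              _ = t * (a i * d) := by group
          exact mul_left_cancel h5
      · obtain ⟨M, hM, hne, hJ⟩ := hDi i
        exact Lam_eq_neg hc (F.com _ (F.aK i)).symm (F.big_of_diag hM hne hJ) F.tt hne
          fun N hN e1 e2 => F.oneswap (F.aK i) hM hJ hN.1 e1 e2
  rw [h2, Set.ncard_image_of_injective _ (fun i j h => F.a_inj h)] at h1
  exact (Nat.not_even_iff_odd.2 F.odd_fixed) h1

end Fr

end Cfsg.Agent.OddHalf.D8.Fi23
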