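import Cfsg.Agent.OddHalf.D8.Fi23.QTwo
import Cfsg.Agent.OddHalf.D8.Fi23.SwapEnd
import Cfsg.Agent.OddHalf.D8.Fi23.Norm
import Cfsg.Agent.OddHalf.D8.Fi23.Last
import Cfsg.Agent.OddHalf.D8.PumpX
import Cfsg.Agent.OddHalf.Front.OfSheet

/-!
# ODD half, D8: the kill of `K = Fi₂₃` (helper907)

`kill`: no counterexample has a standard component `K` with the facts `Sheet K A S a`, all automorphisms inner, unless
`C_K(a 0)` is properly contained in a component of `C_G(a 0)` (`hpu`).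
-/

set_option autoImplicit false

namespace Cfsg.Agent.OddHalf.D8.Fi23

open Subgroup Cfsg Cfsg.Agent.OddHalf Cfsg.Agent.OddHalf.Iface

universe u

/-- conjugation of `C_K(b)` -/
theorem cj_cent {G : Type*} [Group G] {K : Subgroup G} {n b : G} (hn : n ∈ K) :
    cj n (K ⊓ centralizer ({b} : Set G)) = K ⊓ centralizer ({n * b * n⁻¹} : Set G) := by
  ext x
  rw [mem_cj, mem_inf, mem_inf, mem_centralizer_singleton_iff, mem_centralizer_singleton_iff]
  constructor
  · rintro ⟨h1, h2⟩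
    refine ⟨?_, ?_⟩
    · have h3 := K.mul_mem (K.mul_mem hn h1) (K.inv_mem hn)
      have e : n * (n⁻¹ * x * n) * n⁻¹ = x := by group
      rwa [e] at h3
    · calc x * (n * b * n⁻¹) = n * (n⁻¹ * x * n * b) * n⁻¹ := by group
        _ = n * (b * (n⁻¹ * x * n)) * n⁻¹ := by rw [h2]
        _ = n * b * n⁻¹ * x := by group
  · rintro ⟨h1, h2⟩
    refine ⟨K.mul_mem (K.mul_mem (K.inv_mem hn) h1) hn, ?_⟩
    calc n⁻¹ * x * n * b = n⁻¹ * (x * (n * b * n⁻¹)) * n := by group
      _ = n⁻¹ * (n * b * n⁻¹ * x) * n := by rw [h2]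
      _ = b * (n⁻¹ * x * n) := by group

/-- **The kill of `K = Fi₂₃`**, up to the pump-up of `C_K(a 0)` -/
theorem kill {G : Type u} [Group G] (C : Ctx G) {K : Subgroup G} (St : Std G K) (hcyc : Cyc K)
    {A : Subgroup K} {S : Sylow 2 K} {a : Fin 23 → K} (sh : Sheet K A S a)
    (hout : ∀ φ : MulAut K, ∃ k : K, φ = MulAut.conj k)
    (hpu : ∀ D : Subgroup G, CompOf ((a 0 : K) : G) D →
      K ⊓ centralizer ({((a 0 : K) : G)} : Set G) < D → False) : False := by
  have := C.fin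
  have L : Loc K (A.map K.subtype) ((S : Subgroup K).map K.subtype) (fun i => (a i : G)) :=
    Loc.of_sheet sh
  have hcen : center K = ⊥ := by
    rw [eq_bot_iff]
    intro x hx
    rw [mem_bot]
    apply Subtype.ext
    exact L.center_K x.2 fun y hy => (congrArg Subtype.val (mem_center_iff.1 hx ⟨y, hy⟩)).symm
  obtain ⟨t, q, st⟩ := Front.FE.exists_start C St hcyc hcen
  have P : Pre t q K (A.map K.subtype) ((S : Subgroup K).map K.subtype) (fun i => (a i : G)) :=
    { st := st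
      loc := L
      cent := by
        intro g hg
        obtain ⟨k, hk⟩ := hout (K.normalizerMonoidHom ⟨g, st.nK g hg⟩)
        have h1 : g ∈ zpowers q ⊔ K := Front.OfSheet.mem_of_inn st hg ⟨k, hk.symm⟩
        obtain ⟨u, hu, x, hx, rfl⟩ := (Pre.mem_sup_comm (fun u hu k hk =>
          st.toStart0.QK u hu k hk)).1 h1
        refine ⟨u⁻¹, (zpowers q).inv_mem hu, ?_⟩
        rw [inv_mul_cancel_left]; exact hx }
  obtain ⟨F, y, hyN, hyt⟩ := P.main (Front.FE.commutator_eq_top C)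
  have hK2 : ∀ g, g * t = t * g → ∀ x ∈ K, g * x * g⁻¹ ∈ K := fun g hg x hx =>
    (mem_normalizer_iff.1 (st.nK g hg) x).1 hx
  have hidx : ∀ N : Subgroup G, N.index ≠ 2 := Front.FE.index_ne_two C
  have ho : orderOf ((a 0 : K) : G) = 2 :=
    orderOf_eq_prime (by rw [pow_two]; exact F.sq _ (F.mem 0)) (F.a_ne_one 0)
  have hJa : K ⊓ centralizer ({((a 0 : K) : G)} : Set G) ≤ centralizer ({((a 0 : K) : G)} : Set G) :=
    inf_le_right
  have hJt : K ⊓ centralizer ({((a 0 : K) : G)} : Set G) ≤ centralizer ({t} : Set G) := fun x hx =>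
    mem_centralizer_singleton_iff.2 (F.com x hx.1)
  have haJ : ((a 0 : K) : G) ∈ K ⊓ centralizer ({((a 0 : K) : G)} : Set G) :=
    ⟨F.aK 0, mem_centralizer_singleton_iff.2 rfl⟩
  have heven : 2 ∣ Nat.card ↥(K ⊓ centralizer ({((a 0 : K) : G)} : Set G)) := by
    have h1 : orderOf (⟨((a 0 : K) : G), haJ⟩ : ↥(K ⊓ centralizer ({((a 0 : K) : G)} : Set G))) = 2 := by
      rw [Subgroup.orderOf_mk]; exact ho
    rw [← h1]; exact orderOf_dvd_natCard _
  have hsub : ((K ⊓ centralizer ({((a 0 : K) : G)} : Set G)).subgroupOf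
      (centralizer ({((a 0 : K) : G)} : Set G) ⊓ centralizer ({t} : Set G))).IsSubnormal := by
    apply Normal.isSubnormal
    refine ⟨fun n hn g => ?_⟩
    have hgt := mem_centralizer_singleton_iff.1 g.2.2
    have hga : (g : G) ∈ centralizer ({((a 0 : K) : G)} : Set G) := g.2.1
    have hn' : (n : G) ∈ K ⊓ centralizer ({((a 0 : K) : G)} : Set G) := hn
    show (g : G) * n * (g : G)⁻¹ ∈ K ⊓ centralizer ({((a 0 : K) : G)} : Set G)
    exact ⟨hK2 g hgt n hn'.1, (centralizer ({((a 0 : K) : G)} : Set G)).mul_mem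
      ((centralizer ({((a 0 : K) : G)} : Set G)).mul_mem hga hn'.2)
      ((centralizer ({((a 0 : K) : G)} : Set G)).inv_mem hga)⟩
  obtain ⟨D, hD, h⟩ := PumpX.pump (C.bal _ ho) F.tt (F.com _ (F.aK 0)) hJa hJt (F.qs 0) heven hsub
  rcases h with h | ⟨h, -⟩ | ⟨h1, h2, h3⟩
  · -- `J` is a component
    have hC0 : CompOf ((a 0 : K) : G) (K ⊓ centralizer ({((a 0 : K) : G)} : Set G)) := by
      rw [h]; exact ⟨hD.le, hD.comp⟩
    have hC : ∀ i, CompOf ((a i : K) : G) (K ⊓ centralizer ({((a i : K) : G)} : Set G)) := by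
      intro i
      obtain ⟨n, hn, -, e⟩ := F.one 0 i
      have h1 := compOf_cj hC0 n
      rw [cj_cent hn] at h1
      have e' : n * ((a 0 : K) : G) * n⁻¹ = ((a i : K) : G) := e
      rwa [e'] at h1
    exact F.last (fun f => D9.Outer.hom_units_eq_one hidx f t) (F.norm_end (C.bal _ ho) hC)
      ⟨y, hyN, hyt⟩
  · exact hpu D ⟨hD.le, hD.comp⟩ h
  · refine F.swap hidx C.bal ⟨D, ⟨hD.le, hD.comp⟩, h1, fun x => ⟨fun hx => ?_, ?_⟩⟩
    · obtain ⟨d, hd, e⟩ := h3 x hx
      exact ⟨d, hd, e.symm⟩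
    · rintro ⟨d, hd, rfl⟩
      exact h2 d hd

end Cfsg.Agent.OddHalf.D8.Fi23
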