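import Mathlib

/-!
# Orbits of conjugation (helper907)
-/

set_option autoImplicit false
set_option linter.style.haveILetI false

namespace Cfsg.Agent.OddHalf.D8.Fi23

open Subgroup

variable {G : Type*} [Group G]

/-- the `N`-conjugates of `x` -/
def orb (N : Subgroup G) (x : G) : Set G := {y | ∃ n ∈ N, n * x * n⁻¹ = y}

theorem self_mem_orb (N : Subgroup G) (x : G) : x ∈ orb N x := ⟨1, N.one_mem, by group⟩

theorem orb_conj {N : Subgroup G} {x y n : G} (hy : y ∈ orb N x) (hn : n ∈ N) : n * y * n⁻¹ ∈ orb N x := by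
  obtain ⟨m, hm, rfl⟩ := hy
  exact ⟨n * m, N.mul_mem hn hm, by group⟩

/-- the conjugation action of a subgroup -/
@[reducible] def cact (N : Subgroup G) : MulAction N G where
  smul n x := (n : G) * x * (n : G)⁻¹
  one_smul x := by show ((1 : N) : G) * x * ((1 : N) : G)⁻¹ = x; simp
  mul_smul m n x := by
    show ((m * n : N) : G) * x * ((m * n : N) : G)⁻¹ = (m : G) * ((n : G) * x * (n : G)⁻¹) * (m : G)⁻¹
    rw [Subgroup.coe_mul]; group

theorem orb_card [Finite G] (N : Subgroup G) (x : G) :
    (orb N x).ncard * Nat.card ↥(N ⊓ centralizer ({x} : Set G)) = Nat.card N := by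
  letI := cact N
  have h1 : (orb N x).ncard = Nat.card (MulAction.orbit N x) := by
    have : (MulAction.orbit N x : Set G) = orb N x := by
      ext y
      constructor
      · rintro ⟨n, rfl⟩
        exact ⟨n, n.2, rfl⟩
      · rintro ⟨n, hn, rfl⟩
        exact ⟨⟨n, hn⟩, rfl⟩
    rw [← this]; rfl
  have h2 : Nat.card ↥(N ⊓ centralizer ({x} : Set G)) = Nat.card (MulAction.stabilizer N x) := by
    refine Nat.card_congr
      { toFun := fun y => ⟨⟨y, y.2.1⟩, ?_⟩
        invFun := fun y => ⟨y, y.1.2, ?_⟩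
        left_inv := fun y => rfl
        right_inv := fun y => rfl }
    · show (y : G) * x * (y : G)⁻¹ = x
      rw [mem_centralizer_singleton_iff.1 y.2.2, mul_inv_cancel_right]
    · have h3 : (y : G) * x * (y : G)⁻¹ = x := y.2
      exact mem_centralizer_singleton_iff.2 (mul_inv_eq_iff_eq_mul.1 h3)
  rw [h1, h2, Nat.card_congr (MulAction.orbitEquivQuotientStabilizer N x),
    ← Subgroup.card_eq_card_quotient_mul_card_subgroup]

end Cfsg.Agent.OddHalf.D8.Fi23
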