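import Cfsg.Agent.OddHalf.D8.Fi23.Fr
import Cfsg.Agent.OddHalf.D8.Fi23.Orb

/-!
# The 24 conjugates of `t` in `A*` (helper907)

`N = N_G(A*)`. If the conjugates of `t` under `C_G(a i)` are among `t`, `t a_i` and `N_G(T)` moves `t`, then
`t^N = {t, t a_0, …, t a_22}`.
-/

set_option autoImplicit false

namespace Cfsg.Agent.OddHalf.D8.Fi23

open Subgroup Cfsg

namespace Fr

variable {G : Type*} [Group G] {t : G} {K A S : Subgroup G} {a : Fin 23 → G}

/-- `N_G(A*)` -/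
def NN (_ : Fr t K A S a) : Subgroup G := normalizer ((dbl t A : Subgroup G) : Set G)

theorem mem_NN (F : Fr t K A S a) {n : G} : n ∈ F.NN ↔ ∀ x, x ∈ dbl t A ↔ n * x * n⁻¹ ∈ dbl t A :=
  mem_normalizer_iff

theorem AA_K (F : Fr t K A S a) {x : G} (hx : x ∈ dbl t A) (hK : x ∈ K) : x ∈ A := by
  rcases F.mem_AA.1 hx with h | h
  · exact h
  · exfalso
    apply F.tK
    have : t = t * x * x⁻¹ := by group
    rw [this]
    exact K.mul_mem (F.AK h) (K.inv_mem hK)

/-- `N ∩ K = N_K(A)` -/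
theorem mem_NN_of_K (F : Fr t K A S a) {n : G} (hn : n ∈ K) :
    n ∈ F.NN ↔ n ∈ normalizer (A : Set G) := by
  have hnt : n * t * n⁻¹ = t := by rw [F.com n hn, mul_inv_cancel_right]
  constructor
  · intro h
    rw [mem_normalizer_iff]
    intro x
    constructor
    · intro hx
      exact F.AA_K ((F.mem_NN.1 h x).1 (le_dbl t A hx)) (K.mul_mem (K.mul_mem hn (F.AK hx)) (K.inv_mem hn))
    · intro hx
      refine F.AA_K ((F.mem_NN.1 h x).2 (le_dbl t A hx)) ?_
      have e : x = n⁻¹ * (n * x * n⁻¹) * n := by group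
      rw [e]
      exact K.mul_mem (K.mul_mem (K.inv_mem hn) (F.AK hx)) hn
  · intro h
    rw [F.mem_NN]
    intro x
    have e : t * (n * x * n⁻¹) = n * (t * x) * n⁻¹ := by
      calc t * (n * x * n⁻¹) = (t * n) * x * n⁻¹ := by group
        _ = (n * t) * x * n⁻¹ := by rw [F.com n hn]
        _ = n * (t * x) * n⁻¹ := by group
    rw [F.mem_AA, F.mem_AA, e]
    exact or_congr (mem_normalizer_iff.1 h x) (mem_normalizer_iff.1 h _)

theorem t_mem_NN (F : Fr t K A S a) : t ∈ F.NN := by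
  rw [F.mem_NN]
  intro x
  constructor
  · intro hx
    have : t * x * t⁻¹ = x := by rw [← dbl_comm F.tt F.comA hx, mul_inv_cancel_right]
    rw [this]; exact hx
  · intro hx
    have h1 := dbl_comm F.tt F.comA hx
    have : x = t * x * t⁻¹ := by
      have h3 : t * x = t * (t * x * t⁻¹) := by rw [← h1]; group
      exact mul_left_cancel h3
    rw [this]; exact hx

/-- `C_N(t) = ⟨t⟩ × N_K(A)` -/
theorem NN_cent (F : Fr t K A S a) : F.NN ⊓ centralizer ({t} : Set G) =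
    dbl t (K ⊓ normalizer (A : Set G)) := by
  have hc : ∀ x ∈ K ⊓ normalizer (A : Set G), x * t = t * x := fun x hx => F.com x hx.1
  ext x
  rw [mem_inf, mem_centralizer_singleton_iff, mem_dbl F.tt hc]
  constructor
  · rintro ⟨h1, h2⟩
    rcases F.cent x h2 with h | h
    · exact Or.inl ⟨h, (F.mem_NN_of_K h).1 h1⟩
    · exact Or.inr ⟨h, (F.mem_NN_of_K h).1 (F.NN.mul_mem F.t_mem_NN h1)⟩
  · rintro (h | h)
    · exact ⟨(F.mem_NN_of_K h.1).2 h.2, F.com x h.1⟩
    · have h1 := (F.mem_NN_of_K h.1).2 h.2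
      have h2 := F.com _ h.1
      refine ⟨?_, ?_⟩
      · have := F.NN.mul_mem F.t_mem_NN h1
        rwa [F.et] at this
      · have h3 : t * (x * t) = t * (t * x) := by rw [← mul_assoc]; exact h2
        exact mul_left_cancel h3

theorem card_NN_cent [Finite G] (F : Fr t K A S a) :
    Nat.card ↥(F.NN ⊓ centralizer ({t} : Set G)) = 2 ^ 12 * 10200960 := by
  have hc : ∀ x ∈ K ⊓ normalizer (A : Set G), x * t = t * x := fun x hx => F.com x hx.1
  have hn : t ∉ K ⊓ normalizer (A : Set G) := fun h => F.tK h.1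
  rw [F.NN_cent, card_dbl F.tt hc hn, F.cardN]
  norm_num

/-- conjugates of `t` in `A*` -/
theorem conj_AA (F : Fr t K A S a) {g : G} (h : g * t * g⁻¹ ∈ dbl t A) : t * (g * t * g⁻¹) ∈ A := by
  rcases F.mem_AA.1 h with h1 | h1
  · exact absurd rfl (F.not_conj (F.AK h1) g)
  · exact h1

theorem orb_sub (F : Fr t K A S a) {x : G} (hx : x ∈ orb F.NN t) : x ∈ dbl t A ∧ t * x ∈ A := by
  obtain ⟨n, hn, rfl⟩ := hx
  have h := (F.mem_NN.1 hn t).1 (t_mem_dbl t A)
  exact ⟨h, F.conj_AA h⟩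

/-- `N_K(A)`-stability of `t * P k` -/
theorem P_stable (F : Fr t K A S a) {k : ℕ} (hk : k ≤ 3) {x y : G} (hx : x ∈ F.P k) (hy : y ∈ F.P k)
    (h : t * x ∈ orb F.NN t) : t * y ∈ orb F.NN t := by
  have key : ∀ n ∈ K, n ∈ normalizer (A : Set G) → n * x * n⁻¹ = y → t * y ∈ orb F.NN t := by
    intro n hn hN e
    have h1 := orb_conj h ((F.mem_NN_of_K hn).2 hN)
    have e2 : n * (t * x) * n⁻¹ = t * y := by
      rw [← e]
      calc n * (t * x) * n⁻¹ = (n * t) * x * n⁻¹ := by group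
        _ = (t * n) * x * n⁻¹ := by rw [F.com n hn]
        _ = t * (n * x * n⁻¹) := by group
    rwa [e2] at h1
  have hk' : k = 0 ∨ k = 1 ∨ k = 2 ∨ k = 3 := by omega
  rcases hk' with rfl | rfl | rfl | rfl
  · rw [F.mem_P_zero.1 hy]; rw [F.mem_P_zero.1 hx] at h; exact h
  · obtain ⟨i, rfl⟩ := F.mem_P_one.1 hx
    obtain ⟨j, rfl⟩ := F.mem_P_one.1 hy
    obtain ⟨n, hn, hN, e⟩ := F.one i j
    exact key n hn hN e
  · obtain ⟨i, j, hij, rfl⟩ := F.mem_P_two.1 hx
    obtain ⟨i', j', hij', rfl⟩ := F.mem_P_two.1 hy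
    obtain ⟨n, hn, hN, e1, e2⟩ := F.two hij hij'
    exact key n hn hN (by rw [← e1, ← e2]; group)
  · obtain ⟨i, j, l, h1, h2, h3, rfl⟩ := F.mem_P_three.1 hx
    obtain ⟨i', j', l', h4, h5, h6, rfl⟩ := F.mem_P_three.1 hy
    obtain ⟨n, hn, hN, e1, e2, e3⟩ := F.three i j l i' j' l' h1 h2 h3 h4 h5 h6
    exact key n hn hN (by rw [← e1, ← e2, ← e3]; group)

/-- the part of `t^N` in `t * P k` -/
def part (F : Fr t K A S a) (k : ℕ) : Set G := {x | x ∈ F.P k ∧ t * x ∈ orb F.NN t}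

theorem pair_le (x y : G) : ({x, y} : Set G).ncard ≤ 2 := by
  calc ({x, y} : Set G).ncard ≤ ({y} : Set G).ncard + 1 := Set.ncard_insert_le _ _
    _ = 2 := by rw [Set.ncard_singleton]

theorem part_card [Finite G] (F : Fr t K A S a) {k : ℕ} (hk : k ≤ 3) :
    (F.part k).ncard = 0 ∧ (∀ x ∈ F.P k, t * x ∉ orb F.NN t) ∨
      (F.part k).ncard = Nat.choose 23 k ∧ ∀ x ∈ F.P k, t * x ∈ orb F.NN t := by
  by_cases h : ∃ x ∈ F.P k, t * x ∈ orb F.NN t
  · right
    obtain ⟨x, hx, hx'⟩ := h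
    have h1 : ∀ y ∈ F.P k, t * y ∈ orb F.NN t := fun y hy => F.P_stable hk hx hy hx'
    refine ⟨?_, h1⟩
    have : F.part k = F.P k := by
      ext y
      exact ⟨fun hy => hy.1, fun hy => ⟨hy, h1 y hy⟩⟩
    rw [this, F.ncard_P hk]
  · left
    push Not at h
    refine ⟨?_, h⟩
    have : F.part k = ∅ := by
      rw [Set.eq_empty_iff_forall_notMem]
      rintro y ⟨h1, h2⟩
      exact h y h1 h2
    rw [this, Set.ncard_empty]

theorem orb_ncard [Finite G] (F : Fr t K A S a) :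
    (orb F.NN t).ncard = (F.part 0).ncard + (F.part 1).ncard + (F.part 2).ncard + (F.part 3).ncard := by
  have h1 : orb F.NN t = (fun x => t * x) '' (F.part 0 ∪ F.part 1 ∪ F.part 2 ∪ F.part 3) := by
    ext x
    constructor
    · intro hx
      obtain ⟨-, h2⟩ := F.orb_sub hx
      have h3 : t * (t * x) ∈ orb F.NN t := by rw [F.et]; exact hx
      refine ⟨t * x, ?_, F.et x⟩
      rcases F.mem_P_of_mem h2 with h | h | h | h
      · exact Or.inl (Or.inl (Or.inl ⟨h, h3⟩))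
      · exact Or.inl (Or.inl (Or.inr ⟨h, h3⟩))
      · exact Or.inl (Or.inr ⟨h, h3⟩)
      · exact Or.inr ⟨h, h3⟩
    · rintro ⟨y, ((hy | hy) | hy) | hy, rfl⟩ <;> exact hy.2
  have hd : ∀ k l, k ≤ 3 → l ≤ 3 → k ≠ l → Disjoint (F.part k) (F.part l) := by
    intro k l hk hl hkl
    exact Disjoint.mono (fun x hx => hx.1) (fun x hx => hx.1) (F.disj_P hk hl hkl)
  rw [h1, Set.ncard_image_of_injective _ (mul_right_injective t),
    Set.ncard_union_eq _ (Set.toFinite _) (Set.toFinite _),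
    Set.ncard_union_eq _ (Set.toFinite _) (Set.toFinite _),
    Set.ncard_union_eq _ (Set.toFinite _) (Set.toFinite _)]
  · exact hd 0 1 (by norm_num) (by norm_num) (by norm_num)
  · rw [Set.disjoint_union_left]
    exact ⟨hd 0 2 (by norm_num) (by norm_num) (by norm_num), hd 1 2 (by norm_num) (by norm_num) (by norm_num)⟩
  · rw [Set.disjoint_union_left, Set.disjoint_union_left]
    exact ⟨⟨hd 0 3 (by norm_num) (by norm_num) (by norm_num), hd 1 3 (by norm_num) (by norm_num) (by norm_num)⟩,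
      hd 2 3 (by norm_num) (by norm_num) (by norm_num)⟩

/-- the count `23 |t^N| = k |a^N|`, `k ∈ {1, 2}` -/
theorem count [Finite G] (F : Fr t K A S a)
    (h3 : ∀ x, x * a 0 = a 0 * x → x * t * x⁻¹ = t ∨ x * t * x⁻¹ = t * a 0) :
    ∃ k l : ℕ, 23 * (orb F.NN t).ncard = k * l ∧ l ≤ 4095 ∧
      (k = 1 ∨ (k = 2 ∧ t * a 0 ∈ orb F.NN t)) := by
  have e1 := orb_card F.NN t
  have e2 := orb_card F.NN (a 0)
  have e3 := orb_card (F.NN ⊓ centralizer ({a 0} : Set G)) t
  have e4 := orb_card (F.NN ⊓ centralizer ({t} : Set G)) (a 0)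
  have e5 : F.NN ⊓ centralizer ({a 0} : Set G) ⊓ centralizer ({t} : Set G) =
      F.NN ⊓ centralizer ({t} : Set G) ⊓ centralizer ({a 0} : Set G) := by
    rw [inf_assoc, inf_assoc, inf_comm (centralizer ({a 0} : Set G))]
  rw [e5] at e3
  -- the orbit of `a 0` under `C_N(t)`
  have h4 : orb (F.NN ⊓ centralizer ({t} : Set G)) (a 0) = F.P 1 := by
    ext y
    rw [F.mem_P_one]
    constructor
    · have hc : ∀ x ∈ K ⊓ normalizer (A : Set G), x * t = t * x := fun x hx => F.com x hx.1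
      rintro ⟨n, hn, rfl⟩
      rw [F.NN_cent, mem_dbl F.tt hc] at hn
      rcases hn with hn | hn
      · exact F.perm n hn.1 hn.2 0
      · obtain ⟨j, hj⟩ := F.perm _ hn.1 hn.2 0
        refine ⟨j, ?_⟩
        have hj' := F.com _ (F.aK j)
        calc n * a 0 * n⁻¹ = t⁻¹ * ((t * n) * a 0 * (t * n)⁻¹) * t := by group
          _ = t⁻¹ * (a j * t) := by rw [hj, mul_assoc]
          _ = a j := by rw [hj']; group
    · rintro ⟨j, rfl⟩
      obtain ⟨n, hn, hN, e⟩ := F.one 0 j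
      exact ⟨n, ⟨(F.mem_NN_of_K hn).2 hN, mem_centralizer_singleton_iff.2 (F.com n hn)⟩, e⟩
  rw [h4, F.ncard_P (by norm_num), Nat.choose_one_right] at e4
  -- the orbit of `t` under `C_N(a 0)`
  set O := orb (F.NN ⊓ centralizer ({a 0} : Set G)) t with hO
  have hta : t * a 0 ≠ t := fun h => F.a_ne_one 0 (mul_eq_left.1 h)
  have hsub : O ⊆ {t, t * a 0} := by
    rintro _ ⟨n, hn, rfl⟩
    exact h3 n (mem_centralizer_singleton_iff.1 hn.2)
  have hO2 : O.ncard ≤ 2 := by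
    calc O.ncard ≤ ({t, t * a 0} : Set G).ncard := Set.ncard_le_ncard hsub (Set.toFinite _)
      _ ≤ 2 := pair_le _ _
  have hO1 : 1 ≤ O.ncard := by
    rw [Nat.one_le_iff_ne_zero, Ne, Set.ncard_eq_zero (Set.toFinite _)]
    exact Set.nonempty_iff_ne_empty.1 ⟨t, self_mem_orb _ _⟩
  -- the orbit of `a 0` under `N`
  have hl : (orb F.NN (a 0)).ncard ≤ 4095 := by
    have hs : orb F.NN (a 0) ⊆ (dbl t A : Set G) \ {1} := by
      rintro _ ⟨n, hn, rfl⟩
      refine ⟨(F.mem_NN.1 hn (a 0)).1 (le_dbl t A (F.mem 0)), ?_⟩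
      intro h
      have h : n * a 0 * n⁻¹ = 1 := h
      rw [mul_inv_eq_one] at h
      exact F.a_ne_one 0 (mul_eq_left.1 h)
    have h5 : ((dbl t A : Set G) \ {1}).ncard = 4095 := by
      have h6 : (dbl t A : Set G).ncard = 2 ^ 12 := F.cardAA
      rw [Set.ncard_sdiff_singleton_of_mem (dbl t A).one_mem, h6]
      norm_num
    rw [← h5]
    exact Set.ncard_le_ncard hs (Set.toFinite _)
  set m := Nat.card ↥(F.NN ⊓ centralizer ({t} : Set G) ⊓ centralizer ({a 0} : Set G)) with hm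
  have hm0 : 0 < m := Nat.card_pos
  refine ⟨O.ncard, (orb F.NN (a 0)).ncard, ?_, hl, ?_⟩
  · apply Nat.eq_of_mul_eq_mul_right hm0
    calc 23 * (orb F.NN t).ncard * m = (orb F.NN t).ncard * (23 * m) := by ring
      _ = Nat.card F.NN := by rw [e4, e1]
      _ = (orb F.NN (a 0)).ncard * (O.ncard * m) := by rw [e3, e2]
      _ = O.ncard * (orb F.NN (a 0)).ncard * m := by ring
  · have : O.ncard = 1 ∨ O.ncard = 2 := by omega
    rcases this with h | h
    · exact Or.inl h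
    · right
      refine ⟨h, ?_⟩
      have h6 : ({t, t * a 0} : Set G) ⊆ O := by
        rw [Set.eq_of_subset_of_ncard_le hsub (by rw [h]; exact pair_le _ _) (Set.toFinite _)]
      obtain ⟨n, hn, e⟩ := h6 (Set.mem_insert_of_mem _ rfl)
      exact ⟨n, hn.1, e⟩

/-- **the 24 points** -/
theorem points [Finite G] (F : Fr t K A S a)
    (h3 : ∀ x, x * a 0 = a 0 * x → x * t * x⁻¹ = t ∨ x * t * x⁻¹ = t * a 0)
    (hy : ∃ y ∈ F.NN, y * t * y⁻¹ ≠ t) :
    (∀ x, x ∈ orb F.NN t ↔ x = t ∨ ∃ i, x = t * a i) ∧ (orb F.NN t).ncard = 24 := by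
  obtain ⟨k, l, e, hl, hk⟩ := F.count h3
  have hsum := F.orb_ncard
  have h0 : (F.part 0).ncard = 1 := by
    rcases F.part_card (k := 0) (by norm_num) with ⟨-, h⟩ | ⟨h, -⟩
    · exfalso
      apply h 1 (F.mem_P_zero.2 rfl)
      rw [mul_one]; exact self_mem_orb _ _
    · rw [h]; rfl
  have hne : (orb F.NN t).ncard ≠ 1 := by
    intro h
    rw [Set.ncard_eq_one] at h
    obtain ⟨x, hx⟩ := h
    obtain ⟨y, hy, hyt⟩ := hy
    have h1 : t ∈ orb F.NN t := self_mem_orb _ _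
    have h2 : y * t * y⁻¹ ∈ orb F.NN t := ⟨y, hy, rfl⟩
    rw [hx, Set.mem_singleton_iff] at h1 h2
    exact hyt (h2.trans h1.symm)
  have c2 : Nat.choose 23 2 = 253 := by decide
  have c3 : Nat.choose 23 3 = 1771 := by decide
  have c1 : Nat.choose 23 1 = 23 := by decide
  have p1 := F.part_card (k := 1) (by norm_num)
  have p2 := F.part_card (k := 2) (by norm_num)
  have p3 := F.part_card (k := 3) (by norm_num)
  rw [c1] at p1
  rw [c2] at p2
  rw [c3] at p3
  have hk1 : k = 2 → (F.part 1).ncard = 23 := by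
    intro hk2
    rcases p1 with ⟨-, h⟩ | ⟨h, -⟩
    · exfalso
      apply h (a 0) (F.mem_P_one.2 ⟨0, rfl⟩)
      rcases hk with h' | h'
      · omega
      · exact h'.2
    · exact h
  have hk' : k = 1 ∨ k = 2 := hk.imp id And.left
  have n1 : (F.part 1).ncard = 0 ∨ (F.part 1).ncard = 23 := p1.imp And.left And.left
  have n2 : (F.part 2).ncard = 0 ∨ (F.part 2).ncard = 253 := p2.imp And.left And.left
  have n3 : (F.part 3).ncard = 0 ∨ (F.part 3).ncard = 1771 := p3.imp And.left And.left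
  have hconc : (F.part 1).ncard = 23 ∧ (F.part 2).ncard = 0 ∧ (F.part 3).ncard = 0 := by
    rcases hk' with rfl | rfl
    · rcases n1 with h1 | h1 <;> rcases n2 with h2 | h2 <;> rcases n3 with h3' | h3' <;> omega
    · have h1 := hk1 rfl
      rcases n2 with h2 | h2 <;> rcases n3 with h3' | h3' <;> omega
  obtain ⟨q1, q2, q3⟩ := hconc
  have r1 : ∀ x ∈ F.P 1, t * x ∈ orb F.NN t := by
    rcases p1 with ⟨h, -⟩ | ⟨-, h⟩
    · omega
    · exact h
  have r2 : ∀ x ∈ F.P 2, t * x ∉ orb F.NN t := by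
    rcases p2 with ⟨-, h⟩ | ⟨h, -⟩
    · exact h
    · omega
  have r3 : ∀ x ∈ F.P 3, t * x ∉ orb F.NN t := by
    rcases p3 with ⟨-, h⟩ | ⟨h, -⟩
    · exact h
    · omega
  refine ⟨fun x => ⟨fun hx => ?_, ?_⟩, by omega⟩
  · obtain ⟨-, h2⟩ := F.orb_sub hx
    have hx' : t * (t * x) ∈ orb F.NN t := by rw [F.et]; exact hx
    rcases F.mem_P_of_mem h2 with h | h | h | h
    · left
      have := F.mem_P_zero.1 h
      calc x = t * (t * x) := (F.et x).symm
        _ = t := by rw [this, mul_one]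
    · right
      obtain ⟨i, hi⟩ := F.mem_P_one.1 h
      exact ⟨i, by rw [← hi, F.et]⟩
    · exact absurd hx' (r2 _ h)
    · exact absurd hx' (r3 _ h)
  · rintro (rfl | ⟨i, rfl⟩)
    · exact self_mem_orb _ _
    · exact r1 _ (F.mem_P_one.2 ⟨i, rfl⟩)

end Fr

end Cfsg.Agent.OddHalf.D8.Fi23
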