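import Cfsg.Agent.OddHalf.D8.Fi23.Fr
import Cfsg.Agent.OddHalf.D9.TransferGen
import Cfsg.Agent.OddHalf.Front.FE
import Cfsg.Agent.Transfer.FrobeniusFusion

/-!
# `C_G(t) = Q × K` with `Q` a cyclic 2-group: `|Q| = 2` and `t` moves in `N_G(T)` (helper907)
-/

set_option autoImplicit false

namespace Cfsg.Agent.OddHalf.D8.Fi23

open Subgroup Cfsg Cfsg.Agent.OddHalf
open scoped commutatorElement

universe u

/-- `C_G(t) = Q × K` -/
structure Pre {G : Type u} [Group G] (t q : G) (K A S : Subgroup G) (a : Fin 23 → G) : Prop where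
  st : Front.FE.Start K t q
  loc : Loc K A S a
  cent : ∀ g, g * t = t * g → ∃ y ∈ zpowers q, y * g ∈ K

namespace Pre

variable {G : Type u} [Group G] {t q : G} {K A S : Subgroup G} {a : Fin 23 → G}

theorem QK (P : Pre t q K A S a) {x y : G} (hx : x ∈ K) (hy : y ∈ zpowers q) : x * y = y * x :=
  P.st.toStart0.QK y hy x hx

theorem QQ {x y : G} (hx : x ∈ zpowers q) (hy : y ∈ zpowers q) : x * y = y * x := by
  obtain ⟨i, rfl⟩ := mem_zpowers_iff.1 hx
  obtain ⟨j, rfl⟩ := mem_zpowers_iff.1 hy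
  rw [← zpow_add, ← zpow_add, add_comm]

theorem inter (P : Pre t q K A S a) {x : G} (hx : x ∈ K) (hq : x ∈ zpowers q) : x = 1 :=
  P.st.cen x hx fun _ hy => P.QK hy hq

theorem com (P : Pre t q K A S a) : ∀ k ∈ K, k * t = t * k := fun _ hk => P.QK hk P.st.tQ

theorem tK (P : Pre t q K A S a) : t ∉ K := fun h => P.st.t1 (P.inter h P.st.tQ)

theorem Qt (P : Pre t q K A S a) : ∀ y ∈ zpowers q, y * t = t * y := fun _ hy => QQ hy P.st.tQ

/-- decomposition of the elements of `C(t)` -/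
theorem dec (P : Pre t q K A S a) {g : G} (hg : g * t = t * g) : ∃ y ∈ zpowers q, ∃ k ∈ K, g = y * k := by
  obtain ⟨y, hy, hk⟩ := P.cent g hg
  exact ⟨y⁻¹, (zpowers q).inv_mem hy, y * g, hk, by group⟩

/-- commutators of `C(t)` lie in `K` -/
theorem der_le (P : Pre t q K A S a) : ⁅centralizer ({t} : Set G), centralizer ({t} : Set G)⁆ ≤ K := by
  rw [Subgroup.commutator_le]
  intro g hg h hh
  obtain ⟨u, hu, k, hk, rfl⟩ := P.dec (mem_centralizer_singleton_iff.1 hg)
  obtain ⟨v, hv, l, hl, rfl⟩ := P.dec (mem_centralizer_singleton_iff.1 hh)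
  have e : ⁅u * k, v * l⁆ = ⁅k, l⁆ := by
    have hu' := (zpowers q).inv_mem hu
    have hv' := (zpowers q).inv_mem hv
    rw [commutatorElement_def, commutatorElement_def, mul_inv_rev, mul_inv_rev]
    calc u * k * (v * l) * (k⁻¹ * u⁻¹) * (l⁻¹ * v⁻¹)
        = u * (k * v) * l * k⁻¹ * u⁻¹ * (l⁻¹ * v⁻¹) := by group
      _ = u * v * (k * l * k⁻¹ * u⁻¹) * (l⁻¹ * v⁻¹) := by rw [P.QK hk hv]; group
      _ = u * v * (u⁻¹ * (k * l * k⁻¹)) * (l⁻¹ * v⁻¹) := by
          rw [P.QK (K.mul_mem (K.mul_mem hk hl) (K.inv_mem hk)) hu']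
      _ = (u * v) * u⁻¹ * ((k * l * k⁻¹ * l⁻¹) * v⁻¹) := by group
      _ = (v * u) * u⁻¹ * (v⁻¹ * (k * l * k⁻¹ * l⁻¹)) := by
          rw [QQ hu hv, P.QK (K.mul_mem (K.mul_mem (K.mul_mem hk hl) (K.inv_mem hk)) (K.inv_mem hl)) hv']
      _ = k * l * k⁻¹ * l⁻¹ := by group
  rw [e, commutatorElement_def]
  exact K.mul_mem (K.mul_mem (K.mul_mem hk hl) (K.inv_mem hk)) (K.inv_mem hl)

/-- `t` is not conjugate to an element of `K` -/
theorem not_conj (P : Pre t q K A S a) {x : G} (hx : x ∈ K) (g : G) : g * t * g⁻¹ ≠ x := by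
  intro h
  have tt := P.st.tt
  have hsq : x * x = 1 := by
    rw [← h]
    calc g * t * g⁻¹ * (g * t * g⁻¹) = g * (t * t) * g⁻¹ := by group
      _ = 1 := by rw [tt]; group
  have hx1 : x ≠ 1 := by
    intro h1
    rw [h1, mul_inv_eq_one] at h
    exact P.st.t1 (mul_eq_left.1 h)
  have h1 := P.loc.der x hx hsq hx1
  have h2 : x ∈ ⁅centralizer ({x} : Set G), centralizer ({x} : Set G)⁆ :=
    commutator_mono inf_le_right inf_le_right h1
  have h3 := Fr.mem_der_conj (n := g⁻¹) h2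
  have e : g⁻¹ * x * g⁻¹⁻¹ = t := by rw [← h]; group
  rw [e] at h3
  exact P.tK (P.der_le h3)

/-- a conjugate of `t` in `C(t)` lies in `t K` -/
theorem conj_mem (P : Pre t q K A S a) [Finite G] {g : G} (h : g * t * g⁻¹ * t = t * (g * t * g⁻¹)) :
    t * (g * t * g⁻¹) ∈ K := by
  have tt := P.st.tt
  obtain ⟨y, hy, k, hk, he⟩ := P.dec h
  have hsq : g * t * g⁻¹ * (g * t * g⁻¹) = 1 := by
    calc g * t * g⁻¹ * (g * t * g⁻¹) = g * (t * t) * g⁻¹ := by group
      _ = 1 := by rw [tt]; group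
  rw [he] at hsq
  have h1 : (y * y) * (k * k) = 1 := by
    calc (y * y) * (k * k) = y * (y * k) * k := by group
      _ = y * (k * y) * k := by rw [P.QK hk hy]
      _ = y * k * (y * k) := by group
      _ = 1 := hsq
  have h2 : y * y = 1 := by
    apply P.inter
    · have : y * y = (k * k)⁻¹ := eq_inv_of_mul_eq_one_left h1
      rw [this]; exact K.inv_mem (K.mul_mem hk hk)
    · exact (zpowers q).mul_mem hy hy
  by_cases hy1 : y = 1
  · exfalso
    rw [hy1, one_mul] at he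
    exact P.not_conj hk g he
  · have h3 := P.st.toStart0.uniq hy h2 hy1
    rw [he, h3, ← mul_assoc, tt, one_mul]
    exact hk

/-- the index of `C(t)` is even -/
theorem even_index [Finite G] (P : Pre t q K A S a) (hG : commutator G = ⊤) :
    2 ∣ (centralizer ({t} : Set G)).index := by
  classical
  have tt := P.st.tt
  set C := centralizer ({t} : Set G) with hC
  have htC : t ∈ C := mem_centralizer_singleton_iff.2 rfl
  have hKC : K ≤ C := fun k hk => mem_centralizer_singleton_iff.2 (P.com k hk)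
  have : Fact (Nat.Prime 2) := ⟨Nat.prime_two⟩
  have : Fintype (G ⧸ C) := Fintype.ofFinite _
  let φ : C →* Abelianization C := Abelianization.of
  have hmap : (commutator C).map C.subtype = ⁅C, C⁆ := by
    rw [commutator_def, Subgroup.map_commutator, ← MonoidHom.range_eq_map, Subgroup.range_subtype]
  have hφK : ∀ k : C, (k : G) ∈ K → φ k = 1 := by
    intro k hk
    rw [← MonoidHom.mem_ker, Abelianization.ker_of]
    rw [← P.loc.K_perf] at hk
    have h1 : (k : G) ∈ ⁅C, C⁆ := commutator_mono hKC hKC hk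
    rw [← hmap] at h1
    obtain ⟨y, hy, hyk⟩ := h1
    have : y = k := Subtype.ext hyk
    rwa [← this]
  have hφt : φ ⟨t, htC⟩ ≠ 1 := by
    intro h
    rw [← MonoidHom.mem_ker, Abelianization.ker_of] at h
    apply P.tK
    apply P.der_le
    rw [← hC, ← hmap]
    exact ⟨_, h, rfl⟩
  have hV : MonoidHom.transfer φ t = 1 := by
    have h1 := Abelianization.commutator_subset_ker (MonoidHom.transfer φ)
    rw [hG] at h1
    exact h1 (mem_top t)
  have ho : orderOf t = 2 := orderOf_eq_prime (by rw [pow_two, tt]) P.st.t1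
  rw [D9.TransferGen.transfer_eq C φ t (by
    intro k hk hk1 g h
    rw [ho] at hk
    have hk2 : k = 2 := by
      have : k ≤ 2 := Nat.le_of_dvd (by norm_num) hk
      interval_cases k <;> simp_all
    subst hk2
    have e : (⟨g⁻¹ * t ^ 2 * g, h⟩ : C) = 1 := by
      apply Subtype.ext
      show g⁻¹ * t ^ 2 * g = 1
      rw [pow_two, tt]; group
    rw [e, map_one])] at hV
  have hval : ∀ x ∈ Finset.univ.filter (fun x : G ⧸ C => t • x = x),
      D9.TransferGen.val C φ t x = φ ⟨t, htC⟩ := by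
    intro x hx
    rw [Finset.mem_filter] at hx
    obtain ⟨g, rfl⟩ := QuotientGroup.mk_surjective x
    have h1 := (D9.TransferGen.smul_mk_eq C t g).1 hx.2
    rw [D9.TransferGen.val_mk C φ t g h1]
    have h2 : g⁻¹ * t * g⁻¹⁻¹ = g⁻¹ * t * g := by group
    have h3 := P.conj_mem (g := g⁻¹) (by
      rw [h2]
      exact mem_centralizer_singleton_iff.1 h1)
    rw [h2] at h3
    have h4 : (⟨g⁻¹ * t * g, h1⟩ : C) = ⟨t, htC⟩ * ⟨t * (g⁻¹ * t * g), hKC h3⟩ := by
      apply Subtype.ext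
      show g⁻¹ * t * g = t * (t * (g⁻¹ * t * g))
      rw [← mul_assoc t t, tt, one_mul]
    rw [h4, map_mul, hφK ⟨t * (g⁻¹ * t * g), hKC h3⟩ h3, mul_one]
  rw [Finset.prod_congr rfl hval, Finset.prod_const] at hV
  set n := (Finset.univ.filter (fun x : G ⧸ C => t • x = x)).card with hn
  have hn2 : 2 ∣ n := by
    have h1 : φ ⟨t, htC⟩ ^ 2 = 1 := by
      rw [← map_pow]
      have : (⟨t, htC⟩ : C) ^ 2 = 1 := Subtype.ext (by show t ^ 2 = 1; rw [pow_two, tt])
      rw [this, map_one]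
    have h2 : orderOf (φ ⟨t, htC⟩) = 2 := orderOf_eq_prime h1 hφt
    rw [← h2]
    exact orderOf_dvd_of_pow_eq_one hV
  have hp : IsPGroup 2 (zpowers t) := by
    rintro ⟨x, hx⟩
    obtain ⟨i, rfl⟩ := mem_zpowers_iff.1 hx
    refine ⟨1, Subtype.ext ?_⟩
    show (t ^ i) ^ (2 ^ 1) = 1
    have h2 : t ^ (2 : ℤ) = 1 := by
      rw [show (2 : ℤ) = 1 + 1 by norm_num, zpow_add, zpow_one, tt]
    rw [pow_one, pow_two, ← zpow_add, ← two_mul, zpow_mul, h2, one_zpow]
  have h1 := hp.card_modEq_card_fixedPoints (G ⧸ C)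
  have h2 : Nat.card (MulAction.fixedPoints (zpowers t) (G ⧸ C)) = n := by
    rw [hn, ← Set.ncard_coe_finset, ← Nat.card_coe_set_eq]
    congr 1
    apply congrArg
    ext x
    rw [MulAction.mem_fixedPoints, Finset.coe_filter, Set.mem_ofPred_eq]
    constructor
    · intro h
      exact ⟨Finset.mem_univ _, h ⟨t, mem_zpowers t⟩⟩
    · rintro ⟨-, h⟩ ⟨y, hy⟩
      have h3 : zpowers t ≤ MulAction.stabilizer G x := by
        rw [zpowers_le]; exact h
      exact h3 hy
  rw [h2] at h1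
  have h3 : C.index = Nat.card (G ⧸ C) := rfl
  rw [h3]
  exact (Nat.ModEq.dvd_iff h1 dvd_rfl).2 hn2

/-! ### Growth -/

theorem mem_sup_comm {H L : Subgroup G} (hc : ∀ x ∈ H, ∀ k ∈ L, k * x = x * k) {y : G} :
    y ∈ H ⊔ L ↔ ∃ x ∈ H, ∃ k ∈ L, y = x * k := by
  constructor
  · intro hy
    let M : Subgroup G :=
      { carrier := {y | ∃ x ∈ H, ∃ k ∈ L, y = x * k}
        one_mem' := ⟨1, one_mem _, 1, one_mem _, by group⟩
        mul_mem' := by
          rintro _ _ ⟨x, ha, k, hk, rfl⟩ ⟨b, hb, l, hl, rfl⟩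
          refine ⟨x * b, mul_mem ha hb, k * l, mul_mem hk hl, ?_⟩
          calc x * k * (b * l) = x * (k * b) * l := by group
            _ = x * (b * k) * l := by rw [hc b hb k hk]
            _ = x * b * (k * l) := by group
        inv_mem' := by
          rintro _ ⟨x, ha, k, hk, rfl⟩
          refine ⟨x⁻¹, inv_mem ha, k⁻¹, inv_mem hk, ?_⟩
          rw [mul_inv_rev, hc x⁻¹ (inv_mem ha) k⁻¹ (inv_mem hk)] }
    have h1 : H ⊔ L ≤ M := by
      rw [sup_le_iff]
      exact ⟨fun x ha => ⟨x, ha, 1, one_mem _, by group⟩, fun k hk => ⟨1, one_mem _, k, hk, by group⟩⟩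
    exact h1 hy
  · rintro ⟨x, ha, k, hk, rfl⟩
    exact mul_mem ((le_sup_left : H ≤ _) ha) ((le_sup_right : L ≤ _) hk)

theorem mem_QS (P : Pre t q K A S a) {x : G} :
    x ∈ zpowers q ⊔ S ↔ ∃ u ∈ zpowers q, ∃ s ∈ S, x = u * s :=
  mem_sup_comm fun _ hu _ hs => P.QK (P.loc.SK hs) hu

theorem QS_comm (P : Pre t q K A S a) {x y : G} (hx : x ∈ zpowers q ⊔ S) (hy : y ∈ zpowers q) :
    x * y = y * x := by
  obtain ⟨u, hu, s, hs, rfl⟩ := P.mem_QS.1 hx
  calc u * s * y = u * (s * y) := by group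
    _ = (u * y) * s := by rw [P.QK (P.loc.SK hs) hy]; group
    _ = y * (u * s) := by rw [QQ hu hy]; group

theorem pQS (P : Pre t q K A S a) : IsPGroup 2 ↥(zpowers q ⊔ S) := by
  apply P.st.pQ.to_sup_of_normal_right' P.loc.pS
  intro x hx
  rw [mem_normalizer_iff]
  intro y
  constructor
  · intro hy
    have : x * y * x⁻¹ = y := by rw [← P.QK (P.loc.SK hy) hx]; group
    rw [this]; exact hy
  · intro hy
    have h2 := P.QK (P.loc.SK hy) hx
    have : y = x * y * x⁻¹ := by
      have h3 : x * y = x * (x * y * x⁻¹) := by rw [← h2]; group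
      exact mul_left_cancel h3
    rw [this]; exact hy

/-- `Q S` is a maximal 2-subgroup of `C(t)` -/
theorem maxQS [Finite G] (P : Pre t q K A S a) {R : Subgroup G} (hR : IsPGroup 2 R)
    (hRt : ∀ x ∈ R, x * t = t * x) (hle : zpowers q ⊔ S ≤ R) : R ≤ zpowers q ⊔ S := by
  intro x hx
  obtain ⟨u, hu, k, hk, rfl⟩ := P.dec (hRt x hx)
  have hSR : S ≤ R ⊓ K := le_inf (le_sup_right.trans hle) P.loc.SK
  have h2 : S = R ⊓ K := by
    apply Subgroup.eq_of_le_of_card_ge hSR
    obtain ⟨c, hc, hcS⟩ := P.loc.sylow (R ⊓ K) inf_le_right (hR.to_le inf_le_left)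
    have h3 : (R ⊓ K).map (MulAut.conj c).toMonoidHom ≤ S := by
      rintro _ ⟨y, hy, rfl⟩
      exact hcS y hy
    rw [Nat.card_congr ((R ⊓ K).equivMapOfInjective (MulAut.conj c).toMonoidHom
      (MulAut.conj c).injective).toEquiv]
    exact Nat.card_le_card_of_injective _ (inclusion_injective h3)
  have hkR : k ∈ R := by
    have h3 := R.mul_mem (R.inv_mem (hle ((le_sup_left : zpowers q ≤ _) hu))) hx
    have e : u⁻¹ * (u * k) = k := by group
    rwa [e] at h3
  have hkS : k ∈ S := by rw [h2]; exact ⟨hkR, hk⟩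
  exact P.mem_QS.2 ⟨u, hu, k, hkS, rfl⟩

/-- `t` moves in `N_G(Q S)` -/
theorem exists_mover [Finite G] (P : Pre t q K A S a) (hG : commutator G = ⊤) :
    ∃ y, y ∈ normalizer ((zpowers q ⊔ S : Subgroup G) : Set G) ∧ y * t * y⁻¹ ≠ t := by
  have : Fact (Nat.Prime 2) := ⟨Nat.prime_two⟩
  obtain ⟨R, hR⟩ := P.pQS.exists_le_sylow
  have hTt : ∀ x ∈ zpowers q ⊔ S, x * t = t * x := fun x hx => P.QS_comm hx P.st.tQ
  have hlt : zpowers q ⊔ S < (R : Subgroup G) := by
    refine lt_of_le_of_ne hR fun h => ?_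
    have h0 : (R : Subgroup G) ≤ centralizer ({t} : Set G) := by
      rw [← h]
      exact fun x hx => mem_centralizer_singleton_iff.2 (hTt x hx)
    exact R.not_dvd_index ((P.even_index hG).trans (index_dvd_of_le h0))
  have : Group.IsNilpotent (R : Subgroup G) := R.isPGroup'.isNilpotent
  obtain ⟨y, hyR, hyT, hyN⟩ :=
    Cfsg.Agent.Transfer.FrobeniusFusion.exists_mem_normalizer_notMem hlt
  refine ⟨y, hyN, fun h => hyT ?_⟩
  have h1 : IsPGroup 2 ↥((zpowers q ⊔ S) ⊔ zpowers y) :=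
    R.isPGroup'.to_le (sup_le hR (zpowers_le.2 hyR))
  have h2 : (zpowers q ⊔ S) ⊔ zpowers y ≤ centralizer ({t} : Set G) := by
    refine sup_le (fun x hx => mem_centralizer_singleton_iff.2 (hTt x hx)) (zpowers_le.2 ?_)
    exact mem_centralizer_singleton_iff.2 (mul_inv_eq_iff_eq_mul.1 h)
  exact P.maxQS h1 (fun x hx => mem_centralizer_singleton_iff.1 (h2 hx)) le_sup_left
    (mem_sup_right (mem_zpowers y))

theorem q_sq [Finite G] (P : Pre t q K A S a) (hG : commutator G = ⊤) : q * q = 1 := by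
  obtain ⟨y, hyN, hyt⟩ := P.exists_mover hG
  by_contra hne
  have hqq : q * q ∈ zpowers q := (zpowers q).mul_mem (mem_zpowers q) (mem_zpowers q)
  have h1 : t ∈ zpowers (q * q) := by
    have hle : zpowers (q * q) ≤ zpowers q := by rw [zpowers_le]; exact hqq
    obtain ⟨s, hs, hss, hs1⟩ := Front.FE.exists_involution hne (P.st.pQ.to_le hle)
    rw [← P.st.toStart0.uniq (hle hs) hss hs1]; exact hs
  have h2 : y * q * y⁻¹ ∈ zpowers q ⊔ S :=
    (mem_normalizer_iff.1 hyN q).1 (mem_sup_left (mem_zpowers q))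
  obtain ⟨u, hu, s, hs, he⟩ := P.mem_QS.1 h2
  have h3 : ∀ x ∈ A, s * x = x * s := by
    intro x hx
    have hxT : x ∈ zpowers q ⊔ S := mem_sup_right (P.loc.AS hx)
    have h4 : y⁻¹ * x * y ∈ zpowers q ⊔ S := by
      apply (mem_normalizer_iff.1 hyN _).2
      have : y * (y⁻¹ * x * y) * y⁻¹ = x := by group
      rw [this]; exact hxT
    have h5 := P.QS_comm h4 (mem_zpowers q)
    have h6 : x * (y * q * y⁻¹) = y * q * y⁻¹ * x := by
      calc x * (y * q * y⁻¹) = y * (y⁻¹ * x * y * q) * y⁻¹ := by group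
        _ = y * (q * (y⁻¹ * x * y)) * y⁻¹ := by rw [h5]
        _ = y * q * y⁻¹ * x := by group
    rw [he] at h6
    have h7 : x * u = u * x := P.QK (P.loc.AK hx) hu
    have h8 : u * (x * s) = u * (s * x) := by
      calc u * (x * s) = (u * x) * s := by group
        _ = (x * u) * s := by rw [h7]
        _ = x * (u * s) := by group
        _ = u * s * x := h6
        _ = u * (s * x) := by group
    exact (mul_left_cancel h8).symm
  have h4 : s ∈ A := P.loc.self s (P.loc.SK hs) h3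
  have h5 : s * s = 1 := P.loc.sq s h4
  have h6 : y * (q * q) * y⁻¹ = u * u := by
    calc y * (q * q) * y⁻¹ = (y * q * y⁻¹) * (y * q * y⁻¹) := by group
      _ = u * s * (u * s) := by rw [he]
      _ = u * (s * u) * s := by group
      _ = u * (u * s) * s := by rw [P.QK (P.loc.SK hs) hu]
      _ = u * u * (s * s) := by group
      _ = u * u := by rw [h5, mul_one]
  obtain ⟨i, hi⟩ := mem_zpowers_iff.1 h1
  have h7 : y * t * y⁻¹ = (u * u) ^ i := by
    rw [← h6, ← hi]
    have := map_zpow (MulAut.conj y) (q * q) i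
    simpa [MulAut.conj_apply] using this
  have h8 : y * t * y⁻¹ ∈ zpowers q := by
    rw [h7]; exact (zpowers q).zpow_mem ((zpowers q).mul_mem hu hu) i
  apply hyt
  apply P.st.toStart0.uniq h8
  · calc y * t * y⁻¹ * (y * t * y⁻¹) = y * (t * t) * y⁻¹ := by group
      _ = 1 := by rw [P.st.tt]; group
  · intro h
    rw [mul_inv_eq_one] at h
    exact P.st.t1 (mul_eq_left.1 h)

theorem q_eq [Finite G] (P : Pre t q K A S a) (hG : commutator G = ⊤) : q = t := by
  apply P.st.toStart0.uniq (mem_zpowers q) (P.q_sq hG)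
  rintro rfl
  have h := P.st.tQ
  rw [zpowers_one_eq_bot, mem_bot] at h
  exact P.st.t1 h

/-- **`C_G(t) = ⟨t⟩ × K`**, and `t` moves in `N_G(A*)` -/
theorem main [Finite G] (P : Pre t q K A S a) (hG : commutator G = ⊤) :
    Fr t K A S a ∧ ∃ y ∈ normalizer ((dbl t A : Subgroup G) : Set G), y * t * y⁻¹ ≠ t := by
  have hq := P.q_eq hG
  obtain ⟨y, hyN, hyt⟩ := P.exists_mover hG
  subst hq
  have F : Fr q K A S a :=
    { toLoc := P.loc
      tt := P.st.tt
      tK := P.tK
      com := P.com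
      cent := by
        intro g hg
        obtain ⟨y, hy, hk⟩ := P.cent g hg
        by_cases hy1 : y = 1
        · left; rwa [hy1, one_mul] at hk
        · right
          have hyy : y * y = 1 := by
            obtain ⟨i, rfl⟩ := mem_zpowers_iff.1 hy
            rw [← zpow_add, ← two_mul, zpow_mul]
            have : q ^ (2 : ℤ) = 1 := by
              rw [show (2 : ℤ) = 1 + 1 by norm_num, zpow_add, zpow_one, P.st.tt]
            rw [this, one_zpow]
          have := P.st.toStart0.uniq hy hyy hy1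
          rwa [this] at hk }
  refine ⟨F, y, ?_, hyt⟩
  apply F.norm_le
  have : dbl q S = zpowers q ⊔ S := sup_comm _ _
  rw [this]; exact hyN

end Pre

end Cfsg.Agent.OddHalf.D8.Fi23
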