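import Cfsg.Agent.OddHalf.D8.Fi23.Facts
import Cfsg.Agent.SignalizersComponents.PLayerAut

/-!
# ODD half, D8, row `K = Fi₂₃` (helper907): the facts are invariant under isomorphisms
-/

set_option autoImplicit false

namespace Cfsg.Agent.OddHalf.D8.Fi23

open scoped commutatorElement
open Subgroup

section

variable {K L : Type*} [Group K] [Group L] (g : L ≃* K)

theorem mem_comap_equiv {A : Subgroup K} {x : L} : x ∈ A.comap g.toMonoidHom ↔ g x ∈ A := Iff.rfl

theorem card_comap_equiv (A : Subgroup K) : Nat.card (A.comap g.toMonoidHom) = Nat.card A :=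
  Nat.card_congr (Equiv.subtypeEquiv g.toEquiv fun _ => Iff.rfl)

theorem mem_normalizer_comap {A : Subgroup K} {n : L} :
    n ∈ normalizer (A.comap g.toMonoidHom : Set L) ↔ g n ∈ normalizer (A : Set K) := by
  rw [mem_normalizer_iff, mem_normalizer_iff]
  constructor
  · intro h x
    have h1 := h (g.symm x)
    rw [mem_comap_equiv, mem_comap_equiv, map_mul, map_mul, map_inv, g.apply_symm_apply] at h1
    exact h1
  · intro h x
    rw [mem_comap_equiv, mem_comap_equiv, map_mul, map_mul, map_inv]
    exact h (g x)

theorem normalizer_comap_equiv (A : Subgroup K) :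
    normalizer (A.comap g.toMonoidHom : Set L) = (normalizer (A : Set K)).comap g.toMonoidHom := by
  ext n; exact mem_normalizer_comap g

theorem mem_centralizer_comap {b : K} {x : L} :
    x ∈ centralizer ({g.symm b} : Set L) ↔ g x ∈ centralizer ({b} : Set K) := by
  rw [mem_centralizer_singleton_iff, mem_centralizer_singleton_iff]
  constructor
  · intro h
    have h1 := congrArg g h
    rwa [map_mul, map_mul, g.apply_symm_apply] at h1
  · intro h
    apply g.injective
    rw [map_mul, map_mul, g.apply_symm_apply, h]

theorem centralizer_comap_equiv (b : K) :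
    centralizer ({g.symm b} : Set L) = (centralizer ({b} : Set K)).comap g.toMonoidHom := by
  ext x; exact mem_centralizer_comap g

theorem commutator_comap_equiv (A : Subgroup K) :
    ⁅A.comap g.toMonoidHom, A.comap g.toMonoidHom⁆ = ⁅A, A⁆.comap g.toMonoidHom := by
  have e : ∀ B : Subgroup K, B.comap g.toMonoidHom = B.map g.symm.toMonoidHom := fun B =>
    Subgroup.comap_equiv_eq_map_symm' g B
  rw [e, e, Subgroup.map_commutator]

end

/-- **Transport of the facts** -/
theorem Sheet.comap {K L : Type*} [Group K] [Group L] (g : L ≃* K) {A : Subgroup K} {S : Sylow 2 K}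
    {a : Fin 23 → K} (h : Sheet K A S a) : ∃ T : Sylow 2 L, Sheet L (A.comap g.toMonoidHom) T
      (fun i => g.symm (a i)) := by
  have hr : (S : Subgroup K) ≤ g.toMonoidHom.range := by
    intro x _
    exact ⟨g.symm x, g.apply_symm_apply x⟩
  refine ⟨S.comapOfInjective g.toMonoidHom g.injective hr, ?_⟩
  have hS : ((S.comapOfInjective g.toMonoidHom g.injective hr : Sylow 2 L) : Subgroup L) =
      (S : Subgroup K).comap g.toMonoidHom := rfl
  have hconj : ∀ {x : L} {b : K}, IsConj (g x) b → IsConj x (g.symm b) := by
    intro x b hx
    obtain ⟨c, hc⟩ := isConj_iff.1 hx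
    exact isConj_iff.2 ⟨g.symm c, by rw [← hc, map_mul, map_mul, map_inv, g.symm_apply_apply]⟩
  exact
    { sq := fun x hx => g.injective (by rw [map_mul, map_one]; exact h.sq _ hx)
      cardA := by rw [card_comap_equiv, h.cardA]
      self := fun x hx => by
        apply h.self
        intro y hy
        have h1 := congrArg g (hx (g.symm y) (by rw [mem_comap_equiv, g.apply_symm_apply]; exact hy))
        rwa [map_mul, map_mul, g.apply_symm_apply] at h1
      mem := fun i => by rw [mem_comap_equiv, g.apply_symm_apply]; exact h.mem i
      shape := fun x hx => by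
        rcases h.shape (g x) hx with h1 | ⟨i, h1⟩ | ⟨i, j, h1⟩ | ⟨i, j, k, h1⟩
        · exact Or.inl (g.injective (by rw [h1, map_one]))
        · exact Or.inr (Or.inl ⟨i, by rw [← h1, g.symm_apply_apply]⟩)
        · exact Or.inr (Or.inr (Or.inl ⟨i, j, by rw [← map_mul, ← h1, g.symm_apply_apply]⟩))
        · exact Or.inr (Or.inr (Or.inr ⟨i, j, k, by rw [← map_mul, ← map_mul, ← h1, g.symm_apply_apply]⟩))
      perm := fun n hn i => by
        obtain ⟨j, hj⟩ := h.perm _ ((mem_normalizer_comap g).1 hn) i
        refine ⟨j, ?_⟩
        show n * g.symm (a i) * n⁻¹ = g.symm (a j)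
        rw [← hj, map_mul, map_mul, map_inv, g.symm_apply_apply]
      three := fun i j k i' j' k' h1 h2 h3 h4 h5 h6 => by
        obtain ⟨n, hn, e1, e2, e3⟩ := h.three i j k i' j' k' h1 h2 h3 h4 h5 h6
        refine ⟨g.symm n, (mem_normalizer_comap g).2 (by rw [g.apply_symm_apply]; exact hn), ?_, ?_, ?_⟩
        · show g.symm n * g.symm (a i) * (g.symm n)⁻¹ = g.symm (a i')
          rw [← e1, map_mul, map_mul, map_inv]
        · show g.symm n * g.symm (a j) * (g.symm n)⁻¹ = g.symm (a j')
          rw [← e2, map_mul, map_mul, map_inv]
        · show g.symm n * g.symm (a k) * (g.symm n)⁻¹ = g.symm (a k')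
          rw [← e3, map_mul, map_mul, map_inv]
      fix := fun n hn h8 => by
        apply h.fix _ ((mem_normalizer_comap g).1 hn)
        refine h8.trans (Set.ncard_le_ncard ?_ (Set.toFinite _))
        intro i hi
        have h0 : n * g.symm (a i) = g.symm (a i) * n := hi
        have h1 := congrArg g h0
        rw [map_mul, map_mul, g.apply_symm_apply] at h1
        exact h1
      cardN := by rw [normalizer_comap_equiv, card_comap_equiv, h.cardN]
      AS := fun x hx => h.AS hx
      cardS := by rw [hS, card_comap_equiv, h.cardS]
      uniq := fun B hB hB2 hB3 => by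
        have h1 := h.uniq (B.comap g.symm.toMonoidHom) ?_ ?_ ?_
        · rw [← h1]
          ext x
          show x ∈ B ↔ g.symm (g x) ∈ B
          rw [g.symm_apply_apply]
        · intro x hx
          have h2 : g.symm x ∈ (S : Subgroup K).comap g.toMonoidHom := hB hx
          rw [mem_comap_equiv, g.apply_symm_apply] at h2
          exact h2
        · intro x hx
          apply g.symm.injective
          rw [map_mul, map_one]
          exact hB2 _ hx
        · rw [card_comap_equiv g.symm]; exact hB3
      inv := fun x h1 h2 => by
        have h3 : g x * g x = 1 := by rw [← map_mul, h1, map_one]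
        have h4 : g x ≠ 1 := fun h5 => h2 (g.injective (by rw [h5, map_one]))
        rcases h.inv _ h3 h4 with h5 | h5 | h5
        · exact Or.inl (hconj h5)
        · refine Or.inr (Or.inl ?_)
          show IsConj x (g.symm (a 0) * g.symm (a 1))
          rw [← map_mul]; exact hconj h5
        · refine Or.inr (Or.inr ?_)
          show IsConj x (g.symm (a 0) * g.symm (a 1) * g.symm (a 2))
          rw [← map_mul, ← map_mul]; exact hconj h5
      der2 := by
        show g.symm (a 0) * g.symm (a 1) ∈ ⁅centralizer ({g.symm (a 0) * g.symm (a 1)} : Set L),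
          centralizer ({g.symm (a 0) * g.symm (a 1)} : Set L)⁆
        rw [← map_mul, centralizer_comap_equiv, commutator_comap_equiv, mem_comap_equiv, g.apply_symm_apply]
        exact h.der2
      der3 := by
        show g.symm (a 0) * g.symm (a 1) * g.symm (a 2) ∈
          ⁅centralizer ({g.symm (a 0) * g.symm (a 1) * g.symm (a 2)} : Set L),
          centralizer ({g.symm (a 0) * g.symm (a 1) * g.symm (a 2)} : Set L)⁆
        rw [← map_mul, ← map_mul, centralizer_comap_equiv, commutator_comap_equiv, mem_comap_equiv,
          g.apply_symm_apply]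
        exact h.der3
      qs := by
        show Cfsg.IsQuasisimple ↥(centralizer ({g.symm (a 0)} : Set L))
        rw [centralizer_comap_equiv, Subgroup.comap_equiv_eq_map_symm']
        exact Cfsg.Agent.SignalizersComponents.PLayerAut.isQuasisimple_of_equiv (g.symm.subgroupMap _) h.qs
      cen := fun x hx => by
        rcases h.cen (g x) (fun y hy => by
          have h1 := hx (g.symm y) (by rw [← map_mul, hy, map_mul])
          have h2 := congrArg g h1
          rwa [map_mul, map_mul, g.apply_symm_apply] at h2) with h1 | h1
        · exact Or.inl (g.injective (by rw [h1, map_one]))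
        · exact Or.inr (by rw [← h1, g.symm_apply_apply])
      thirteen := by
        show 13 ∣ Nat.card ↥(centralizer ({g.symm (a 0)} : Set L))
        rw [centralizer_comap_equiv, card_comap_equiv]; exact h.thirteen
      gen := by
        show centralizer ({g.symm (a 0)} : Set L) ⊔ centralizer ({g.symm (a 1)} : Set L) = ⊤
        rw [centralizer_comap_equiv, centralizer_comap_equiv, Subgroup.comap_equiv_eq_map_symm',
          Subgroup.comap_equiv_eq_map_symm', ← Subgroup.map_sup, h.gen]
        exact Subgroup.map_top_of_surjective _ g.symm.surjective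
      c2 := by
        show ¬ 13 ∣ Nat.card ↥(centralizer ({g.symm (a 0) * g.symm (a 1)} : Set L))
        rw [← map_mul, centralizer_comap_equiv, card_comap_equiv]; exact h.c2
      c3 := by
        show ¬ 13 ∣ Nat.card ↥(centralizer ({g.symm (a 0) * g.symm (a 1) * g.symm (a 2)} : Set L))
        rw [← map_mul, ← map_mul, centralizer_comap_equiv, card_comap_equiv]; exact h.c3 }

end Cfsg.Agent.OddHalf.D8.Fi23
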