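import Cfsg.Agent.OddHalf.D8.Fi23.Pump
import Cfsg.Agent.OddHalf.D8.Fi23.SheetMap
import Cfsg.Agent.OddHalf.D8.Fi23.Main
import Cfsg.Agent.OddHalf.D8.Rows

/-!
# ODD half, D8: the row of `Fi₂₃` from the facts on `Spor.Fi23` (helper907)

`row_of`: from the multiplier facts `Mult`, the orders `SporOrd` of the sporadic groups with even multiplier and
`KData Spor.Fi23`.
-/

set_option autoImplicit false

namespace Cfsg.Agent.OddHalf.D8.Fi23

open scoped commutatorElement
open Subgroup Cfsg Cfsg.Agent.OddHalf.Iface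

universe u

/-- all facts on `K = Fi₂₃` -/
structure KData (K : Type*) [Group K] : Prop where
  card : Nat.card K = 4089470473293004800
  inn : ∀ φ : MulAut K, ∃ k : K, φ = MulAut.conj k
  sheet : ∃ (A : Subgroup K) (S : Sylow 2 K) (a : Fin 23 → K), Sheet K A S a ∧
    Nat.card (centralizer ({a 0} : Set K)) = 129123503308800

theorem KData.of_equiv {K L : Type*} [Group K] [Group L] (g : L ≃* K) (h : KData K) : KData L where
  card := by rw [Nat.card_congr g.toEquiv, h.card]
  inn := fun φ => by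
    obtain ⟨k, hk⟩ := h.inn ((g.symm.trans φ).trans g)
    refine ⟨g.symm k, ?_⟩
    ext x
    have h1 : g (φ (g.symm (g x))) = k * g x * k⁻¹ := congrArg (fun ψ : MulAut K => ψ (g x)) hk
    rw [g.symm_apply_apply] at h1
    apply g.injective
    rw [h1]
    show _ = g (g.symm k * x * (g.symm k)⁻¹)
    rw [map_mul, map_mul, map_inv, g.apply_symm_apply]
  sheet := by
    obtain ⟨A, S, a, h1, h2⟩ := h.sheet
    obtain ⟨T, h3⟩ := h1.comap g
    refine ⟨_, T, _, h3, ?_⟩
    show Nat.card ↥(centralizer ({g.symm (a 0)} : Set L)) = _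
    rw [centralizer_comap_equiv, card_comap_equiv, h2]

/-- the kill with all the facts -/
theorem kill_of (M : D9.Cut.Mult.{u}) (O : SporOrd.{u}) {G : Type u} [Group G] (C : Ctx G) {K : Subgroup G}
    (St : Std G K) (hcyc : Cyc K) (h : KData K) : False := by
  have := C.fin
  obtain ⟨A, S, a, sh, hc⟩ := h.sheet
  have L : Loc K (A.map K.subtype) ((S : Subgroup K).map K.subtype) (fun i => (a i : G)) := Loc.of_sheet sh
  have hJ : K ⊓ centralizer ({((a 0 : K) : G)} : Set G) = (centralizer ({a 0} : Set K)).map K.subtype := by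
    ext x
    rw [mem_inf, mem_centralizer_singleton_iff, mem_map]
    constructor
    · rintro ⟨hx, h1⟩
      exact ⟨⟨x, hx⟩, mem_centralizer_singleton_iff.2 (Subtype.ext h1), rfl⟩
    · rintro ⟨y, hy, rfl⟩
      exact ⟨y.2, congrArg Subtype.val (mem_centralizer_singleton_iff.1 hy)⟩
  have hcard : Nat.card ↥(K ⊓ centralizer ({((a 0 : K) : G)} : Set G)) = 129123503308800 := by
    rw [hJ, ← hc]
    exact (Nat.card_congr ((centralizer ({a 0} : Set K)).equivMapOfInjective _ K.subtype_injective).toEquiv).symm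
  have ho : orderOf ((a 0 : K) : G) = 2 :=
    orderOf_eq_prime (by rw [pow_two]; exact L.sq _ (L.mem 0)) (L.a_ne_one 0)
  refine kill C St hcyc sh h.inn fun D hD hlt => ?_
  refine pump M O C St h.card (J := K ⊓ centralizer ({((a 0 : K) : G)} : Set G)) ho hD hlt
    ⟨(a 0).2, mem_centralizer_singleton_iff.2 rfl⟩ ?_ ?_ hcard
  · have := (L.qs 0).1
    exact Subgroup.commutator_eq_self
  · intro x hx hy
    refine L.cen 0 x hx.1 fun y hyK hya => hy y ⟨hyK, mem_centralizer_singleton_iff.2 hya⟩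

/-- **the row `K = Fi₂₃`** from the facts on `Spor.Fi23` -/
theorem row_of (M : D9.Cut.Mult.{u}) (O : SporOrd.{u}) (h : KData Spor.Fi23) :
    Rows.Row.{u} (fun K _ => Spor.IsoFi23 K) := by
  intro G _ C K St hcyc hK
  obtain ⟨e⟩ := hK
  exact kill_of M O C St hcyc (h.of_equiv e)

end Cfsg.Agent.OddHalf.D8.Fi23
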