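import Cfsg.Agent.OddHalf.D8.Fi23.SwapBase
import Cfsg.Agent.OddHalf.D9.Outer

/-!
# The sign of the permutation of the components of order divisible by 13 (helper907)
-/

set_option autoImplicit false

namespace Cfsg.Agent.OddHalf.D8.Fi23

open Subgroup Cfsg Cfsg.Agent.OddHalf.Iface
open Cfsg.Agent.OddHalf

universe u

variable {G : Type u} [Group G]

/-- a component of `C(w)` of order divisible by 13 -/
def Big (w : G) (N : Subgroup G) : Prop := CompOf w N ∧ 13 ∣ Nat.card N

theorem Big.cj {w : G} {N : Subgroup G} (h : Big w N) (g : G) : Big (g * w * g⁻¹) (cj g N) :=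
  ⟨compOf_cj h.1 g, by rw [card_cj]; exact h.2⟩

theorem Big.cj' {w g : G} (hg : g * w = w * g) {N : Subgroup G} (h : Big w N) : Big w (Fi23.cj g N) :=
  ⟨compOf_cj' hg h.1, by rw [card_cj]; exact h.2⟩

/-- the set of these components -/
def Om (w : G) : Type u := {N : Subgroup G // Big w N}

instance (w : G) [Finite G] : Finite (Om w) := by
  unfold Om; infer_instance

instance (w : G) : MulAction (centralizer ({w} : Set G)) (Om w) where
  smul g N := ⟨cj (g : G) N.1, Big.cj' (mem_centralizer_singleton_iff.1 g.2) N.2⟩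
  one_smul N := Subtype.ext (cj_one N.1)
  mul_smul g h N := Subtype.ext (cj_mul (g : G) (h : G) N.1).symm

theorem Om.smul_val {w : G} (g : centralizer ({w} : Set G)) (N : Om w) : (g • N).1 = cj (g : G) N.1 := rfl

open Classical in
/-- the sign character -/
noncomputable def sgn [Finite G] (w : G) : centralizer ({w} : Set G) →* ℤˣ :=
  letI : Fintype (Om w) := Fintype.ofFinite _
  (Equiv.Perm.sign).comp (MulAction.toPermHom (centralizer ({w} : Set G)) (Om w))

open Classical in
theorem sgn_eq_one [Finite G] {w : G} (g : centralizer ({w} : Set G))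
    (h : ∀ N, Big w N → cj (g : G) N = N) : sgn w g = 1 := by
  let _ : Fintype (Om w) := Fintype.ofFinite _
  show Equiv.Perm.sign (MulAction.toPermHom (centralizer ({w} : Set G)) (Om w) g) = 1
  have h1 : MulAction.toPermHom (centralizer ({w} : Set G)) (Om w) g = 1 := by
    apply Equiv.ext
    intro N
    exact (show g • N = N from Subtype.ext (h N.1 N.2))
  rw [h1, Equiv.Perm.sign_one]

open Classical in
theorem sgn_eq_neg [Finite G] {w : G} (g : centralizer ({w} : Set G)) {M M' : Subgroup G}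
    (hM : Big w M) (hM' : Big w M') (hne : M ≠ M') (h1 : cj (g : G) M = M') (h2 : cj (g : G) M' = M)
    (h : ∀ N, Big w N → N ≠ M → N ≠ M' → cj (g : G) N = N) : sgn w g = -1 := by
  let _ : Fintype (Om w) := Fintype.ofFinite _
  show Equiv.Perm.sign (MulAction.toPermHom (centralizer ({w} : Set G)) (Om w) g) = -1
  let m : Om w := ⟨M, hM⟩
  let m' : Om w := ⟨M', hM'⟩
  have hmm : m ≠ m' := fun e => hne (congrArg Subtype.val e)
  have h3 : MulAction.toPermHom (centralizer ({w} : Set G)) (Om w) g = Equiv.swap m m' := by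
    apply Equiv.ext
    intro N
    show g • N = Equiv.swap m m' N
    by_cases e1 : N = m
    · subst e1
      rw [Equiv.swap_apply_left]
      exact Subtype.ext h1
    by_cases e2 : N = m'
    · subst e2
      rw [Equiv.swap_apply_right]
      exact Subtype.ext h2
    rw [Equiv.swap_apply_of_ne_of_ne e1 e2]
    exact Subtype.ext (h N.1 N.2 (fun e => e1 (Subtype.ext e)) (fun e => e2 (Subtype.ext e)))
  rw [h3, Equiv.Perm.sign_swap hmm]

/-- the transported sign, no swapped component -/
theorem Lam_eq_one [Finite G] {z w x : G} (hw : IsConj z w) (hx : x * w = w * x)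
    (h : ∀ N, Big w N → cj x N = N) : D9.Outer.Lam (sgn z) w x = 1 := by
  obtain ⟨g, hg⟩ := isConj_iff.1 hw
  have h1 := D9.Outer.conj_mem hg hx
  rw [D9.Outer.Lam_eq (sgn z) hg h1]
  apply sgn_eq_one
  intro N hN
  show cj (g⁻¹ * x * g) N = N
  have h2 : Big w (cj g N) := by
    have := hN.cj g
    rwa [hg] at this
  have h3 := h _ h2
  rw [cj_mul] at h3
  rw [mul_assoc, ← cj_mul, h3, cj_inv_cj]

/-- the transported sign, one swapped pair -/
theorem Lam_eq_neg [Finite G] {z w x : G} (hw : IsConj z w) (hx : x * w = w * x) {M : Subgroup G}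
    (hM : Big w M) (hxx : x * x = 1) (hne : cj x M ≠ M)
    (h : ∀ N, Big w N → N ≠ M → N ≠ cj x M → cj x N = N) : D9.Outer.Lam (sgn z) w x = -1 := by
  obtain ⟨g, hg⟩ := isConj_iff.1 hw
  have h1 := D9.Outer.conj_mem hg hx
  have hg' : g⁻¹ * w * g⁻¹⁻¹ = z := by rw [← hg]; group
  rw [D9.Outer.Lam_eq (sgn z) hg h1]
  have hback : ∀ N, Big w N → Big z (cj g⁻¹ N) := by
    intro N hN
    have := hN.cj g⁻¹
    rwa [hg'] at this
  have key : ∀ N : Subgroup G, cj (g⁻¹ * x * g) (cj g⁻¹ N) = cj g⁻¹ (cj x N) := by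
    intro N
    rw [cj_mul, cj_mul]
    congr 1
    group
  refine sgn_eq_neg (M := cj g⁻¹ M) (M' := cj g⁻¹ (cj x M)) _ (hback _ hM) (hback _ (hM.cj' hx))
    (fun e => hne (cj_inj e).symm) (key M) ?_ ?_
  · show cj (g⁻¹ * x * g) (cj g⁻¹ (cj x M)) = cj g⁻¹ M
    rw [key, cj_mul x x, hxx, cj_one]
  · intro N hN e1 e2
    have h2 : Big w (cj g N) := by
      have := hN.cj g
      rwa [hg] at this
    have h3 := h _ h2 (by rintro rfl; exact e1 (cj_inv_cj g N).symm)
      (by intro e; rw [← e, cj_inv_cj] at e2; exact e2 rfl)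
    show cj (g⁻¹ * x * g) N = N
    rw [mul_assoc, ← cj_mul, ← cj_mul, h3, cj_inv_cj]

end Cfsg.Agent.OddHalf.D8.Fi23
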