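import Cfsg.Agent.OddHalf.D8.Fi23.Sgn
import Cfsg.Agent.OddHalf.D8.Fi23.Fr

/-!
# `K = Fi₂₃`: no diagonal components (helper907)

`Diag t K (a 0)`: `C(a 0)` has a component `M ≠ M^t` with `C_K(a 0) = {m m^t : m ∈ M}`. Then the transfer to `G` of the
sign of the permutation of the components of `C(a 0)` of order divisible by 13 is `-1` at `t`.
-/

set_option autoImplicit false

namespace Cfsg.Agent.OddHalf.D8.Fi23

open Subgroup Cfsg Cfsg.Agent.OddHalf.Iface
open Cfsg.Agent.OddHalf
open scoped commutatorElement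

universe u

/-- the diagonal case at `b` -/
def Diag {G : Type u} [Group G] (t : G) (K : Subgroup G) (b : G) : Prop :=
  ∃ M : Subgroup G, CompOf b M ∧ cj t M ≠ M ∧
    ∀ x, x ∈ K ⊓ centralizer ({b} : Set G) ↔ ∃ m ∈ M, m * (t * m * t⁻¹) = x

namespace Fr

variable {G : Type u} [Group G] {t : G} {K A S : Subgroup G} {a : Fin 23 → G}

/-- a perfect subgroup of `C(t)` lies in `K` -/
theorem perf_le_K (F : Fr t K A S a) {P : Subgroup G} (hP : ⁅P, P⁆ = P)
    (hPt : ∀ x ∈ P, x * t = t * x) : P ≤ K := by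
  have h1 : P ≤ centralizer ({t} : Set G) := fun x hx => mem_centralizer_singleton_iff.2 (hPt x hx)
  calc P = ⁅P, P⁆ := hP.symm
    _ ≤ ⁅centralizer ({t} : Set G), centralizer ({t} : Set G)⁆ := commutator_mono h1 h1
    _ ≤ K := F.der_le

/-- a moved component gives `Dg` -/
theorem dg [Finite G] (F : Fr t K A S a) {w : G} (hw : w * t = t * w) {N : Subgroup G}
    (hN : CompOf w N) (hne : cj t N ≠ N) : Dg t N :=
  ⟨F.tt, Soft.CompOf.quasisimple hN, fun x hx y hy =>
    compOf_comm hN (compOf_cj' hw.symm hN) hne.symm x hx _ (conj_mem_cj hy)⟩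

theorem dg_le_K [Finite G] (F : Fr t K A S a) {N : Subgroup G} (D : Dg t N) : D.P ≤ K :=
  F.perf_le_K D.P_perf fun _ hx => D.P_comm hx

theorem dg_le_cent [Finite G] {w : G} (hw : w * t = t * w) {N : Subgroup G}
    (hN : CompOf w N) (D : Dg t N) {x : G} (hx : x ∈ D.P) : x * w = w * x := by
  obtain ⟨n, hn, rfl⟩ := D.mem_P.1 hx
  have h1 : n ∈ centralizer ({w} : Set G) := hN.1 hn
  have h2 : t ∈ centralizer ({w} : Set G) := mem_centralizer_singleton_iff.2 hw.symm
  exact mem_centralizer_singleton_iff.1 (mul_mem h1 (mul_mem (mul_mem h2 h1) (inv_mem h2)))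

/-- no big component of `C(w)` is moved if `13` does not divide `|C_K(w')|` -/
theorem noswap [Finite G] (F : Fr t K A S a)
    (bal : ∀ y : G, orderOf y = 2 → centralizerPPrimeCore 2 y = ⊥) {w w' : G} (hw2 : orderOf w = 2)
    (hw' : w' ∈ K) (hww : w = w' ∨ w = t * w')
    (h13 : ¬ 13 ∣ Nat.card ↥(K ⊓ centralizer ({w'} : Set G))) :
    ∀ N, Big w N → cj t N = N := by
  intro N hN
  by_contra hne
  have hwt : w * t = t * w := by
    rcases hww with rfl | rfl
    · exact F.com _ hw'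
    · rw [mul_assoc, F.com _ hw']
  have D := F.dg hwt hN.1 hne
  apply h13
  have h1 := D.dvd_P (Soft.CompOf.center_isPGroup (bal w hw2) hN.1) (by norm_num : Nat.Prime 13)
    (by norm_num) hN.2
  refine h1.trans (Subgroup.card_dvd_of_le (le_inf (F.dg_le_K D) fun x hx => ?_))
  have h2 := dg_le_cent hwt hN.1 D hx
  rw [mem_centralizer_singleton_iff]
  rcases hww with rfl | rfl
  · exact h2
  · have h3 := D.P_comm hx
    have h4 : t * (x * w') = t * (w' * x) := by
      calc t * (x * w') = (t * x) * w' := by group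
        _ = (x * t) * w' := by rw [h3]
        _ = x * (t * w') := by group
        _ = t * w' * x := h2
        _ = t * (w' * x) := by group
    exact mul_left_cancel h4

/-- no component of `C(t a_i)` is moved -/
theorem noswap_ta [Finite G] (F : Fr t K A S a) (i : Fin 23) {N : Subgroup G}
    (hN : CompOf (t * a i) N) : cj t N = N := by
  by_contra hne
  have hai := F.com _ (F.aK i)
  have hwt : t * a i * t = t * (t * a i) := by rw [mul_assoc, hai]
  have D := F.dg hwt hN hne
  set J : Subgroup G := K ⊓ centralizer ({a i} : Set G) with hJ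
  have hJw : ∀ j ∈ J, j * (t * a i) = t * a i * j := by
    intro j hj
    have h1 := mem_centralizer_singleton_iff.1 hj.2
    calc j * (t * a i) = (j * t) * a i := by group
      _ = t * (j * a i) := by rw [F.com j hj.1]; group
      _ = t * a i * j := by rw [h1]; group
  have hPJ : D.P ≤ J := by
    refine le_inf (F.dg_le_K D) fun x hx => ?_
    rw [mem_centralizer_singleton_iff]
    have h2 := dg_le_cent hwt hN D hx
    have h3 := D.P_comm hx
    have h4 : t * (x * a i) = t * (a i * x) := by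
      calc t * (x * a i) = (t * x) * a i := by group
        _ = (x * t) * a i := by rw [h3]
        _ = x * (t * a i) := by group
        _ = t * a i * x := h2
        _ = t * (a i * x) := by group
    exact mul_left_cancel h4
  have hPne : ¬ ∀ r ∈ D.P, ∀ j ∈ J, j * r = r * j := fun h =>
    D.P_ne_bot (perf_comm D.P_perf fun x hx y hy => (h x hx y (hPJ hy)).symm)
  -- the subgroup of `J` normalizing all the components
  let R : Subgroup G :=
    { carrier := {x | x ∈ J ∧ ∀ L, CompOf (t * a i) L → cj x L = L}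
      one_mem' := ⟨J.one_mem, fun L _ => cj_one L⟩
      mul_mem' := by
        rintro x y ⟨hx, hx'⟩ ⟨hy, hy'⟩
        refine ⟨J.mul_mem hx hy, fun L hL => ?_⟩
        rw [← cj_mul, hy' L hL, hx' L hL]
      inv_mem' := by
        rintro x ⟨hx, hx'⟩
        refine ⟨J.inv_mem hx, fun L hL => ?_⟩
        conv_lhs => rw [← hx' L hL]
        exact cj_inv_cj x L }
  have hRJ : R ≤ J := fun x hx => hx.1
  have hRn : ∀ j ∈ J, ∀ r ∈ R, j * r * j⁻¹ ∈ R := by
    rintro j hj r ⟨hr, hr'⟩
    refine ⟨J.mul_mem (J.mul_mem hj hr) (J.inv_mem hj), fun L hL => ?_⟩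
    have h1 : CompOf (t * a i) (cj j⁻¹ L) := compOf_cj' (hJw _ (J.inv_mem hj)) hL
    rw [← cj_mul, ← cj_mul, hr' _ h1, cj_cj_inv]
  have hN' : CompOf (t * a i) (cj t N) := compOf_cj' hwt.symm hN
  have hPR : D.P ≤ R := by
    intro x hx
    refine ⟨hPJ hx, fun L hL => ?_⟩
    obtain ⟨n, hn, rfl⟩ := D.mem_P.1 hx
    rw [← cj_mul, compOf_cj_eq hN' hL (conj_mem_cj hn), compOf_cj_eq hN hL hn]
  have hRJ' : R = J := by
    rcases qs_dich (F.qs i) hRJ hRn with h | h
    · exact h
    · exact absurd (fun r hr j hj => h r (hPR hr) j hj) hPne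
  -- `P` is normal in `J`
  have hPn : ∀ j ∈ J, ∀ r ∈ D.P, j * r * j⁻¹ ∈ D.P := by
    intro j hj r hr
    obtain ⟨n, hn, rfl⟩ := D.mem_P.1 hr
    have hjR : j ∈ R := by rw [hRJ']; exact hj
    have h1 : j * n * j⁻¹ ∈ N := by
      have := conj_mem_cj (g := j) hn
      rwa [hjR.2 N hN] at this
    have hjt := F.com j hj.1
    have hjt' := F.com _ (K.inv_mem hj.1)
    have hjt2 : j * t⁻¹ = t⁻¹ * j := by rw [F.t_inv]; exact hjt
    refine D.mem_P.2 ⟨_, h1, ?_⟩
    calc j * n * j⁻¹ * (t * (j * n * j⁻¹) * t⁻¹) = j * n * j⁻¹ * ((t * j) * n * (j⁻¹ * t⁻¹)) := by group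
      _ = j * n * j⁻¹ * ((t * j) * n * (t⁻¹ * j⁻¹)) := by
          have : j⁻¹ * t⁻¹ = t⁻¹ * j⁻¹ := by rw [F.t_inv]; exact hjt'
          rw [this]
      _ = j * n * j⁻¹ * ((j * t) * n * (t⁻¹ * j⁻¹)) := by rw [hjt]
      _ = j * (n * (t * n * t⁻¹)) * j⁻¹ := by group
  have hPJ' : D.P = J := (qs_dich (F.qs i) hPJ hPn).resolve_right hPne
  have haJ : a i ∈ J := ⟨F.aK i, mem_centralizer_singleton_iff.2 rfl⟩
  rw [← hPJ'] at haJ
  obtain ⟨η, hη, hηa⟩ := D.mem_P.1 haJ
  have hc : ∀ m ∈ N, η * m = m * η := by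
    apply D.cen_P hη
    intro x hx
    rw [hηa]
    exact (mem_centralizer_singleton_iff.1 (hPJ hx).2).symm
  -- `η` commutes with `J`
  have hηJ : ∀ x ∈ J, η * x = x * η := by
    intro x hx
    rw [← hPJ'] at hx
    obtain ⟨n, hn, rfl⟩ := D.mem_P.1 hx
    have h1 := D.comm η hη n hn
    calc η * (n * (t * n * t⁻¹)) = (η * n) * (t * n * t⁻¹) := by group
      _ = n * (η * (t * n * t⁻¹)) := by rw [hc n hn]; group
      _ = n * (t * n * t⁻¹) * η := by rw [h1]; group
  have hηa' : η * a i = a i * η := hηJ _ (by rw [← hPJ']; exact haJ)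
  have hηt : η * t = t * η := by
    have h1 : η * (t * a i) = t * a i * η := mem_centralizer_singleton_iff.1 (hN.1 hη)
    have h2 : (η * t) * a i = (t * η) * a i := by
      calc (η * t) * a i = η * (t * a i) := by group
        _ = t * (a i * η) := by rw [h1]; group
        _ = (t * η) * a i := by rw [← hηa']; group
    exact mul_right_cancel h2
  have hsq : η * η = a i := by
    rw [← hηa, ← hηt, mul_inv_cancel_right]
  have key : ∀ x ∈ K, x * x = a i → (∀ y ∈ J, x * y = y * x) → False := by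
    intro x hx hxx hxJ
    apply F.a_ne_one i
    rcases F.cen i x hx (fun y hy hya => hxJ y ⟨hy, mem_centralizer_singleton_iff.2 hya⟩) with h | h
    · rw [← hxx, h, one_mul]
    · rw [h, F.sq _ (F.mem i)] at hxx
      exact hxx.symm
  rcases F.cent η hηt with h | h
  · exact key η h hsq hηJ
  · refine key (t * η) h ?_ ?_
    · calc t * η * (t * η) = t * (η * t) * η := by group
        _ = (t * t) * (η * η) := by rw [hηt]; group
        _ = a i := by rw [F.tt, one_mul, hsq]
    · intro y hy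
      calc t * η * y = t * (η * y) := by group
        _ = (t * y) * η := by rw [hηJ y hy]; group
        _ = y * (t * η) := by rw [← F.com y hy.1]; group

/-- exactly one pair of big components of `C(a_i)` is swapped -/
theorem oneswap [Finite G] (F : Fr t K A S a) {b : G} (hb : b ∈ K) {M : Subgroup G} (hM : CompOf b M)
    (hJ : ∀ x, x ∈ K ⊓ centralizer ({b} : Set G) ↔ ∃ m ∈ M, m * (t * m * t⁻¹) = x) {N : Subgroup G}
    (hN : CompOf b N) (h1 : N ≠ M) (h2 : N ≠ cj t M) : cj t N = N := by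
  by_contra hne
  have hbt := F.com b hb
  have D := F.dg hbt hN hne
  have hPJ : D.P ≤ K ⊓ centralizer ({b} : Set G) :=
    le_inf (F.dg_le_K D) fun x hx => mem_centralizer_singleton_iff.2 (dg_le_cent hbt hN D hx)
  have hN' : CompOf b (cj t N) := compOf_cj' hbt.symm hN
  have hM' : CompOf b (cj t M) := compOf_cj' hbt.symm hM
  have h3 : cj t N ≠ M := by
    intro e
    apply h2
    rw [← e, cj_mul, F.tt, cj_one]
  have h4 : cj t N ≠ cj t M := fun e => h1 (cj_inj e)
  apply D.P_ne_bot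
  apply perf_comm D.P_perf
  intro x hx y hy
  obtain ⟨n, hn, rfl⟩ := D.mem_P.1 hx
  obtain ⟨m, hm, rfl⟩ := (hJ y).1 (hPJ hy)
  have c1 := compOf_comm hN hM h1 n hn m hm
  have c2 := compOf_comm hN hM' h2 n hn _ (conj_mem_cj (g := t) hm)
  have c3 := compOf_comm hN' hM h3 _ (conj_mem_cj (g := t) hn) m hm
  have c4 := compOf_comm hN' hM' h4 _ (conj_mem_cj (g := t) hn) _ (conj_mem_cj (g := t) hm)
  have d1 : Commute n (m * (t * m * t⁻¹)) := (show Commute n m from c1).mul_right c2
  have d2 : Commute (t * n * t⁻¹) (m * (t * m * t⁻¹)) := (show Commute (t * n * t⁻¹) m from c3).mul_right c4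
  exact (d1.mul_left d2).eq

/-- the diagonal component is big -/
theorem big_of_diag [Finite G] (F : Fr t K A S a) {i : Fin 23} {M : Subgroup G} (hM : CompOf (a i) M)
    (hne : cj t M ≠ M)
    (hJ : ∀ x, x ∈ K ⊓ centralizer ({a i} : Set G) ↔ ∃ m ∈ M, m * (t * m * t⁻¹) = x) : Big (a i) M := by
  refine ⟨hM, ?_⟩
  have D := F.dg (F.com _ (F.aK i)) hM hne
  have h1 : D.P = K ⊓ centralizer ({a i} : Set G) := by
    ext x
    rw [D.mem_P, hJ]
  have h2 := D.hom.ker.card_mul_index
  rw [Subgroup.index_ker] at h2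
  have h3 : 13 ∣ Nat.card D.hom.range := by
    show 13 ∣ Nat.card D.P
    rw [h1]; exact F.thirteen i
  rw [← h2]
  exact h3.mul_left _

/-- conjugation of the diagonal case -/
theorem diag_conj [Finite G] (F : Fr t K A S a) {b n : G} (hn : n ∈ K) (h : Diag t K b) :
    Diag t K (n * b * n⁻¹) := by
  obtain ⟨M, hM, hne, hJ⟩ := h
  have hnt := F.com n hn
  have hnt' := F.com _ (K.inv_mem hn)
  refine ⟨cj n M, compOf_cj hM n, ?_, ?_⟩
  · intro e
    apply hne
    rw [cj_mul, ← hnt, ← cj_mul] at e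
    exact cj_inj e
  · have e1 : ∀ m : G, n * m * n⁻¹ * (t * (n * m * n⁻¹) * t⁻¹) = n * (m * (t * m * t⁻¹)) * n⁻¹ := by
      intro m
      have h1 : n⁻¹ * t⁻¹ = t⁻¹ * n⁻¹ := by rw [F.t_inv]; exact hnt'
      calc n * m * n⁻¹ * (t * (n * m * n⁻¹) * t⁻¹) = n * m * n⁻¹ * ((t * n) * m * (n⁻¹ * t⁻¹)) := by group
        _ = n * m * n⁻¹ * ((n * t) * m * (t⁻¹ * n⁻¹)) := by rw [h1, ← hnt]
        _ = n * (m * (t * m * t⁻¹)) * n⁻¹ := by group
    intro x
    have h2 : x ∈ K ⊓ centralizer ({n * b * n⁻¹} : Set G) ↔ n⁻¹ * x * n ∈ K ⊓ centralizer ({b} : Set G) := by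
      rw [mem_inf, mem_inf, mem_centralizer_singleton_iff, mem_centralizer_singleton_iff]
      constructor
      · rintro ⟨h3, h4⟩
        refine ⟨K.mul_mem (K.mul_mem (K.inv_mem hn) h3) hn, ?_⟩
        calc n⁻¹ * x * n * b = n⁻¹ * (x * (n * b * n⁻¹)) * n := by group
          _ = n⁻¹ * (n * b * n⁻¹ * x) * n := by rw [h4]
          _ = b * (n⁻¹ * x * n) := by group
      · rintro ⟨h3, h4⟩
        refine ⟨?_, ?_⟩
        · have := K.mul_mem (K.mul_mem hn h3) (K.inv_mem hn)
          have e : n * (n⁻¹ * x * n) * n⁻¹ = x := by group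
          rwa [e] at this
        · calc x * (n * b * n⁻¹) = n * (n⁻¹ * x * n * b) * n⁻¹ := by group
            _ = n * (b * (n⁻¹ * x * n)) * n⁻¹ := by rw [h4]
            _ = n * b * n⁻¹ * x := by group
    rw [h2, hJ]
    constructor
    · rintro ⟨m, hm, e⟩
      refine ⟨n * m * n⁻¹, conj_mem_cj hm, ?_⟩
      rw [e1, e]; group
    · rintro ⟨m, hm, e⟩
      refine ⟨n⁻¹ * m * n, mem_cj.1 hm, ?_⟩
      have h3 := e1 (n⁻¹ * m * n)
      have h4 : n * (n⁻¹ * m * n) * n⁻¹ = m := by group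
      rw [h4, e] at h3
      rw [h3]; group

end Fr

end Cfsg.Agent.OddHalf.D8.Fi23
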