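import Cfsg.Agent.OddHalf.Soft
import Cfsg.Agent.SignalizersComponents.DistinctComponents

/-!
# Components of `C(w)` swapped by an involution (helper907)

* `cj g N = g N g⁻¹`;
* `Dg t N`: `N` quasisimple, commuting with `N^t`; `P = {n n^t : n ∈ N}` is perfect, non-trivial, centralizes `t`;
* `sgn w : C(w) → ±1`: the sign of the permutation of the components of `C(w)` of order divisible by 13.
-/

set_option autoImplicit false

namespace Cfsg.Agent.OddHalf.D8.Fi23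

open Subgroup Cfsg Cfsg.Agent.OddHalf.Iface
open Cfsg.Agent.SignalizersComponents
open scoped commutatorElement

universe u

section Cj

variable {G : Type*} [Group G]

/-- `g N g⁻¹` -/
def cj (g : G) (N : Subgroup G) : Subgroup G := N.map (MulAut.conj g).toMonoidHom

theorem conj_mem_cj {g x : G} {N : Subgroup G} (hx : x ∈ N) : g * x * g⁻¹ ∈ cj g N := ⟨x, hx, rfl⟩

theorem mem_cj {g x : G} {N : Subgroup G} : x ∈ cj g N ↔ g⁻¹ * x * g ∈ N := by
  constructor
  · rintro ⟨y, hy, rfl⟩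
    have : g⁻¹ * (MulAut.conj g).toMonoidHom y * g = y := by
      show g⁻¹ * (g * y * g⁻¹) * g = y
      group
    rw [this]; exact hy
  · intro h
    have := conj_mem_cj (g := g) h
    have e : g * (g⁻¹ * x * g) * g⁻¹ = x := by group
    rwa [e] at this

theorem cj_mul (g h : G) (N : Subgroup G) : cj g (cj h N) = cj (g * h) N := by
  ext x
  rw [mem_cj, mem_cj, mem_cj]
  have : h⁻¹ * (g⁻¹ * x * g) * h = (g * h)⁻¹ * x * (g * h) := by group
  rw [this]

theorem cj_one (N : Subgroup G) : cj 1 N = N := by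
  ext x
  rw [mem_cj]
  simp

theorem cj_inv_cj (g : G) (N : Subgroup G) : cj g⁻¹ (cj g N) = N := by
  rw [cj_mul, inv_mul_cancel, cj_one]

theorem cj_cj_inv (g : G) (N : Subgroup G) : cj g (cj g⁻¹ N) = N := by
  rw [cj_mul, mul_inv_cancel, cj_one]

theorem cj_inj {g : G} {N L : Subgroup G} (h : cj g N = cj g L) : N = L := by
  rw [← cj_inv_cj g N, h, cj_inv_cj]

theorem card_cj (g : G) (N : Subgroup G) : Nat.card (cj g N) = Nat.card N :=
  (Nat.card_congr (N.equivMapOfInjective (MulAut.conj g).toMonoidHom (MulAut.conj g).injective).toEquiv).symm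

theorem cj_eq {g : G} {N : Subgroup G} (h : ∀ x ∈ N, g * x * g⁻¹ ∈ N) (h' : ∀ x ∈ N, g⁻¹ * x * g ∈ N) :
    cj g N = N := by
  ext x
  rw [mem_cj]
  constructor
  · intro hx
    have := h _ hx
    have e : g * (g⁻¹ * x * g) * g⁻¹ = x := by group
    rwa [e] at this
  · exact h' x

/-- an element commuting with `N` -/
theorem cj_eq_of_comm {g : G} {N : Subgroup G} (h : ∀ x ∈ N, g * x = x * g) : cj g N = N := by
  apply cj_eq
  · intro x hx
    rw [h x hx, mul_inv_cancel_right]; exact hx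
  · intro x hx
    have : g⁻¹ * x * g = x := by rw [mul_assoc, ← h x hx, inv_mul_cancel_left]
    rw [this]; exact hx

theorem cj_eq_of_mem {g : G} {N : Subgroup G} (h : g ∈ N) : cj g N = N :=
  cj_eq (fun _ hx => N.mul_mem (N.mul_mem h hx) (N.inv_mem h))
    (fun _ hx => N.mul_mem (N.mul_mem (N.inv_mem h) hx) h)

end Cj

section Comp

variable {G : Type u} [Group G]

theorem compOf_cj {w : G} {N : Subgroup G} (h : CompOf w N) (g : G) :
    CompOf (g * w * g⁻¹) (cj g N) := by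
  have h1 := DistinctComponents.isComponent_subgroupOf_conj h.1 h.2 g
  rw [DistinctComponents.map_conj_centralizer_singleton] at h1
  refine ⟨?_, h1⟩
  rw [← DistinctComponents.map_conj_centralizer_singleton]
  exact map_mono h.1

theorem compOf_cj' {w g : G} (hg : g * w = w * g) {N : Subgroup G} (h : CompOf w N) :
    CompOf w (cj g N) := by
  have h1 := compOf_cj h g
  rwa [mul_inv_eq_iff_eq_mul.2 hg] at h1

theorem compOf_comm [Finite G] {w : G} {N L : Subgroup G} (hN : CompOf w N) (hL : CompOf w L)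
    (hne : N ≠ L) : ∀ x ∈ N, ∀ y ∈ L, x * y = y * x := by
  have hne' : N.subgroupOf (centralizer ({w} : Set G)) ≠ L.subgroupOf (centralizer ({w} : Set G)) := by
    intro h
    apply hne
    have := congrArg (Subgroup.map (centralizer ({w} : Set G)).subtype) h
    rwa [subgroupOf_map_subtype, subgroupOf_map_subtype, inf_of_le_left hN.1, inf_of_le_left hL.1] at this
  have h1 := Components.component_le_centralizer_of_ne hN.2 hL.2 hne'
  intro x hx y hy
  have h2 := h1 (show (⟨x, hN.1 hx⟩ : centralizer ({w} : Set G)) ∈ N.subgroupOf _ from hx)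
  have h3 := mem_centralizer_iff.1 h2 ⟨y, hL.1 hy⟩ hy
  exact (congrArg Subtype.val h3).symm

/-- members of a component normalize every component -/
theorem compOf_cj_eq [Finite G] {w : G} {N L : Subgroup G} (hN : CompOf w N) (hL : CompOf w L) {x : G}
    (hx : x ∈ N) : cj x L = L := by
  by_cases h : N = L
  · subst h; exact cj_eq_of_mem hx
  · exact cj_eq_of_comm fun y hy => compOf_comm hN hL h x hx y hy

end Comp

section QS

variable {G : Type*} [Group G]

theorem qs_perf {J : Subgroup G} (hJ : IsQuasisimple J) : ⁅J, J⁆ = J := by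
  have := hJ.1
  exact Subgroup.commutator_eq_self

theorem qs_dich {J R : Subgroup G} (hJ : IsQuasisimple J) (hR : R ≤ J)
    (hn : ∀ j ∈ J, ∀ r ∈ R, j * r * j⁻¹ ∈ R) : R = J ∨ ∀ r ∈ R, ∀ j ∈ J, j * r = r * j := by
  have h1 : (R.subgroupOf J).Normal := ⟨fun n hn' g => hn g g.2 n hn'⟩
  rcases Components.quasisimple_normal hJ (R.subgroupOf J) h1 with h | h
  · left
    exact le_antisymm hR (subgroupOf_eq_top.1 h)
  · right
    intro r hr j hj
    have h2 := mem_center_iff.1 (h (show (⟨r, hR hr⟩ : J) ∈ R.subgroupOf J from hr)) ⟨j, hj⟩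
    exact congrArg Subtype.val h2

/-- a perfect subgroup which is commutative is trivial -/
theorem perf_comm {P : Subgroup G} (hP : ⁅P, P⁆ = P) (hc : ∀ x ∈ P, ∀ y ∈ P, x * y = y * x) : P = ⊥ := by
  rw [← hP, eq_bot_iff, Subgroup.commutator_le]
  intro x hx y hy
  rw [mem_bot, commutatorElement_eq_one_iff_mul_comm]
  exact hc x hx y hy

theorem qs_ne_bot {J : Subgroup G} (hJ : IsQuasisimple J) : J ≠ ⊥ := by
  rintro rfl
  have h1 := Components.quasisimple_not_isMulCommutative hJ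
  exact h1 ⟨⟨fun x y => Subsingleton.elim _ _⟩⟩

theorem qs_not_comm {J : Subgroup G} (hJ : IsQuasisimple J) : ¬ ∀ x ∈ J, ∀ y ∈ J, x * y = y * x :=
  fun h => qs_ne_bot hJ (perf_comm (qs_perf hJ) h)

/-- `Z₂ = Z` in a perfect group -/
theorem perf_two {J : Subgroup G} (hJ : ⁅J, J⁆ = J) {x : G} (hx : x ∈ J)
    (h : ∀ y ∈ J, ∀ z ∈ J, ⁅x, y⁆ * z = z * ⁅x, y⁆) : ∀ y ∈ J, x * y = y * x := by
  -- `C_J(x)` contains the commutators
  have hmul : ∀ y ∈ J, ∀ z ∈ J, ⁅x, y * z⁆ = ⁅x, y⁆ * ⁅x, z⁆ := by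
    intro y hy z hz
    have h1 : ⁅x, z⁆ ∈ J := by
      rw [commutatorElement_def]
      exact J.mul_mem (J.mul_mem (J.mul_mem hx hz) (J.inv_mem hx)) (J.inv_mem hz)
    have h2 := h z hz y hy
    calc ⁅x, y * z⁆ = ⁅x, y⁆ * (y * ⁅x, z⁆ * y⁻¹) := by
          simp only [commutatorElement_def]; group
      _ = ⁅x, y⁆ * (⁅x, z⁆ * y * y⁻¹) := by rw [h2]
      _ = ⁅x, y⁆ * ⁅x, z⁆ := by group
  have hinv : ∀ y ∈ J, ⁅x, y⁻¹⁆ = ⁅x, y⁆⁻¹ := by
    intro y hy
    have h1 := hmul y hy y⁻¹ (J.inv_mem hy)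
    rw [mul_inv_cancel, commutatorElement_one_right] at h1
    exact (inv_eq_of_mul_eq_one_right h1.symm).symm
  have key : ⁅J, J⁆ ≤ centralizer ({x} : Set G) := by
    rw [Subgroup.commutator_le]
    intro y hy z hz
    rw [mem_centralizer_singleton_iff]
    have hy' := J.inv_mem hy
    have hz' := J.inv_mem hz
    have h1 : ⁅x, ⁅y, z⁆⁆ = 1 := by
      rw [commutatorElement_def y z, hmul _ (J.mul_mem (J.mul_mem hy hz) hy') _ hz',
        hmul _ (J.mul_mem hy hz) _ hy', hmul _ hy _ hz, hinv y hy, hinv z hz]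
      have h2 : ⁅x, z⁆ ∈ J := by
        rw [commutatorElement_def]
        exact J.mul_mem (J.mul_mem (J.mul_mem hx hz) (J.inv_mem hx)) (J.inv_mem hz)
      have h3 := h y hy _ h2
      calc ⁅x, y⁆ * ⁅x, z⁆ * ⁅x, y⁆⁻¹ * ⁅x, z⁆⁻¹ = ⁅x, z⁆ * ⁅x, y⁆ * ⁅x, y⁆⁻¹ * ⁅x, z⁆⁻¹ := by rw [h3]
        _ = 1 := by group
    rw [commutatorElement_eq_one_iff_mul_comm] at h1
    exact h1.symm
  intro y hy
  rw [← hJ] at hy
  exact (mem_centralizer_singleton_iff.1 (key hy)).symm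

end QS

/-- `N` is quasisimple and commutes with `N^t`, `t` an involution -/
structure Dg {G : Type*} [Group G] (t : G) (N : Subgroup G) : Prop where
  tt : t * t = 1
  qs : IsQuasisimple N
  comm : ∀ x ∈ N, ∀ y ∈ N, x * (t * y * t⁻¹) = t * y * t⁻¹ * x

namespace Dg

variable {G : Type*} [Group G] {t : G} {N : Subgroup G}

/-- `n ↦ n n^t` -/
def hom (D : Dg t N) : N →* G where
  toFun n := n * (t * n * t⁻¹)
  map_one' := by simp
  map_mul' x y := by
    have h := D.comm y y.2 x x.2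
    show (x : G) * y * (t * (x * y) * t⁻¹) = x * (t * x * t⁻¹) * (y * (t * y * t⁻¹))
    calc (x : G) * y * (t * (x * y) * t⁻¹) = x * (y * (t * x * t⁻¹)) * (t * y * t⁻¹) := by group
      _ = x * (t * x * t⁻¹ * y) * (t * y * t⁻¹) := by rw [h]
      _ = x * (t * x * t⁻¹) * (y * (t * y * t⁻¹)) := by group

theorem hom_apply (D : Dg t N) (n : N) : D.hom n = n * (t * n * t⁻¹) := rfl

/-- `P = {n n^t}` -/
def P (D : Dg t N) : Subgroup G := D.hom.range

theorem mem_P (D : Dg t N) {x : G} : x ∈ D.P ↔ ∃ n ∈ N, n * (t * n * t⁻¹) = x := by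
  constructor
  · rintro ⟨n, rfl⟩
    exact ⟨n, n.2, rfl⟩
  · rintro ⟨n, hn, rfl⟩
    exact ⟨⟨n, hn⟩, rfl⟩

theorem P_perf (D : Dg t N) : ⁅D.P, D.P⁆ = D.P := by
  have := D.qs.1
  have h1 : ⁅(⊤ : Subgroup N), (⊤ : Subgroup N)⁆ = ⊤ := Group.IsPerfect.commutator_eq_top
  unfold P
  rw [MonoidHom.range_eq_map, ← Subgroup.map_commutator, h1]

theorem t_inv (D : Dg t N) : t⁻¹ = t := inv_eq_of_mul_eq_one_left D.tt

theorem conj_conj (D : Dg t N) (x : G) : t * (t * x * t⁻¹) * t⁻¹ = x := by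
  have h1 := D.t_inv
  calc t * (t * x * t⁻¹) * t⁻¹ = (t * t) * x * (t⁻¹ * t⁻¹) := by group
    _ = (t * t) * x * (t * t) := by rw [h1]
    _ = x := by rw [D.tt]; group

theorem P_comm (D : Dg t N) {x : G} (hx : x ∈ D.P) : x * t = t * x := by
  obtain ⟨n, hn, rfl⟩ := D.mem_P.1 hx
  have h1 := D.comm n hn n hn
  have h2 := D.t_inv
  have h3 : t * (n * (t * n * t⁻¹)) * t⁻¹ = n * (t * n * t⁻¹) := by
    calc t * (n * (t * n * t⁻¹)) * t⁻¹ = (t * n * t⁻¹) * (t * (t * n * t⁻¹) * t⁻¹) := by group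
      _ = (t * n * t⁻¹) * n := by rw [D.conj_conj]
      _ = n * (t * n * t⁻¹) := h1.symm
  exact (mul_inv_eq_iff_eq_mul.1 h3).symm

/-- the kernel of `n ↦ n n^t` is central -/
theorem ker_le (D : Dg t N) : D.hom.ker ≤ center N := by
  intro n hn
  rw [MonoidHom.mem_ker, hom_apply] at hn
  rw [mem_center_iff]
  intro m
  apply Subtype.ext
  show (m : G) * n = n * m
  have h1 : t * (n : G) * t⁻¹ = (n : G)⁻¹ := eq_inv_of_mul_eq_one_right hn
  have h2 := D.comm m m.2 n n.2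
  rw [h1] at h2
  calc (m : G) * n = n * ((n : G)⁻¹ * m) * n := by group
    _ = n * (m * (n : G)⁻¹) * n := by rw [h2]
    _ = n * m := by group

theorem P_ne_bot (D : Dg t N) : D.P ≠ ⊥ := by
  intro h
  have h1 : D.hom.ker = ⊤ := by
    have h0 : D.hom = 1 := MonoidHom.range_eq_bot_iff.1 h
    rw [h0, MonoidHom.ker_one]
  have h2 := D.ker_le
  rw [h1, top_le_iff] at h2
  exact Components.quasisimple_center_ne_top D.qs h2

/-- a prime dividing `|N|` divides `|P|` if `Z(N)` is a 2-group -/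
theorem dvd_P [Finite G] (D : Dg t N) (hZ : IsPGroup 2 (center N)) {p : ℕ} (hp : p.Prime) (hp2 : p ≠ 2)
    (hd : p ∣ Nat.card N) : p ∣ Nat.card D.P := by
  have h1 := D.hom.ker.card_mul_index
  rw [Subgroup.index_ker] at h1
  rw [← h1] at hd
  rcases hp.dvd_mul.1 hd with h | h
  · exfalso
    have h2 : IsPGroup 2 D.hom.ker := hZ.to_le D.ker_le
    have : Fact (Nat.Prime 2) := ⟨Nat.prime_two⟩
    obtain ⟨k, hk⟩ := IsPGroup.iff_card.1 h2
    rw [hk] at h
    exact hp2 ((Nat.prime_dvd_prime_iff_eq hp Nat.prime_two).1 (hp.dvd_of_dvd_pow h))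
  · exact h

/-- the centre of `P` comes from the centre of `N` -/
theorem cen_P (D : Dg t N) {n : G} (hn : n ∈ N)
    (hc : ∀ x ∈ D.P, n * (t * n * t⁻¹) * x = x * (n * (t * n * t⁻¹))) : ∀ m ∈ N, n * m = m * n := by
  apply perf_two (qs_perf D.qs) hn
  intro m hm z hz
  -- `[n, m]` is in `N ∩ N^t`
  have e0 : ∀ x ∈ N, ∀ y ∈ N, t * x * t⁻¹ * y = y * (t * x * t⁻¹) := fun x hx y hy => (D.comm y hy x hx).symm
  have h1 := hc _ (D.mem_P.2 ⟨m, hm, rfl⟩)
  have h2 : n * m * (t * (n * m) * t⁻¹) = m * n * (t * (m * n) * t⁻¹) := by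
    calc n * m * (t * (n * m) * t⁻¹) = n * (m * (t * n * t⁻¹)) * (t * m * t⁻¹) := by group
      _ = n * (t * n * t⁻¹ * m) * (t * m * t⁻¹) := by rw [D.comm m hm n hn]
      _ = n * (t * n * t⁻¹) * (m * (t * m * t⁻¹)) := by group
      _ = m * (t * m * t⁻¹) * (n * (t * n * t⁻¹)) := h1
      _ = m * (t * m * t⁻¹ * n) * (t * n * t⁻¹) := by group
      _ = m * (n * (t * m * t⁻¹)) * (t * n * t⁻¹) := by rw [D.comm n hn m hm]
      _ = m * n * (t * (m * n) * t⁻¹) := by group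
  -- `(m n)⁻¹ (n m) = (t m n t⁻¹) (t n m t⁻¹)⁻¹`
  have h3 : (m * n)⁻¹ * (n * m) = t * ((m * n) * (n * m)⁻¹) * t⁻¹ := by
    calc (m * n)⁻¹ * (n * m) = (m * n)⁻¹ * (n * m * (t * (n * m) * t⁻¹)) * (t * (n * m) * t⁻¹)⁻¹ := by group
      _ = (m * n)⁻¹ * (m * n * (t * (m * n) * t⁻¹)) * (t * (n * m) * t⁻¹)⁻¹ := by rw [h2]
      _ = t * ((m * n) * (n * m)⁻¹) * t⁻¹ := by group
  have hmn : (m * n) * (n * m)⁻¹ ∈ N := N.mul_mem (N.mul_mem hm hn) (N.inv_mem (N.mul_mem hn hm))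
  -- so `c = (m n)⁻¹ (n m)` is central in `N`
  have h4 : ∀ y ∈ N, (m * n)⁻¹ * (n * m) * y = y * ((m * n)⁻¹ * (n * m)) := by
    intro y hy
    rw [h3]
    exact e0 _ hmn y hy
  have h5 : ⁅n, m⁆ = (m * n)⁻¹ * (n * m) := by
    have h6 := h4 (m * n) (N.mul_mem hm hn)
    calc ⁅n, m⁆ = (n * m) * (m * n)⁻¹ := by rw [commutatorElement_def]; group
      _ = (m * n) * ((m * n)⁻¹ * (n * m)) * (m * n)⁻¹ := by group
      _ = ((m * n)⁻¹ * (n * m) * (m * n)) * (m * n)⁻¹ := by rw [h6]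
      _ = (m * n)⁻¹ * (n * m) := by group
  rw [h5]
  exact h4 z hz

end Dg

end Cfsg.Agent.OddHalf.D8.Fi23
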